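import Mathlib
import Groth.Agent.AdicLemmas.Basic
import Groth.Agent.S17334
import Groth.Agent.DVRCrit.Field

/-!
# Fractions that are regular on the punctured spectrum of a complete local domain are integral
-/

set_option autoImplicit false
universe u

open IsLocalRing Polynomial

namespace Groth.Agent.PurityLib

theorem isAdicComplete_finite {D C : Type u} [CommRing D] [CommRing C] [Algebra D C]
    (I : Ideal D) [IsAdicComplete I D] [Module.Finite D C] [IsHausdorff I C] :
    IsAdicComplete I C := by
  obtain ⟨s, q, hq⟩ := Module.Finite.exists_fin' D C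
  have hP : IsPrecomplete I C := by
    rw [← AdicCompletion.of_surjective_iff]
    intro y
    obtain ⟨w, rfl⟩ := AdicCompletion.map_surjective (I := I) hq y
    choose c hc using fun j => AdicCompletion.of_surjective I D
      (AdicCompletion.pi I (fun _ : Fin s => D) w j)
    refine ⟨q c, ?_⟩
    rw [← AdicCompletion.map_of]
    congr 1
    refine (AdicCompletion.piEquivFin I s).injective ?_
    rw [AdicCompletion.piEquivFin_apply, AdicCompletion.piEquivFin_apply]
    funext j
    rw [← hc j]
    exact AdicCompletion.map_of I (LinearMap.proj (R := D) (φ := fun _ : Fin s => D) j) c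
  exact { toIsPrecomplete := hP, toIsHausdorff := ‹_› }

/-- A finite domain over a complete noetherian local ring is local. -/
theorem isLocalRing_finite_domain {D C : Type u} [CommRing D] [IsLocalRing D] [IsNoetherianRing D]
    [IsAdicComplete (maximalIdeal D) D] [CommRing C] [IsDomain C] [Algebra D C] [Module.Finite D C]
    (hne : (maximalIdeal D).map (algebraMap D C) ≠ ⊤) : IsLocalRing C := by
  let J := (maximalIdeal D).map (algebraMap D C)
  have : IsNoetherianRing C := IsNoetherianRing.of_finite D C
  have : IsHausdorff J C := IsHausdorff.of_isDomain _ hne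
  have : IsHausdorff (maximalIdeal D) C := IsHausdorff.map_algebraMap_iff.1 ‹_›
  have := isAdicComplete_finite (C := C) (maximalIdeal D)
  have : IsAdicComplete J C := (IsAdicComplete.map_algebraMap_iff (S := C) _ _).2 inferInstance
  have : Nontrivial (C ⧸ J) := Ideal.Quotient.nontrivial_iff.mpr hne
  letI : Field (D ⧸ maximalIdeal D) := Ideal.Quotient.field _
  letI : Algebra (D ⧸ maximalIdeal D) (C ⧸ J) :=
    Ideal.Quotient.algebraQuotientOfLEComap Ideal.le_comap_map
  haveI : IsScalarTower D (D ⧸ maximalIdeal D) (C ⧸ J) := IsScalarTower.of_algebraMap_eq fun _ => rfl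
  have : Module.Finite (D ⧸ maximalIdeal D) (C ⧸ J) := Module.Finite.of_restrictScalars_finite D _ _
  have hloc : IsLocalRing (C ⧸ J) := by
    refine (Groth.Agent.S17334.result (D ⧸ maximalIdeal D) (C ⧸ J)).mp fun e he => ?_
    obtain ⟨a, rfl⟩ := Ideal.Quotient.mk_surjective e
    obtain ⟨z, hz, hza⟩ := HenselianRing.is_henselian (I := J) (X ^ 2 - X : C[X])
      (by monicity!) a (by
        rw [← Ideal.Quotient.eq_zero_iff_mem]
        simp only [pow_two, eval_sub, eval_mul, eval_X, map_sub, map_mul, he.eq, sub_self]) (by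
        refine IsUnit.of_mul_eq_one (Ideal.Quotient.mk J ((X ^ 2 - X : C[X]).derivative.eval a)) ?_
        simp only [derivative_sub, derivative_X_pow, derivative_X, Nat.cast_ofNat, eval_sub,
          eval_mul, eval_C, eval_pow, eval_X, eval_one, eval_ofNat, map_sub, map_mul, map_one,
          Nat.add_one_sub_one, pow_one, map_ofNat]
        linear_combination (4 : C ⧸ J) * he.eq)
    rw [← Ideal.Quotient.eq] at hza
    rw [← hza]
    have hz' : z * (z - 1) = 0 := by
      have : eval z (X ^ 2 - X : C[X]) = 0 := hz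
      simp only [eval_sub, eval_pow, eval_X] at this
      linear_combination this
    rcases mul_eq_zero.mp hz' with h | h
    · left; rw [h, map_zero]
    · right; rw [sub_eq_zero.mp h, map_one]
  refine IsLocalRing.of_unique_max_ideal ⟨(maximalIdeal (C ⧸ J)).comap (Ideal.Quotient.mk J),
    Ideal.comap_isMaximal_of_surjective _ Ideal.Quotient.mk_surjective, fun M hM => ?_⟩
  have hJM : J ≤ M := (IsAdicComplete.le_jacobson_bot J).trans (sInf_le ⟨bot_le, hM⟩)
  refine hM.eq_of_le (Ideal.IsMaximal.ne_top
    (Ideal.comap_isMaximal_of_surjective _ Ideal.Quotient.mk_surjective)) ?_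
  have hne' : M.map (Ideal.Quotient.mk J) ≠ ⊤ := by
    intro h
    have := Ideal.comap_map_of_surjective' (Ideal.Quotient.mk J) Ideal.Quotient.mk_surjective M
    rw [h, Ideal.comap_top, Ideal.mk_ker, sup_eq_left.mpr hJM] at this
    exact hM.ne_top this.symm
  exact Ideal.le_comap_of_map_le (IsLocalRing.le_maximalIdeal hne')

/-- For a complete local domain `D` having a prime different from `⊥` and `m`, a fraction lying in
all localizations at non-maximal primes is integral over `D`. -/
theorem isIntegral_of_punctured {D K : Type u} [CommRing D] [IsDomain D] [IsLocalRing D]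
    [IsNoetherianRing D] [IsAdicComplete (maximalIdeal D) D] [Field K] [Algebra D K] [IsFractionRing D K]
    (p0 : Ideal D) [p0.IsPrime] (hp0 : p0 ≠ ⊥) (hp0m : p0 ≠ maximalIdeal D) (b : K)
    (hb : ∀ p : Ideal D, p.IsPrime → p ≠ maximalIdeal D →
      ∃ r s : D, s ∉ p ∧ algebraMap D K s * b = algebraMap D K r) :
    IsIntegral D b := by
  by_cases hb0 : b = 0
  · rw [hb0]; exact isIntegral_zero
  by_contra hnot
  have hm0 : maximalIdeal D ≠ ⊥ := fun h => hp0 (le_bot_iff.mp (h ▸ le_maximalIdeal ‹p0.IsPrime›.ne_top))
  have hDinj : Function.Injective (algebraMap D K) := IsFractionRing.injective D K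
  let C := Algebra.adjoin D ({b⁻¹} : Set K)
  let uC : C := ⟨b⁻¹, Algebra.subset_adjoin rfl⟩
  have hCinj : Function.Injective (algebraMap D C) := by
    intro x y h; apply hDinj
    exact congrArg Subtype.val h
  have : Algebra.FiniteType D C := ⟨Subalgebra.fg_top _ |>.mpr ⟨{b⁻¹}, by simp [C]⟩⟩
  have : IsNoetherianRing C := Algebra.FiniteType.isNoetherianRing D C
  have hu : ¬ IsUnit uC := by
    rintro ⟨w, hw⟩
    apply hnot
    have hbC : b ∈ C := by
      have h1 : ((↑w⁻¹ : C) : K) * b⁻¹ = 1 := by
        have := congrArg Subtype.val (Units.inv_mul w)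
        rw [hw] at this
        exact this
      have : ((↑w⁻¹ : C) : K) = b := by
        rw [← mul_inv_eq_one₀ hb0]; exact h1
      rw [← this]; exact Subtype.coe_prop _
    exact Groth.Agent.DVRCrit.isIntegral_of_mem_adjoin_inv hb0 hbC
  have hu0 : uC ≠ 0 := fun h => inv_ne_zero hb0 (congrArg Subtype.val h)
  have hover : ∀ P : Ideal C, P.IsPrime → uC ∈ P → P.comap (algebraMap D C) = maximalIdeal D := by
    intro P hP huP
    by_contra hne
    obtain ⟨r, s, hs, e⟩ := hb _ (hP.comap _) hne
    apply hs
    have : algebraMap D C s = algebraMap D C r * uC := by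
      apply Subtype.ext
      show algebraMap D K s = algebraMap D K r * b⁻¹
      rw [← e, mul_assoc, mul_inv_cancel₀ hb0, mul_one]
    show algebraMap D C s ∈ P
    rw [this]; exact P.mul_mem_left _ huP
  obtain ⟨P, hP⟩ := Ideal.nonempty_minimalPrimes (I := Ideal.span {uC})
    (by rwa [Ne, Ideal.span_singleton_eq_top])
  have := hP.1.1
  have huP : uC ∈ P := hP.1.2 (Ideal.subset_span rfl)
  have hht : P.height ≤ 1 := Ideal.height_le_one_of_isPrincipal_of_mem_minimalPrimes _ P hP
  let J := (maximalIdeal D).map (algebraMap D C)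
  have hJP : J ≤ P := Ideal.map_le_iff_le_comap.mpr (hover P this huP).ge
  have hJ0 : J ≠ ⊥ := fun h => hm0 ((Ideal.map_eq_bot_iff_of_injective hCinj).mp h)
  let ψ : D[X] →ₐ[D] C := aeval uC
  have hψ : Function.Surjective ψ := by
    rintro ⟨x, hx⟩
    have hx' : x ∈ (aeval (R := D) b⁻¹).range := by
      rw [← Algebra.adjoin_singleton_eq_range_aeval]; exact hx
    obtain ⟨f, hf⟩ := hx'
    exact ⟨f, Subtype.ext ((aeval_subalgebra_coe f C uC).trans hf)⟩
  let I := J.comap ψ.toRingHom
  have hCm : (maximalIdeal D).map Polynomial.C ≤ I := by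
    rw [Ideal.map_le_iff_le_comap]
    intro x hx
    show ψ (Polynomial.C x) ∈ J
    rw [aeval_C]; exact Ideal.mem_map_of_mem _ hx
  by_cases hI : I ≤ (maximalIdeal D).map Polynomial.C
  · -- the special fibre is the affine line, so `m C` is a prime strictly inside `P`
    have hIeq : I = (maximalIdeal D).map Polynomial.C := le_antisymm hI hCm
    have : J.IsPrime := by
      have hIp : I.IsPrime := hIeq ▸ Ideal.isPrime_map_C_of_isPrime (P := maximalIdeal D)
      have := Ideal.map_isPrime_of_surjective (f := ψ.toRingHom) hψ (I := I)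
        (fun x hx => by show ψ x ∈ J; rw [RingHom.mem_ker] at hx; rw [show ψ x = 0 from hx]; exact zero_mem _)
      have e : I.map ψ.toRingHom = J := Ideal.map_comap_of_surjective ψ.toRingHom hψ J
      rwa [e] at this
    have hne : J ≠ P := by
      intro h
      have hX : (X : D[X]) ∈ I := by show ψ X ∈ J; rw [aeval_X, h]; exact huP
      rw [hIeq, Ideal.mem_map_C_iff] at hX
      have := hX 1
      rw [coeff_X_one] at this
      exact (maximalIdeal.isMaximal D).ne_top ((Ideal.eq_top_iff_one _).mpr this)
    have h1 := Ideal.height_strict_mono_of_isPrime (lt_of_le_of_ne hJP hne)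
    have h2 : (1 : ℕ∞) ≤ J.height := by
      rw [Order.one_le_iff_ne_zero, Ne, Ideal.height_eq_zero_iff, IsDomain.minimalPrimes_eq_singleton_bot]
      exact hJ0
    exact absurd (hht.trans h2) (not_le.mpr h1)
  · -- the special fibre is finite, so `C` is finite over `D`
    obtain ⟨f, hfI, hf⟩ := SetLike.not_le_iff_exists.mp hI
    let g := f.map (residue D)
    have hg : g ≠ 0 := by
      intro h
      apply hf
      rw [Ideal.mem_map_C_iff]
      intro n
      have := congrArg (fun q => coeff q n) h
      simp only [g, coeff_map, coeff_zero] at this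
      exact (residue_eq_zero_iff _).mp this
    obtain ⟨c, hc⟩ := residue_surjective g.leadingCoeff⁻¹
    have hlift : (g * Polynomial.C g.leadingCoeff⁻¹) ∈ lifts (residue D) := ⟨f * Polynomial.C c, by
      rw [coe_mapRingHom, Polynomial.map_mul, map_C, hc]⟩
    obtain ⟨q, hq, -, hqm⟩ := lifts_and_natDegree_eq_and_monic hlift (monic_mul_leadingCoeff_inv hg)
    have hqI : q ∈ I := by
      have hdiff : q - f * Polynomial.C c ∈ (maximalIdeal D).map Polynomial.C := by
        rw [Ideal.mem_map_C_iff]
        intro n
        rw [← residue_eq_zero_iff, ← coeff_map, Polynomial.map_sub, hq, Polynomial.map_mul, map_C, hc,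
          sub_self, coeff_zero]
      have := I.add_mem (hCm hdiff) (I.mul_mem_right (Polynomial.C c) hfI)
      rwa [sub_add_cancel] at this
    have hint : IsIntegral D (Ideal.Quotient.mk J uC) := by
      refine ⟨q, hqm, ?_⟩
      have h1 : Ideal.Quotient.mkₐ D J (ψ q) = 0 := Ideal.Quotient.eq_zero_iff_mem.mpr hqI
      rw [← aeval_algHom_apply] at h1
      exact h1
    have hfin : Module.Finite D (C ⧸ J) := by
      have htop : (⊤ : Subalgebra D (C ⧸ J)) = Algebra.adjoin D {Ideal.Quotient.mk J uC} := by
        symm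
        rw [eq_top_iff]
        rintro x -
        obtain ⟨x, rfl⟩ := Ideal.Quotient.mk_surjective x
        obtain ⟨h, rfl⟩ := hψ x
        rw [Algebra.adjoin_singleton_eq_range_aeval]
        exact ⟨h, aeval_algHom_apply (Ideal.Quotient.mkₐ D J) uC h⟩
      refine ⟨?_⟩
      rw [← Algebra.top_toSubmodule, htop]
      exact hint.fg_adjoin_singleton
    have hJtop : J ≠ ⊤ := fun h => ‹P.IsPrime›.ne_top (top_le_iff.mp (h ▸ hJP))
    have : IsHausdorff J C := IsHausdorff.of_isDomain _ hJtop
    have : IsHausdorff (maximalIdeal D) C := IsHausdorff.map_algebraMap_iff.1 ‹_›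
    have : Module.Finite D C := by
      apply Groth.Agent.AdicLemmas.module_finite_of_quotient_finite (maximalIdeal D) C
      rw [Ideal.smul_top_eq_map]
      exact hfin
    have := isLocalRing_finite_domain (C := C) hJtop
    have hPmax : P.IsMaximal := by
      have : (P.comap (algebraMap D C)).IsMaximal := by
        rw [hover P ‹_› huP]; infer_instance
      exact Ideal.isMaximal_of_isIntegral_of_isMaximal_comap P this
    obtain ⟨Q, -, hQp, hQ⟩ := Ideal.exists_ideal_over_prime_of_isIntegral p0 (⊥ : Ideal C)
      (le_of_eq_of_le ((Ideal.comap_bot_of_injective _ hCinj)) bot_le)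
    have hQ0 : Q ≠ ⊥ := fun h => hp0 (by rw [← hQ, h]; exact Ideal.comap_bot_of_injective _ hCinj)
    have hQP : Q < P := by
      refine lt_of_le_of_ne ((le_maximalIdeal hQp.ne_top).trans (eq_maximalIdeal hPmax).ge) fun h => hp0m ?_
      rw [← hQ, h]; exact hover P ‹_› huP
    have h1 := Ideal.height_strict_mono_of_isPrime hQP
    have h2 : (1 : ℕ∞) ≤ Q.height := by
      rw [Order.one_le_iff_ne_zero, Ne, Ideal.height_eq_zero_iff, IsDomain.minimalPrimes_eq_singleton_bot]
      exact hQ0
    exact absurd (hht.trans h2) (not_le.mpr h1)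

/-- No identity `Σ fᵢ bᵢ = 1` with `fᵢ ∈ m` among fractions integral over `D`. -/
theorem sum_ne_one_of_isIntegral {D K : Type u} [CommRing D] [IsLocalRing D] [Field K] [Algebra D K]
    (hinj : Function.Injective (algebraMap D K)) {ι : Type*} (s : Finset ι) (f : ι → D) (b : ι → K)
    (hf : ∀ i, f i ∈ maximalIdeal D) (hb : ∀ i, IsIntegral D (b i)) :
    ∑ i ∈ s, algebraMap D K (f i) * b i ≠ 1 := by
  intro h
  obtain ⟨Q, -, hQp, hQ⟩ := Ideal.exists_ideal_over_prime_of_isIntegral (maximalIdeal D)
    (⊥ : Ideal (integralClosure D K))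
    (le_of_eq_of_le (Ideal.comap_bot_of_injective _ (fun x y e => hinj (congrArg Subtype.val e))) bot_le)
  apply hQp.ne_top
  rw [Ideal.eq_top_iff_one]
  have : (1 : integralClosure D K) = ∑ i ∈ s, algebraMap D _ (f i) * (⟨b i, hb i⟩ : integralClosure D K) := by
    apply Subtype.ext
    rw [AddSubmonoidClass.coe_finsetSum]
    exact h.symm
  rw [this]
  refine Q.sum_mem fun i _ => Q.mul_mem_right _ ?_
  rw [← Ideal.mem_comap, hQ]; exact hf i

end Groth.Agent.PurityLib
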