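import Groth.Agent.WildQuotLib.SOP
import Groth.Agent.SMT.Dimension
import Groth.Agent.ZetaPts.Alg

/-!
A regular local ring finite over a regular local ring is free (miracle flatness, finite case).
-/

set_option autoImplicit false
set_option linter.style.haveILetI false
universe u v
open RingTheory.Sequence IsLocalRing
open scoped Pointwise

namespace Groth.Agent.PurityLib

theorem free_of_isWeaklyRegular : ∀ (l : ℕ) (R : Type u) [CommRing R] [IsLocalRing R] [IsNoetherianRing R]
    (M : Type v) [AddCommGroup M] [Module R M] [Module.Finite R M] (rs : List R), rs.length = l →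
    maximalIdeal R = Ideal.ofList rs → IsWeaklyRegular M rs → Module.Free R M := by
  intro l
  induction l with
  | zero =>
    intro R _ _ _ M _ _ _ rs hrs hm _
    rw [List.length_eq_zero_iff.1 hrs, Ideal.ofList_nil] at hm
    letI := (isField_iff_maximalIdeal_eq.2 hm).toField
    exact Module.Free.of_divisionRing R M
  | succ l ih =>
    intro R _ _ _ M _ _ _ rs hrs hm hreg
    obtain ⟨t, rs, rfl⟩ : ∃ t ts, rs = t :: ts := List.exists_cons_of_length_eq_add_one hrs
    obtain ⟨ht, hts⟩ := (isWeaklyRegular_cons_iff' M t rs).1 hreg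
    have htm : t ∈ maximalIdeal R := hm ▸ Ideal.subset_span (List.mem_cons_self)
    haveI : Nontrivial (R ⧸ Ideal.span {t}) := Ideal.Quotient.nontrivial_iff.2 fun h =>
      (maximalIdeal.isMaximal R).ne_top (top_le_iff.1 (h ▸ Ideal.span_le.2 (Set.singleton_subset_iff.2 htm)))
    haveI : IsLocalRing (R ⧸ Ideal.span {t}) := IsLocalRing.of_surjective' _ Ideal.Quotient.mk_surjective
    have hm' : maximalIdeal (R ⧸ Ideal.span {t}) = Ideal.ofList (rs.map (Ideal.Quotient.mk (Ideal.span {t}))) := by
      rw [← IsLocalRing.map_maximalIdeal_of_surjective _ Ideal.Quotient.mk_surjective, hm, Ideal.ofList_cons,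
        Ideal.map_sup, Ideal.map_quotient_self, bot_sup_eq, Ideal.map_ofList]
    haveI : Module.Finite (R ⧸ Ideal.span {t}) (QuotSMulTop t M) := Module.Finite.of_restrictScalars_finite R _ _
    haveI := ih (R ⧸ Ideal.span {t}) (QuotSMulTop t M) _ (by simpa using hrs) hm' hts
    let b := Module.finBasis (R ⧸ Ideal.span {t}) (QuotSMulTop t M)
    choose c hc using fun i => Submodule.mkQ_surjective (t • (⊤ : Submodule R M)) (b i)
    let w : (Fin (Module.finrank (R ⧸ Ideal.span {t}) (QuotSMulTop t M)) → R) →ₗ[R] M := Fintype.linearCombination R c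
    have hmk : ∀ x, Submodule.mkQ (t • (⊤ : Submodule R M)) (w x) =
        ∑ i, (Ideal.Quotient.mk (Ideal.span {t}) (x i)) • b i := fun x => by
      rw [Fintype.linearCombination_apply, map_sum]
      exact Finset.sum_congr rfl fun i _ => by rw [map_smul, hc]; rfl
    have hjac : Ideal.span {t} ≤ Ideal.jacobson (⊥ : Ideal R) :=
      (Ideal.span_le.2 (Set.singleton_subset_iff.2 htm)).trans (IsLocalRing.maximalIdeal_le_jacobson _)
    have hsurj : Function.Surjective w := by
      rw [← LinearMap.range_eq_top, eq_top_iff]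
      refine Submodule.le_of_le_smul_of_le_jacobson_bot Module.Finite.fg_top hjac fun x _ => ?_
      choose d hd using fun i => Ideal.Quotient.mk_surjective (b.repr (Submodule.mkQ _ x) i)
      have h0 : x - w d ∈ t • (⊤ : Submodule R M) := by
        rw [← Submodule.Quotient.mk_eq_zero, ← Submodule.mkQ_apply, map_sub, sub_eq_zero, hmk]
        simp only [hd, b.sum_repr]
      obtain ⟨z, -, hz⟩ := h0
      rw [← sub_add_cancel x (w d), ← hz, add_comm]
      exact Submodule.add_mem_sup ⟨d, rfl⟩ (Submodule.smul_mem_smul (Ideal.mem_span_singleton_self t) Submodule.mem_top)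
    have hker : LinearMap.ker w = ⊥ := by
      refine Submodule.eq_bot_of_le_smul_of_le_jacobson_bot (Ideal.span {t}) _ (IsNoetherian.noetherian _) (fun x hx => ?_) hjac
      have h0 : ∀ i, Ideal.Quotient.mk (Ideal.span {t}) (x i) = 0 := by
        have h := hmk x
        rw [LinearMap.mem_ker.1 hx, map_zero] at h
        exact Fintype.linearIndependent_iff.1 b.linearIndependent _ h.symm
      choose x' hx' using fun i => Ideal.mem_span_singleton'.1 (Ideal.Quotient.eq_zero_iff_mem.1 (h0 i))
      have hxe : x = t • x' := funext fun i => by rw [Pi.smul_apply, smul_eq_mul, ← hx', mul_comm]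
      rw [hxe]
      refine Submodule.smul_mem_smul (Ideal.mem_span_singleton_self t) ?_
      rw [LinearMap.mem_ker]
      refine ht ?_
      show t • w x' = t • (0 : M)
      rw [← map_smul, ← hxe, LinearMap.mem_ker.1 hx, smul_zero]
    exact Module.Free.of_equiv (LinearEquiv.ofBijective w ⟨LinearMap.ker_eq_bot.1 hker, hsurj⟩)

/-- A regular local ring finite over a regular local ring is free over it. -/
theorem free_of_regular (R : Type u) [CommRing R] [IsRegularLocalRing R] (A : Type v) [CommRing A]
    [IsRegularLocalRing A] [Algebra R A] [Module.Finite R A] (hinj : Function.Injective (algebraMap R A)) :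
    Module.Free R A := by
  have hdR : ringKrullDim R = (maximalIdeal R).spanFinrank := ((isRegularLocalRing_iff R).1 inferInstance).symm
  obtain ⟨y, hy⟩ := RegLocal.exists_generators (R := R)
  have hdA : ringKrullDim A = (maximalIdeal A).spanFinrank := ((isRegularLocalRing_iff A).1 inferInstance).symm
  obtain ⟨z, hz⟩ := RegLocal.exists_generators (R := A)
  have hn : (maximalIdeal R).spanFinrank = (maximalIdeal A).spanFinrank := by
    have h : ringKrullDim R = ringKrullDim A := le_antisymm
      (ZetaPts.ringKrullDim_le_of_integral_injective _ hinj (algebraMap_isIntegral_iff.2 inferInstance))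
      SMT.ringKrullDim_le_of_isIntegral
    rw [hdR, hdA] at h
    exact_mod_cast h
  have hreg := (RegLocal.isRegular_of_generators (R := A) hdA z hz).1
  haveI : IsLocalHom (algebraMap R A) := RingHom.IsIntegral.isLocalHom (algebraMap_isIntegral_iff.2 inferInstance) hinj
  let l : List A := (List.ofFn y).map (algebraMap R A)
  have hy' : Ideal.ofList (List.ofFn y) = maximalIdeal R := by
    refine Eq.trans ?_ hy
    simp [Ideal.ofList, List.mem_ofFn, Set.range]
  have hl : Ideal.ofList l = (maximalIdeal R).map (algebraMap R A) := by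
    rw [← Ideal.map_ofList, hy']
  have hrad : maximalIdeal A ≤ ((⊥ : Ideal A) ⊔ Ideal.ofList l).radical := by
    rw [bot_sup_eq, hl, Ideal.radical_eq_sInf, le_sInf_iff]
    rintro q ⟨hq, hqp⟩
    haveI := hqp
    have hle : maximalIdeal R ≤ q.comap (algebraMap R A) := Ideal.map_le_iff_le_comap.1 hq
    haveI : (q.under R).IsMaximal := by
      rw [show q.under R = maximalIdeal R from
        ((maximalIdeal.isMaximal R).eq_of_le (Ideal.comap_ne_top _ hqp.ne_top) hle).symm]
      infer_instance
    haveI : q.LiesOver (q.under R) := ⟨rfl⟩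
    exact (IsLocalRing.eq_maximalIdeal (Ideal.IsMaximal.of_liesOver_isMaximal q (q.under R))).ge
  have hne : (⊥ : Ideal A) ⊔ Ideal.ofList l ≠ ⊤ := by
    rw [bot_sup_eq, hl]
    exact fun h => (maximalIdeal.isMaximal A).ne_top (top_le_iff.1 (h ▸ IsLocalRing.map_maximalIdeal_le _))
  let e : (A ⧸ (⊥ : Ideal A)) ≃ₗ[A] A := Submodule.quotEquivOfEqBot ⊥ rfl
  have hw := WildQuotLib.isWeaklyRegular_of_radical l (⊥ : Ideal A) hne
    ⟨List.ofFn z, by simp [l, hn], fun r hr => by
      obtain ⟨i, rfl⟩ := List.mem_ofFn.1 hr
      exact hz ▸ Ideal.subset_span ⟨i, rfl⟩, (LinearEquiv.isWeaklyRegular_congr e _).2 hreg⟩ hrad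
  rw [LinearEquiv.isWeaklyRegular_congr e, isWeaklyRegular_map_algebraMap_iff] at hw
  exact free_of_isWeaklyRegular _ R A _ rfl hy'.symm hw

end Groth.Agent.PurityLib
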