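import Groth.Agent.PurityLib.Normal
import Groth.Agent.RegLocal.Consequences

/-!
Purity of the branch locus for a normal domain finite over a regular local ring.
-/

set_option autoImplicit false
set_option linter.style.haveILetI false
universe u
open IsLocalRing

namespace Groth.Agent.PurityLib

theorem height_le_under {R : Type u} [CommRing R] {A : Type u} [CommRing A] [Algebra R A] [Algebra.IsIntegral R A]
    (P : Ideal A) [P.IsPrime] : P.height ≤ (P.under R).height := by
  let f : PrimeSpectrum A → PrimeSpectrum R := fun q => ⟨q.asIdeal.comap (algebraMap R A), inferInstance⟩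
  have hf : StrictMono f := fun q q' h => by
    obtain ⟨x, hx, hx'⟩ := SetLike.exists_of_lt (show q.asIdeal < q'.asIdeal from h)
    exact Ideal.comap_lt_comap_of_integral_mem_sdiff h.le ⟨hx, hx'⟩ (Algebra.IsIntegral.isIntegral x)
  have h0 := Order.height_le_height_apply_of_strictMono f hf ⟨P, inferInstance⟩
  rw [← PrimeSpectrum.height_eq_orderHeight, ← PrimeSpectrum.height_eq_orderHeight] at h0
  exact h0

theorem flat_of_dim_le_one (R : Type u) [CommRing R] [IsRegularLocalRing R] (h : ringKrullDim R ≤ 1)
    (A : Type u) [AddCommGroup A] [Module R A] [Module.IsTorsionFree R A] : Module.Flat R A := by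
  haveI := RegLocal.isDomain (R := R)
  obtain ⟨d, hd⟩ := RegLocal.exists_nat_ringKrullDim (R := R)
  rw [hd] at h
  have hd1 : d ≤ 1 := by exact_mod_cast h
  haveI : IsPrincipalIdealRing R := by
    rcases Nat.eq_zero_or_pos d with rfl | hpos
    · haveI : Ring.KrullDimLE 0 R := Ring.krullDimLE_iff.2 hd.le
      exact Ring.KrullDimLE.isField_of_isDomain.isPrincipalIdealRing
    obtain rfl : d = 1 := by omega
    obtain ⟨g, hg, hg0, hreg, hdim⟩ := exists_param (R := R) hd le_rfl
    haveI := hreg
    haveI : Ring.KrullDimLE 0 (R ⧸ Ideal.span {g}) := Ring.krullDimLE_iff.2 hdim.le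
    haveI := RegLocal.isDomain (R := R ⧸ Ideal.span {g})
    have hmax := Ideal.Quotient.maximal_of_isField (Ideal.span {g}) Ring.KrullDimLE.isField_of_isDomain
    have hprin : (maximalIdeal R).IsPrincipal := ⟨⟨g, (IsLocalRing.eq_maximalIdeal hmax).symm⟩⟩
    have hnf : ¬ IsField R := fun hf => by
      rw [isField_iff_maximalIdeal_eq] at hf
      exact hg0 (by simpa [hf] using hg)
    haveI : IsDiscreteValuationRing R := ((IsDiscreteValuationRing.TFAE R hnf).out 0 4).2 hprin
    infer_instance
  infer_instance

variable {R : Type u} [CommRing R] [IsRegularLocalRing R] {A : Type u} [CommRing A] [IsDomain A]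
  [IsIntegrallyClosed A] [Algebra R A] [Module.Finite R A] [FaithfulSMul R A]

theorem isEtaleAt_of_unramified
    (hA : ∀ (P : Ideal A) [P.IsPrime], P.height ≤ 1 → Algebra.IsUnramifiedAt R P) :
    ∀ (n : ℕ) (P : Ideal A) [P.IsPrime], (P.under R).height ≤ n → Algebra.IsEtaleAt R P := by
  intro n
  induction n using Nat.strong_induction_on with
  | _ n ih =>
  intro P _ hPn
  haveI := RegLocal.isDomain (R := R)
  let p := P.under R
  let M := Algebra.algebraMapSubmonoid A p.primeCompl
  let Rp := Localization.AtPrime p
  let Ap := Localization M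
  haveI : IsRegularLocalRing Rp := RegLocal.isRegularLocalRing_localization R p
  haveI := RegLocal.isDomain (R := Rp)
  have hM : M ≤ nonZeroDivisors A := by
    rintro _ ⟨r, hr, rfl⟩
    refine mem_nonZeroDivisors_of_ne_zero fun h => hr ?_
    show r ∈ p
    rw [(map_eq_zero_iff _ (FaithfulSMul.algebraMap_injective R A)).1 h]
    exact zero_mem _
  haveI : IsDomain Ap := IsLocalization.isDomain_of_le_nonZeroDivisors Ap hM
  haveI : IsIntegrallyClosed Ap := isIntegrallyClosed_of_isLocalization Ap M hM
  haveI : Module.Finite Rp Ap := Module.Finite.of_isLocalization R A p.primeCompl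
  haveI : FaithfulSMul Rp Ap := (faithfulSMul_iff_algebraMap_injective Rp Ap).2
    ((injective_iff_map_eq_zero _).2 fun z hz => by
      obtain ⟨r, s, rfl⟩ := IsLocalization.exists_mk'_eq p.primeCompl z
      have h0 : algebraMap R Ap r = 0 := by
        rw [IsScalarTower.algebraMap_apply R Rp Ap, ← IsLocalization.mk'_spec Rp r s, map_mul, hz, zero_mul]
      rw [IsScalarTower.algebraMap_apply R A Ap, IsLocalization.map_eq_zero_iff M] at h0
      obtain ⟨m, hm⟩ := h0
      have hr : algebraMap R A r = 0 := (mul_left_mem_nonZeroDivisors_eq_zero_iff (hM m.2)).1 hm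
      rw [(map_eq_zero_iff _ (FaithfulSMul.algebraMap_injective R A)).1 hr, IsLocalization.mk'_zero])
  haveI : Algebra.FormallyEtale R Rp := Algebra.FormallyEtale.of_isLocalization p.primeCompl
  -- comparison of the local rings of `A` and `Ap`
  have hiso : ∀ (Q : Ideal Ap) [Q.IsPrime],
      Nonempty (Localization.AtPrime (Q.comap (algebraMap A Ap)) ≃ₐ[R] Localization.AtPrime Q) := fun Q _ =>
    ⟨(IsLocalization.localizationLocalizationAtPrimeIsoLocalization M Q).restrictScalars R⟩
  have hunder : ∀ (Q : Ideal Ap) [Q.IsPrime],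
      (Q.comap (algebraMap A Ap)).under R = (Q.under Rp).comap (algebraMap R Rp) := fun Q _ => by
    rw [Ideal.under, Ideal.under, Ideal.comap_comap, Ideal.comap_comap, ← IsScalarTower.algebraMap_eq,
      ← IsScalarTower.algebraMap_eq]
  have hdim : ringKrullDim Rp = p.height := IsLocalization.AtPrime.ringKrullDim_eq_height p Rp
  haveI : Algebra.FinitePresentation Rp Ap := Algebra.FinitePresentation.of_finiteType.1 inferInstance
  have hetAp : Algebra.Etale Rp Ap := by
    by_cases h2 : p.height ≤ 1
    · haveI : Module.Flat Rp Ap := flat_of_dim_le_one Rp (by rw [hdim]; exact_mod_cast h2) Ap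
      haveI : Algebra.FormallyUnramified Rp Ap := by
        rw [Algebra.formallyUnramified_iff_forall]
        intro Q
        have hle : (Q.asIdeal.comap (algebraMap A Ap)).height ≤ 1 := by
          refine (height_le_under (R := R) _).trans ?_
          rw [hunder, IsLocalization.height_under p.primeCompl]
          refine le_trans ?_ (show (maximalIdeal Rp).height ≤ 1 from ?_)
          · exact Ideal.height_mono (le_maximalIdeal (Ideal.IsPrime.ne_top inferInstance))
          · rw [← WithBot.coe_le_coe, IsLocalRing.maximalIdeal_height_eq_ringKrullDim, hdim]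
            exact_mod_cast h2
        obtain ⟨e⟩ := hiso Q.asIdeal
        haveI : Algebra.FormallyUnramified R (Localization.AtPrime (Q.asIdeal.comap (algebraMap A Ap))) := hA _ hle
        haveI := Algebra.FormallyUnramified.of_equiv e
        exact Algebra.FormallyUnramified.of_restrictScalars R Rp _
      exact Algebra.Etale.of_formallyUnramified_of_flat
    · have h2' : (2 : WithBot ℕ∞) ≤ ringKrullDim Rp := by
        rw [hdim]
        have h3 : ((2 : ℕ∞) : WithBot ℕ∞) ≤ (p.height : WithBot ℕ∞) :=
          WithBot.coe_le_coe.2 (by rw [← one_add_one_eq_two]; exact Order.add_one_le_of_lt (not_le.1 h2))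
        exact h3
      refine ((pureRing Rp h2') Ap (depthTwo_of_normal Rp h2' Ap) fun h hh => ?_).2
      rw [← Algebra.basicOpen_subset_etaleLocus_iff_etale]
      intro Q hQ
      obtain ⟨e⟩ := hiso Q.asIdeal
      have hlt : ((Q.asIdeal.comap (algebraMap A Ap)).under R).height < p.height := by
        rw [hunder, IsLocalization.height_under p.primeCompl, ← WithBot.coe_lt_coe, ← hdim,
          ← IsLocalRing.maximalIdeal_height_eq_ringKrullDim, WithBot.coe_lt_coe]
        refine Ideal.height_strict_mono_of_isPrime (lt_of_le_of_ne (le_maximalIdeal (Ideal.IsPrime.ne_top inferInstance)) fun he => ?_)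
        exact hQ ((he ▸ hh : h ∈ Q.asIdeal.under Rp))
      obtain ⟨j, hj⟩ := ENat.ne_top_iff_exists.1 hlt.ne_top
      haveI : Algebra.FormallyEtale R (Localization.AtPrime (Q.asIdeal.comap (algebraMap A Ap))) :=
        ih j (by have := hlt.trans_le hPn; rw [← hj] at this; exact_mod_cast this) _ hj.ge
      haveI := Algebra.FormallyEtale.of_equiv e
      exact Algebra.FormallyEtale.localization_base p.primeCompl (R := R) (Rₘ := Rp)
  have hdisj : Disjoint (M : Set A) P := by
    rw [Set.disjoint_left]
    rintro _ ⟨r, hr, rfl⟩ hrP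
    exact hr hrP
  let Q : Ideal Ap := P.map (algebraMap A Ap)
  haveI : Q.IsPrime := IsLocalization.isPrime_of_isPrime_disjoint M Ap P inferInstance hdisj
  obtain ⟨e⟩ := hiso Q
  haveI : Algebra.FormallyEtale R Ap := Algebra.FormallyEtale.comp R Rp Ap
  haveI : Algebra.FormallyEtale Ap (Localization.AtPrime Q) := Algebra.FormallyEtale.of_isLocalization Q.primeCompl
  haveI : Algebra.FormallyEtale R (Localization.AtPrime Q) := Algebra.FormallyEtale.comp R Ap _
  have := Algebra.FormallyEtale.of_equiv e.symm
  show Algebra.FormallyEtale R (Localization.AtPrime P)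
  have hcomap : Q.comap (algebraMap A Ap) = P := IsLocalization.under_map_of_isPrime_disjoint M Ap inferInstance hdisj
  exact isEtaleAt_congr (P := Q.comap (algebraMap A Ap)) hcomap this
where
  isEtaleAt_congr {P P' : Ideal A} [P.IsPrime] [P'.IsPrime] (he : P = P')
      (h : Algebra.IsEtaleAt R P) : Algebra.IsEtaleAt R P' := by subst he; exact h

/-- Purity of the branch locus. -/
theorem etale_of_unramified_codim_one
    (hA : ∀ (P : Ideal A) [P.IsPrime], P.height ≤ 1 → Algebra.IsUnramifiedAt R P) : Algebra.Etale R A := by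
  haveI : Algebra.FinitePresentation R A := Algebra.FinitePresentation.of_finiteType.1 inferInstance
  rw [← Algebra.etaleLocus_eq_univ_iff_etale, Set.eq_univ_iff_forall]
  intro P
  obtain ⟨n, hn⟩ := ENat.ne_top_iff_exists.1 (Ideal.height_ne_top (Ideal.IsPrime.ne_top (inferInstance : (P.asIdeal.under R).IsPrime)))
  exact isEtaleAt_of_unramified hA n P.asIdeal hn.ge

end Groth.Agent.PurityLib
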