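import Groth.Agent.PurityLib.Regular
import Groth.Agent.RegLocal.UFD

/-!
A normal domain finite over a regular local ring of dimension at least two has depth at least two.
-/

set_option autoImplicit false
set_option linter.style.haveILetI false
universe u
open IsLocalRing Polynomial

namespace Groth.Agent.PurityLib

theorem minpoly_mul_eq_scaleRoots {K L : Type*} [Field K] [Field L] [Algebra K L] {a : K} (ha : a ≠ 0) {z : L}
    (hz : IsIntegral K z) : minpoly K (algebraMap K L a * z) = (minpoly K z).scaleRoots a := by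
  refine (minpoly.unique K _ ((monic_scaleRoots_iff a).2 (minpoly.monic hz))
    (scaleRoots_aeval_eq_zero (minpoly.aeval K z)) fun q hq hq0 => ?_).symm
  rw [degree_scaleRoots]
  refine le_trans ?_ (degree_scaleRoots q (s := a⁻¹)).le
  refine minpoly.min K z ((monic_scaleRoots_iff a⁻¹).2 hq) ?_
  have h := scaleRoots_aeval_eq_zero (p := q) (r := a⁻¹) hq0
  rwa [← mul_assoc, ← map_mul, inv_mul_cancel₀ ha, map_one, one_mul] at h

variable {R : Type u} [CommRing R] [IsDomain R] [IsIntegrallyClosed R] {A : Type u} [CommRing A] [IsDomain A]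
  [IsIntegrallyClosed A] [Algebra R A] [Algebra.IsIntegral R A] [FaithfulSMul R A]

theorem regPair_of_normal {t g : R} (ht : t ≠ 0) (hg : g ≠ 0) (h : RegPair R t g) : RegPair A t g := by
  classical
  have hinj : Function.Injective (algebraMap R A) := FaithfulSMul.algebraMap_injective R A
  refine ⟨fun m hm => ?_, fun m n hmn => ?_⟩
  · rw [Algebra.smul_def, mul_eq_zero, map_eq_zero_iff _ hinj] at hm
    exact hm.resolve_left ht
  let K := FractionRing R
  let L := FractionRing A
  haveI : FaithfulSMul R L := (faithfulSMul_iff_algebraMap_injective R L).2 (by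
    rw [IsScalarTower.algebraMap_eq R A L]; exact (IsFractionRing.injective A L).comp hinj)
  letI := FractionRing.liftAlgebra R L
  have htL : algebraMap R L t ≠ 0 := fun h0 => ht ((map_eq_zero_iff _ (FaithfulSMul.algebraMap_injective R L)).1 h0)
  let z : L := algebraMap A L m / algebraMap R L t
  have hkey : ∀ (a : R) (e : A), a ≠ 0 → algebraMap R L a * z = algebraMap A L e →
      ∀ i, ∃ r : R, (minpoly K z).coeff i * algebraMap R K a ^ ((minpoly K z).natDegree - i) = algebraMap R K r := by
    intro a e ha he i
    have hint : IsIntegral K z := by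
      have h1 : IsIntegral K (algebraMap A L e) :=
        IsIntegral.tower_top (R := R) ((Algebra.IsIntegral.isIntegral e).map (IsScalarTower.toAlgHom R A L))
      have haL : algebraMap R L a ≠ 0 := fun h0 => ha ((map_eq_zero_iff _ (FaithfulSMul.algebraMap_injective R L)).1 h0)
      have : z = algebraMap K L (algebraMap R K a)⁻¹ * algebraMap A L e := by
        rw [← he, map_inv₀, ← IsScalarTower.algebraMap_apply, inv_mul_cancel_left₀ haL]
      rw [this]
      exact isIntegral_algebraMap.mul h1
    have h2 := minpoly.isIntegrallyClosed_eq_field_fractions K L (Algebra.IsIntegral.isIntegral (R := R) e)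
    rw [← he, IsScalarTower.algebraMap_apply R K L, minpoly_mul_eq_scaleRoots
      (IsFractionRing.to_map_ne_zero_of_mem_nonZeroDivisors (mem_nonZeroDivisors_of_ne_zero ha)) hint] at h2
    refine ⟨(minpoly R e).coeff i, ?_⟩
    rw [← coeff_scaleRoots, h2, coeff_map]
  have hzm : algebraMap R L t * z = algebraMap A L m := mul_div_cancel₀ _ htL
  have hzn : algebraMap R L g * z = algebraMap A L n := by
    have h1 := congrArg (algebraMap A L) hmn
    simp only [Algebra.smul_def, map_mul, ← IsScalarTower.algebraMap_apply] at h1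
    rw [← mul_div_assoc, h1, mul_div_cancel_left₀ _ htL]
  have hint : IsIntegral K z := by
    have h1 : IsIntegral K (algebraMap A L m) :=
      IsIntegral.tower_top (R := R) ((Algebra.IsIntegral.isIntegral m).map (IsScalarTower.toAlgHom R A L))
    have : z = algebraMap K L (algebraMap R K t)⁻¹ * algebraMap A L m := by
      rw [← hzm, map_inv₀, ← IsScalarTower.algebraMap_apply, inv_mul_cancel_left₀ htL]
    rw [this]
    exact isIntegral_algebraMap.mul h1
  have hcoeff : ∀ i, (minpoly K z).coeff i ∈ (algebraMap R K).range := fun i => by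
    obtain ⟨r₁, hr₁⟩ := hkey t m ht hzm i
    obtain ⟨r₂, hr₂⟩ := hkey g n hg hzn i
    generalize (minpoly K z).natDegree - i = k at hr₁ hr₂
    obtain ⟨r, hr⟩ := h.exists_of_pow k k (m := r₁) (n := r₂) (IsFractionRing.injective R K (by
      simp only [smul_eq_mul, map_mul, map_pow, ← hr₁, ← hr₂]; ring))
    refine ⟨r, mul_right_cancel₀ (pow_ne_zero k
      (IsFractionRing.to_map_ne_zero_of_mem_nonZeroDivisors (mem_nonZeroDivisors_of_ne_zero ht))) (hr₁.trans ?_).symm⟩
    rw [hr, smul_eq_mul, map_mul, map_pow, mul_comm]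
  obtain ⟨q, hq⟩ := (Polynomial.lifts_iff_coeff_lifts _).2 hcoeff
  have hlead : q.Monic := Polynomial.monic_of_injective (IsFractionRing.injective R K)
    (by show (Polynomial.mapRingHom (algebraMap R K) q).Monic; rw [hq]; exact minpoly.monic hint)
  have hzR : IsIntegral R z := ⟨q, hlead, by
    rw [← Polynomial.aeval_def, ← Polynomial.aeval_map_algebraMap K]
    show Polynomial.aeval z (Polynomial.mapRingHom (algebraMap R K) q) = 0
    rw [hq]; exact minpoly.aeval K z⟩
  obtain ⟨w, hw⟩ := IsIntegrallyClosed.isIntegral_iff.1 (hzR.tower_top (A := A))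
  refine ⟨w, IsFractionRing.injective A L ?_⟩
  rw [Algebra.smul_def, map_mul, ← IsScalarTower.algebraMap_apply, hw, hzm]

theorem isIntegrallyClosed_of_regular (R : Type u) [CommRing R] [IsRegularLocalRing R] :
    IsDomain R ∧ IsIntegrallyClosed R := by
  haveI := RegLocal.isDomain (R := R)
  haveI := RegLocal.ufd R
  exact ⟨inferInstance, inferInstance⟩

theorem depthTwo_of_normal (R : Type u) [CommRing R] [IsRegularLocalRing R] (hd : 2 ≤ ringKrullDim R)
    (A : Type u) [CommRing A] [IsDomain A] [IsIntegrallyClosed A] [Algebra R A] [Module.Finite R A]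
    [FaithfulSMul R A] : DepthTwo (R := R) A := by
  obtain ⟨_, _⟩ := isIntegrallyClosed_of_regular R
  obtain ⟨d, hd'⟩ := RegLocal.exists_nat_ringKrullDim (R := R)
  rw [hd'] at hd
  have h2 : 2 ≤ d := by exact_mod_cast hd
  obtain ⟨t, ht, ht0, hreg, hdim⟩ := exists_param (R := R) hd' (by omega)
  haveI := hreg
  obtain ⟨gb, hgb, hgb0, -, -⟩ := exists_param (R := R ⧸ Ideal.span {t}) hdim (by omega)
  obtain ⟨g, rfl⟩ := Ideal.Quotient.mk_surjective gb
  exact ⟨t, ht, g, mem_maximalIdeal_of_mk _ hgb,
    regPair_of_normal ht0 (fun h => hgb0 (by rw [h, map_zero])) (regPair_of_param ht0 hgb0)⟩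

end Groth.Agent.PurityLib
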