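import Groth.Agent.PurityLib.NotAffineAlg
import Groth.Agent.RegLocal.Completion
import Groth.Prelude.Def_FEt

/-!
# The punctured spectrum of a noetherian local ring of dimension ≥ 2 is not affine
-/

set_option autoImplicit false
universe u

open CategoryTheory Opposite TopologicalSpace IsLocalRing AlgebraicGeometry

namespace Groth.Agent.PurityLib

/-- A section near `P` is a fraction with denominator outside `P`. -/
theorem frac_of_section (D : CommRingCat.{u}) [IsDomain D] (V : (Spec D).Opens) (s : Γ(Spec D, V))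
    (hgen : genericPoint (Spec D) ∈ V) (P : PrimeSpectrum D) (hP : P ∈ V) :
    ∃ r t : D, t ∉ P.asIdeal ∧
      algebraMap D (Spec D).functionField t * (Spec D).presheaf.germ V _ hgen s =
        algebraMap D (Spec D).functionField r := by
  have h : genericPoint (Spec D) ⤳ P := (genericPoint_spec (Spec D)).specializes trivial
  letI : Algebra D ((Spec D).presheaf.stalk P) := StructureSheaf.stalkAlgebra (R := D) P
  haveI : IsLocalization.AtPrime ((Spec D).presheaf.stalk P) P.asIdeal :=
    StructureSheaf.IsLocalization.to_stalk (R := D) P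
  obtain ⟨⟨r, t⟩, e⟩ := IsLocalization.surj P.asIdeal.primeCompl ((Spec D).presheaf.germ V P hP s)
  refine ⟨r, t.1, t.2, ?_⟩
  have e' := congrArg ((Spec D).presheaf.stalkSpecializes h).hom e
  rw [map_mul] at e'
  have h1 : ∀ x : D, ((Spec D).presheaf.stalkSpecializes h).hom (algebraMap D ((Spec D).presheaf.stalk P) x)
      = algebraMap D (Spec D).functionField x := fun x =>
    StructureSheaf.toStalk_stalkSpecializes_apply h x
  rw [h1, h1] at e'
  have h2 : ((Spec D).presheaf.stalkSpecializes h).hom ((Spec D).presheaf.germ V P hP s) =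
      (Spec D).presheaf.germ V _ hgen s :=
    TopCat.Presheaf.germ_stalkSpecializes_apply _ hP h s
  rw [h2] at e'
  rw [mul_comm]; exact e'

/-- From a noetherian local ring of dimension `≥ 2` to a complete local domain with a prime
different from zero and the maximal ideal, with the closed fibre being the closed point. -/
theorem exists_complete_domain (A : Type u) [CommRing A] [IsLocalRing A] [IsNoetherianRing A]
    (hd : (2 : WithBot ℕ∞) ≤ ringKrullDim A) :
    ∃ (D : CommRingCat.{u}) (_ : IsDomain D) (_ : IsLocalRing D) (_ : IsNoetherianRing D)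
      (_ : IsAdicComplete (maximalIdeal D) D) (φ : CommRingCat.of A ⟶ D),
      (maximalIdeal A).map φ.hom = maximalIdeal D ∧
      ∃ p0 : Ideal D, p0.IsPrime ∧ p0 ≠ ⊥ ∧ p0 ≠ maximalIdeal D := by
  have hI : maximalIdeal A ≠ ⊤ := (maximalIdeal.isMaximal A).ne_top
  let R := AdicCompletion (maximalIdeal A) A
  haveI := RegLocal.isLocalRing_completion A (maximalIdeal A) hI
  have hmax := RegLocal.maximalIdeal_completion A (maximalIdeal A) hI
  haveI : IsAdicComplete (maximalIdeal R) R := by
    rw [hmax]; exact AdicCompletion.isAdicComplete_self _ (maximalIdeal A).fg_of_isNoetherianRing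
  have hd' : (2 : ℕ∞) ≤ Order.height (closedPoint R) := by
    have h : (2 : WithBot ℕ∞) ≤ ringKrullDim R := by
      rw [RegLocal.ringKrullDim_completion A (maximalIdeal A) hI]; exact hd
    rw [← maximalIdeal_height_eq_ringKrullDim] at h
    have h' : (2 : ℕ∞) ≤ (closedPoint R).asIdeal.height := WithBot.coe_le_coe.mp h
    rwa [PrimeSpectrum.height_eq_orderHeight] at h'
  obtain ⟨l, hl, hn⟩ := Order.exists_series_of_le_height (closedPoint R) (n := 2) (by exact_mod_cast hd')
  let Q := (l ⟨0, by omega⟩).asIdeal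
  let p := (l ⟨1, by omega⟩).asIdeal
  have hQp : Q < p := l.strictMono (show (⟨0, by omega⟩ : Fin (l.length + 1)) < ⟨1, by omega⟩ from Nat.zero_lt_one)
  have hpm : p < maximalIdeal R := by
    have := l.strictMono (show (⟨1, by omega⟩ : Fin (l.length + 1)) < Fin.last _ by
      simp [Fin.lt_def, hn])
    rw [show l (Fin.last _) = closedPoint R from hl] at this
    exact this
  let D := R ⧸ Q
  haveI : IsLocalRing D := IsLocalRing.of_surjective' (Ideal.Quotient.mk Q) Ideal.Quotient.mk_surjective
  have hmD : (maximalIdeal R).map (Ideal.Quotient.mk Q) = maximalIdeal D :=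
    IsLocalRing.map_maximalIdeal_of_surjective _ Ideal.Quotient.mk_surjective
  haveI : IsAdicComplete (maximalIdeal D) D := by
    have h1 : IsHausdorff ((maximalIdeal R).map (algebraMap R D)) D := by
      refine IsHausdorff.of_isDomain _ ?_
      rw [Ideal.Quotient.algebraMap_eq, hmD]
      exact (maximalIdeal.isMaximal D).ne_top
    have : IsHausdorff (maximalIdeal R) D := IsHausdorff.map_algebraMap_iff.1 h1
    have h2 := isAdicComplete_finite (C := D) (maximalIdeal R)
    rw [← hmD, ← Ideal.Quotient.algebraMap_eq]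
    exact (IsAdicComplete.map_algebraMap_iff _ _).2 h2
  refine ⟨CommRingCat.of D, inferInstanceAs (IsDomain D), ‹_›, inferInstanceAs (IsNoetherianRing D), ‹_›,
    CommRingCat.ofHom ((Ideal.Quotient.mk Q).comp (algebraMap A R)), ?_,
    p.map (Ideal.Quotient.mk Q), ?_, ?_, ?_⟩
  · show (maximalIdeal A).map ((Ideal.Quotient.mk Q).comp (algebraMap A R)) = _
    rw [← Ideal.map_map, ← hmax, hmD]
  · exact Ideal.map_isPrime_of_surjective Ideal.Quotient.mk_surjective (by rw [Ideal.mk_ker]; exact hQp.le)
  · intro h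
    rw [Ideal.map_eq_bot_iff_le_ker, Ideal.mk_ker] at h
    exact hQp.not_ge h
  · intro h
    have := congrArg (Ideal.comap (Ideal.Quotient.mk Q)) h
    rw [Ideal.comap_map_of_surjective' _ Ideal.Quotient.mk_surjective, Ideal.mk_ker, sup_eq_left.mpr hQp.le,
      ← hmD, Ideal.comap_map_of_surjective' _ Ideal.Quotient.mk_surjective, Ideal.mk_ker,
      sup_eq_left.mpr (le_maximalIdeal (Ideal.IsPrime.ne_top (l ⟨0, by omega⟩).isPrime))] at this
    exact hpm.ne this

/-- `1` is no combination of elements of `m` with coefficients regular on the punctured spectrum. -/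
theorem sum_ne_one (A : Type u) [CommRing A] [IsLocalRing A] [IsNoetherianRing A]
    (hd : (2 : WithBot ℕ∞) ≤ ringKrullDim A) (U : (Spec (CommRingCat.of A)).Opens)
    (hU : ∀ P : PrimeSpectrum A, P ≠ closedPoint A → P ∈ U)
    {ι : Type*} [Fintype ι] (f : ι → A) (hf : ∀ i, f i ∈ maximalIdeal A)
    (b : ι → Γ(Spec (CommRingCat.of A), U)) :
    ∑ i, (Spec (CommRingCat.of A)).presheaf.map (homOfLE le_top).op
      ((Scheme.ΓSpecIso (CommRingCat.of A)).inv (f i)) * b i ≠ 1 := by
  intro h
  obtain ⟨D, _, _, _, _, φ, hφ, p0, _, hp0, hp0m⟩ := exists_complete_domain A hd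
  let X := Spec D
  let U' : X.Opens := Spec.map φ ⁻¹ᵁ U
  have hmem : ∀ P : X, P.asIdeal ≠ maximalIdeal D → P ∈ U' := by
    intro P hP
    refine hU _ fun e => hP ?_
    refine le_antisymm (le_maximalIdeal P.isPrime.ne_top) ?_
    rw [← hφ, Ideal.map_le_iff_le_comap]
    exact (congrArg PrimeSpectrum.asIdeal e).ge
  have hgen : genericPoint X ∈ U' := by
    refine hmem _ ?_
    rw [genericPoint_eq_bot_of_affine]
    intro e
    exact hp0 (le_bot_iff.mp ((le_maximalIdeal (Ideal.IsPrime.ne_top ‹_›)).trans e.ge))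
  let G := X.presheaf.germ U' _ hgen
  have hρ : ∀ a : A, G ((Spec.map φ).app U ((Spec (CommRingCat.of A)).presheaf.map (homOfLE le_top).op
      ((Scheme.ΓSpecIso (CommRingCat.of A)).inv a))) = algebraMap D X.functionField (φ a) := by
    intro a
    have h1 := congrArg (fun q => q ((Scheme.ΓSpecIso (CommRingCat.of A)).inv a))
      ((Spec.map φ).naturality (homOfLE (le_top : U ≤ ⊤)).op)
    simp only [CommRingCat.comp_apply] at h1
    have h2 : (Scheme.ΓSpecIso D).inv (φ a) = (Spec.map φ).appTop ((Scheme.ΓSpecIso (CommRingCat.of A)).inv a) :=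
      congrArg (fun q => q.hom a) (Scheme.ΓSpecIso_inv_naturality φ)
    rw [h1, TopCat.Presheaf.germ_res_apply]
    show X.presheaf.germ ⊤ _ (Opens.mem_top _) ((Spec.map φ).appTop _) = _
    rw [← h2]
    rfl
  have hsum : ∑ i, algebraMap D X.functionField (φ (f i)) * G ((Spec.map φ).app U (b i)) = 1 := by
    have := congrArg (fun z => G ((Spec.map φ).app U z)) h
    simp only [map_sum, map_mul, map_one, hρ] at this
    exact this
  refine sum_ne_one_of_isIntegral (IsFractionRing.injective D X.functionField) Finset.univ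
    (fun i => φ (f i)) _ (fun i => hφ ▸ Ideal.mem_map_of_mem _ (hf i)) (fun i => ?_) hsum
  refine isIntegral_of_punctured p0 hp0 hp0m _ fun p hp hpm => ?_
  exact frac_of_section D U' _ hgen ⟨p, hp⟩ (hmem ⟨p, hp⟩ hpm)

/-- The punctured spectrum of a noetherian local ring of dimension `≥ 2` is not affine. -/
theorem ringKrullDim_le_one_of_isAffineOpen (A : Type u) [CommRing A] [IsLocalRing A] [IsNoetherianRing A]
    (U : (Spec (CommRingCat.of A)).Opens) (hU : ∀ P : PrimeSpectrum A, P ≠ closedPoint A → P ∈ U)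
    (hc : closedPoint A ∉ U) (ha : IsAffineOpen U) : ringKrullDim A ≤ 1 := by
  by_contra hd
  have hd2 : (2 : WithBot ℕ∞) ≤ ringKrullDim A := by
    rw [← maximalIdeal_height_eq_ringKrullDim] at hd ⊢
    have h1 : ¬ (maximalIdeal A).height ≤ 1 := fun e => hd (WithBot.coe_le_coe.mpr e)
    exact WithBot.coe_le_coe.mpr (Order.add_one_le_of_lt (not_le.mp h1))
  obtain ⟨n, f, hf⟩ := Submodule.fg_iff_exists_fin_generating_family.mp (maximalIdeal A).fg_of_isNoetherianRing
  let g : Fin n → Γ(Spec (CommRingCat.of A), U) := fun i =>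
    (Spec (CommRingCat.of A)).presheaf.map (homOfLE le_top).op ((Scheme.ΓSpecIso (CommRingCat.of A)).inv (f i))
  have htop : Ideal.span (Set.range g) = ⊤ := by
    rw [← ha.self_le_iSup_basicOpen_iff]
    intro x hx
    have hxne : x ≠ closedPoint A := fun e => hc (e ▸ hx)
    obtain ⟨i, hi⟩ : ∃ i, f i ∉ x.asIdeal := by
      by_contra hall
      push Not at hall
      apply hxne
      refine PrimeSpectrum.ext (le_antisymm (le_maximalIdeal x.isPrime.ne_top) ?_)
      rw [show (closedPoint A).asIdeal = maximalIdeal A from rfl, ← hf, Submodule.span_le]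
      rintro _ ⟨i, rfl⟩
      exact hall i
    refine Opens.mem_iSup.mpr ⟨⟨g i, i, rfl⟩, ?_⟩
    show x ∈ (Spec (CommRingCat.of A)).basicOpen ((Spec (CommRingCat.of A)).presheaf.map (homOfLE le_top).op _)
    rw [Scheme.basicOpen_res]
    refine ⟨hx, ?_⟩
    rw [basicOpen_eq_of_affine]
    exact hi
  obtain ⟨c, hc'⟩ := Ideal.mem_span_range_iff_exists_fun.mp (htop.ge (show (1 : Γ(Spec (CommRingCat.of A), U)) ∈ ⊤ from trivial))
  refine sum_ne_one A hd2 U hU f (fun i => hf.le (Submodule.subset_span ⟨i, rfl⟩)) c ?_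
  rw [← hc']
  exact Finset.sum_congr rfl fun i _ => mul_comm _ _

end Groth.Agent.PurityLib
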