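import Groth.Agent.PurityLib.Step
import Groth.Agent.TraceEt.Basic
import Groth.Agent.RegLocal.Basic

/-!
Purity over regular local rings of dimension at least two.
-/

set_option autoImplicit false
set_option linter.style.haveILetI false
universe u
open TensorProduct IsLocalRing

namespace Groth.Agent.PurityLib

variable {R : Type u} [CommRing R]

theorem etale_baseChange_of_lo {A : Type u} [CommRing A] [Algebra R A] (h : R) [Algebra.Etale R (Lo h A)]
    (L : Type u) [CommRing L] [Algebra R L] (hL : IsUnit (algebraMap R L h)) : Algebra.Etale L (L ⊗[R] A) := by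
  let i : A →ₐ[R] Lo h A := IsScalarTower.toAlgHom R A (Lo h A)
  let r : A →ₐ[R] L ⊗[R] A := Algebra.TensorProduct.includeRight
  let ψ : Lo h A →ₐ[R] L ⊗[R] A :=
    IsLocalization.liftAlgHom (M := Submonoid.powers (algebraMap R A h)) (f := r) (by
      rintro ⟨_, k, rfl⟩
      show IsUnit (r (algebraMap R A h ^ k))
      rw [map_pow, AlgHom.commutes, IsScalarTower.algebraMap_apply R L (L ⊗[R] A)]
      exact (hL.map _).pow k)
  have hψ : ∀ a, ψ (algebraMap A (Lo h A) a) = (1 : L) ⊗ₜ[R] a := fun a => IsLocalization.lift_eq _ a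
  let bwd : L ⊗[R] Lo h A →ₐ[L] L ⊗[R] A := Algebra.TensorProduct.lift (Algebra.ofId L _) ψ fun _ _ => Commute.all _ _
  let fwd : L ⊗[R] A →ₐ[L] L ⊗[R] Lo h A := Algebra.TensorProduct.map (AlgHom.id L L) i
  let e : L ⊗[R] Lo h A ≃ₐ[L] L ⊗[R] A := AlgEquiv.ofAlgHom bwd fwd
    (Algebra.TensorProduct.ext (Subsingleton.elim _ _) (AlgHom.ext fun a => by
      show bwd (fwd ((1 : L) ⊗ₜ[R] a)) = (1 : L) ⊗ₜ[R] a
      simp [bwd, fwd, i, hψ]))
    (Algebra.TensorProduct.ext (Subsingleton.elim _ _)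
      (IsLocalization.algHom_ext (Submonoid.powers (algebraMap R A h)) (AlgHom.ext fun a => by
        show fwd (bwd ((1 : L) ⊗ₜ[R] algebraMap A (Lo h A) a)) = (1 : L) ⊗ₜ[R] algebraMap A (Lo h A) a
        simp [bwd, fwd, i, hψ])))
  exact Algebra.Etale.of_equiv e

theorem exists_mem_notMem_sq [IsLocalRing R] [IsNoetherianRing R] (h : ¬ IsField R) :
    ∃ t ∈ maximalIdeal R, t ∉ maximalIdeal R ^ 2 := by
  by_contra hne
  simp only [not_exists, not_and, Classical.not_not] at hne
  refine h (isField_iff_maximalIdeal_eq.2 (Submodule.eq_bot_of_le_smul_of_le_jacobson_bot (maximalIdeal R) _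
    (IsNoetherian.noetherian _) (fun x hx => ?_) (maximalIdeal_le_jacobson _)))
  have := hne x hx
  rwa [pow_two] at this

theorem exists_param [IsRegularLocalRing R] {d : ℕ} (hd : ringKrullDim R = d) (hd1 : 1 ≤ d) :
    ∃ t ∈ maximalIdeal R, t ≠ 0 ∧ IsRegularLocalRing (R ⧸ Ideal.span {t}) ∧
      ringKrullDim (R ⧸ Ideal.span {t}) = ((d - 1 : ℕ) : WithBot ℕ∞) := by
  obtain ⟨t, ht, ht2⟩ := exists_mem_notMem_sq (R := R) fun hf => by
    rw [ringKrullDim_eq_zero_of_isField hf] at hd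
    have : (0 : ℕ) = d := by exact_mod_cast hd
    omega
  obtain ⟨h1, -, h2⟩ := RegLocal.quot_singleton (R := R) hd ht ht2
  exact ⟨t, ht, fun h0 => ht2 (h0 ▸ zero_mem _), h1, h2⟩

theorem regPair_of_param [IsRegularLocalRing R] {t g : R} (ht : t ≠ 0) [IsRegularLocalRing (R ⧸ Ideal.span {t})]
    (hg : Ideal.Quotient.mk (Ideal.span {t}) g ≠ 0) : RegPair R t g := by
  haveI := RegLocal.isDomain (R := R)
  haveI := RegLocal.isDomain (R := R ⧸ Ideal.span {t})
  refine ⟨fun m hm => (mul_eq_zero.1 hm).resolve_left ht, fun m n h => ?_⟩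
  have h' : g * m = t * n := h
  have h0 : Ideal.Quotient.mk (Ideal.span {t}) g * Ideal.Quotient.mk (Ideal.span {t}) m = 0 := by
    rw [← map_mul, h', Ideal.Quotient.eq_zero_iff_mem]
    exact Ideal.mul_mem_right _ _ (Ideal.mem_span_singleton_self t)
  obtain ⟨w, hw⟩ := Ideal.mem_span_singleton'.1 (Ideal.Quotient.eq_zero_iff_mem.1 ((mul_eq_zero.1 h0).resolve_left hg))
  exact ⟨w, by rw [← hw, smul_eq_mul, mul_comm]⟩

theorem isLocalRing_quotient_of_mem [IsLocalRing R] [IsNoetherianRing R] {t : R} (ht : t ∈ maximalIdeal R) :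
    IsLocalRing (R ⧸ Ideal.span {t}) :=
  RegLocal.isLocalRing_quot (fun h => (maximalIdeal.isMaximal R).ne_top
    (top_le_iff.1 (h ▸ Ideal.span_le.2 (Set.singleton_subset_iff.2 ht))))

theorem mem_maximalIdeal_of_mk [IsLocalRing R] (I : Ideal R) [IsLocalRing (R ⧸ I)] {r : R}
    (hr : Ideal.Quotient.mk I r ∈ maximalIdeal (R ⧸ I)) : r ∈ maximalIdeal R := by
  rw [mem_maximalIdeal, mem_nonunits_iff] at hr ⊢
  exact fun hu => hr (hu.map _)

theorem pure_of_dim_two [IsRegularLocalRing R] (hd : ringKrullDim R = 2) : PureRing R := by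
  classical
  intro A _ _ _ hA hét
  obtain ⟨t, ht, ht0, hreg, hdim⟩ := exists_param (R := R) (d := 2) (by exact_mod_cast hd) (by norm_num)
  haveI := hreg
  haveI := RegLocal.isDomain (R := R ⧸ Ideal.span {t})
  obtain ⟨gb, hgb, hgb0, hreg', hdim'⟩ := exists_param (R := R ⧸ Ideal.span {t}) (d := 1) hdim le_rfl
  haveI := hreg'
  obtain ⟨g, rfl⟩ := Ideal.Quotient.mk_surjective gb
  have htg : RegPair R t g := regPair_of_param ht0 hgb0
  have hmax : maximalIdeal (R ⧸ Ideal.span {t}) = Ideal.span {Ideal.Quotient.mk _ g} := by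
    refine le_antisymm (fun x hx => ?_) (Ideal.span_le.2 (Set.singleton_subset_iff.2 hgb))
    haveI := RegLocal.isDomain (R := (R ⧸ Ideal.span {t}) ⧸ Ideal.span {Ideal.Quotient.mk (Ideal.span {t}) g})
    have hf : IsField ((R ⧸ Ideal.span {t}) ⧸ Ideal.span {Ideal.Quotient.mk (Ideal.span {t}) g}) := by
      haveI : Ring.KrullDimLE 0 ((R ⧸ Ideal.span {t}) ⧸ Ideal.span {Ideal.Quotient.mk (Ideal.span {t}) g}) :=
        (Ring.krullDimLE_iff).2 (by rw [hdim'])
      exact Ring.KrullDimLE.isField_of_isDomain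
    by_contra hxn
    have hne : Ideal.Quotient.mk (Ideal.span {Ideal.Quotient.mk (Ideal.span {t}) g}) x ≠ 0 :=
      fun h0 => hxn (Ideal.Quotient.eq_zero_iff_mem.1 h0)
    obtain ⟨w, hw⟩ := hf.mul_inv_cancel hne
    obtain ⟨w, rfl⟩ := Ideal.Quotient.mk_surjective w
    rw [← map_mul, ← map_one (Ideal.Quotient.mk _), Ideal.Quotient.eq] at hw
    exact (maximalIdeal.isMaximal (R ⧸ Ideal.span {t})).ne_top ((Ideal.eq_top_iff_one _).2 (by
      have h1 := (Ideal.span_le.2 (Set.singleton_subset_iff.2 hgb) :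
        Ideal.span {Ideal.Quotient.mk (Ideal.span {t}) g} ≤ maximalIdeal _) hw
      have h2 : x * w ∈ maximalIdeal (R ⧸ Ideal.span {t}) := Ideal.mul_mem_right _ _ hx
      simpa using sub_mem h2 h1))
  have hnf : ¬ IsField (R ⧸ Ideal.span {t}) := fun hf => by
    rw [isField_iff_maximalIdeal_eq, hmax, Ideal.span_singleton_eq_bot] at hf
    exact hgb0 hf
  haveI : IsDiscreteValuationRing (R ⧸ Ideal.span {t}) :=
    ((IsDiscreteValuationRing.TFAE _ hnf).out 0 4).2 (show (maximalIdeal (R ⧸ Ideal.span {t})).IsPrincipal from ⟨⟨_, hmax⟩⟩)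
  have hirr : Irreducible (Ideal.Quotient.mk (Ideal.span {t}) g) :=
    (IsDiscreteValuationRing.irreducible_iff_uniformizer _).2 hmax
  have hflat := flatOff_of_etaleOff hét
  have hRA : RegPair A t g := regPair_of_depthTwo hflat hA htg
  let J := (Ideal.span {t}).map (algebraMap R A)
  haveI : Module.Finite (R ⧸ Ideal.span {t}) (A ⧸ J) := Module.Finite.of_restrictScalars_finite R _ _
  have hgB : ∀ (k : ℕ) (b : A ⧸ J), (Ideal.Quotient.mk (Ideal.span {t}) g) ^ k • b = 0 → b = 0 := fun k b hb => by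
    obtain ⟨a, rfl⟩ := Ideal.Quotient.mk_surjective b
    rw [← map_pow, mk_smul, ← Ideal.Quotient.mkₐ_eq_mk R, ← map_smul, Ideal.Quotient.mkₐ_eq_mk,
      Ideal.Quotient.eq_zero_iff_mem] at hb
    simp only [J, Ideal.map_span, Set.image_singleton, Ideal.mem_span_singleton'] at hb
    obtain ⟨a', ha'⟩ := hb
    obtain ⟨a'', rfl⟩ := hRA.exists_of_pow 1 k (m := a) (n := a') (by rw [← ha', pow_one, Algebra.smul_def, mul_comm])
    rw [pow_one, Algebra.smul_def]
    exact Ideal.Quotient.eq_zero_iff_mem.2 (J.mul_mem_right _ (Ideal.mem_map_of_mem _ (Ideal.mem_span_singleton_self t)))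
  haveI : Module.IsTorsionFree (R ⧸ Ideal.span {t}) (A ⧸ J) := by
    refine Module.IsTorsionFree.mk fun r hr b₁ b₂ hb => ?_
    obtain ⟨k, u, rfl⟩ := IsDiscreteValuationRing.eq_unit_mul_pow_irreducible hr.ne_zero hirr
    have h0 : ((u : R ⧸ Ideal.span {t}) * Ideal.Quotient.mk _ g ^ k) • (b₁ - b₂) = 0 := by
      rw [smul_sub]; exact sub_eq_zero.2 hb
    rw [mul_smul] at h0
    exact sub_eq_zero.1 (hgB k _ ((u.isUnit.smul_eq_zero).1 h0))
  haveI : Module.Free (R ⧸ Ideal.span {t}) (A ⧸ J) := Module.free_of_finite_type_torsion_free'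
  haveI : Module.Free R A := free_of_quotient ht hRA.1
  refine ⟨inferInstance, (TraceEt.etale_iff_bijective R A).2 ?_⟩
  let b := Module.Free.chooseBasis R A
  rw [TraceEt.bijective_traceForm_iff R A b]
  by_contra hd'
  have hne : Ideal.span {(Matrix.of fun i j => Algebra.traceForm R A (b j) (b i)).det} ≠ ⊤ :=
    fun h => hd' (Ideal.span_singleton_eq_top.1 h)
  obtain ⟨p, hp⟩ := Ideal.nonempty_minimalPrimes hne
  haveI := hp.1.1
  have hpm : p ≠ maximalIdeal R := fun he => by
    have h1 := Ideal.height_le_one_of_isPrincipal_of_mem_minimalPrimes (Ideal.span {_}) p hp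
    rw [he, ← WithBot.coe_le_coe, IsLocalRing.maximalIdeal_height_eq_ringKrullDim, hd] at h1
    exact absurd h1 (by decide)
  obtain ⟨h, hh, hhp⟩ : ∃ h ∈ maximalIdeal R, h ∉ p := by
    by_contra hall
    simp only [not_exists, not_and, Classical.not_not] at hall
    exact hpm (((maximalIdeal.isMaximal R).eq_of_le hp.1.1.ne_top hall).symm)
  haveI := hét h hh
  let L := AlgebraicClosure p.ResidueField
  have hker : ∀ x : R, algebraMap R L x = 0 ↔ x ∈ p := fun x => by
    rw [IsScalarTower.algebraMap_apply R p.ResidueField L, map_eq_zero, Ideal.algebraMap_residueField_eq_zero]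
  have hu : IsUnit (algebraMap R L h) := IsUnit.mk0 _ fun h0 => hhp ((hker h).1 h0)
  haveI := etale_baseChange_of_lo (A := A) h L hu
  exact (TraceEt.etale_baseChange_iff R A b L).1 inferInstance ((hker _).2 (hp.1.2 (Ideal.mem_span_singleton_self _)))

theorem pureRing_aux : ∀ (n : ℕ) (R : Type u) [CommRing R] [IsRegularLocalRing R],
    ringKrullDim R = ((n + 2 : ℕ) : WithBot ℕ∞) → PureRing R := by
  intro n
  induction n with
  | zero => intro R _ _ hd; exact pure_of_dim_two (by simpa using hd)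
  | succ n ih =>
    intro R _ _ hd A _ _ _ hA hét
    obtain ⟨t, ht, ht0, hreg, hdim⟩ := exists_param (R := R) hd (by omega)
    haveI := hreg
    obtain ⟨gb, hgb, hgb0, hreg', hdim'⟩ := exists_param (R := R ⧸ Ideal.span {t}) hdim (by omega)
    haveI := hreg'
    obtain ⟨g, rfl⟩ := Ideal.Quotient.mk_surjective gb
    obtain ⟨yb, hyb, hyb0, -, -⟩ := exists_param
      (R := (R ⧸ Ideal.span {t}) ⧸ Ideal.span {Ideal.Quotient.mk (Ideal.span {t}) g}) hdim' (by omega)
    obtain ⟨yb, rfl⟩ := Ideal.Quotient.mk_surjective yb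
    obtain ⟨y, rfl⟩ := Ideal.Quotient.mk_surjective yb
    have hg : g ∈ maximalIdeal R := mem_maximalIdeal_of_mk _ hgb
    have hy : y ∈ maximalIdeal R := mem_maximalIdeal_of_mk _ (mem_maximalIdeal_of_mk _ hyb)
    have hgy' : RegPair (R ⧸ Ideal.span {t}) (Ideal.Quotient.mk (Ideal.span {t}) g) (Ideal.Quotient.mk _ y) :=
      regPair_of_param hgb0 hyb0
    have hgy : RegPair (R ⧸ Ideal.span {t}) g y :=
      ⟨fun m hm => hgy'.1 m (by rw [mk_smul]; exact hm), fun m m' h => by
        obtain ⟨w, hw⟩ := hgy'.2 m m' (by rw [mk_smul, mk_smul]; exact h)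
        exact ⟨w, by rw [hw, mk_smul]⟩⟩
    exact step ht hg hy (regPair_of_param ht0 hgb0) hgy
      (ih (R ⧸ Ideal.span {t}) (by rw [hdim]; rfl)) hA hét

/-- Purity over a regular local ring of dimension at least two. -/
theorem pureRing (R : Type u) [CommRing R] [IsRegularLocalRing R] (h : 2 ≤ ringKrullDim R) : PureRing R := by
  obtain ⟨d, hd⟩ := RegLocal.exists_nat_ringKrullDim (R := R)
  rw [hd] at h
  have h2 : 2 ≤ d := by exact_mod_cast h
  exact pureRing_aux (d - 2) R (by rw [hd, Nat.sub_add_cancel h2])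

end Groth.Agent.PurityLib
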