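import Groth.Agent.PurityLib.Global
import Groth.Agent.Unibranch.NormalStalk
import Groth.Agent.FlatLocus.PointAlg
import Groth.Agent.FpqcDesc.Stalk
import Groth.Agent.Depth.FlatLocal
import Mathlib.RingTheory.Etale.QuasiFinite

/-!
Purity of the branch locus at a quasi-finite normal point over a regular local ring.
-/

set_option autoImplicit false
set_option linter.style.haveILetI false
universe u
open IsLocalRing TensorProduct

namespace Groth.Agent.PurityLib

theorem dim_regular_of_etale {R S : Type u} [CommRing R] [CommRing S] [Algebra R S] [Algebra.Etale R S]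
    [IsNoetherianRing R] (p : Ideal R) [p.IsPrime] (q : Ideal S) [q.IsPrime] [q.LiesOver p] :
    ringKrullDim (Localization.AtPrime q) = ringKrullDim (Localization.AtPrime p) ∧
      (IsRegularLocalRing (Localization.AtPrime q) ↔ IsRegularLocalRing (Localization.AtPrime p)) := by
  haveI : IsNoetherianRing S := Algebra.FiniteType.isNoetherianRing R S
  letI := Localization.AtPrime.algebraOfLiesOver p q
  haveI : Algebra.EssFiniteType (Localization.AtPrime p) (Localization.AtPrime q) :=
    haveI := Algebra.EssFiniteType.of_isLocalization (R := S) (Localization.AtPrime q) q.primeCompl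
    haveI := Algebra.EssFiniteType.comp R S (Localization.AtPrime q)
    Algebra.EssFiniteType.of_comp R (Localization.AtPrime p) _
  haveI : IsLocalHom (algebraMap (Localization.AtPrime p) (Localization.AtPrime q)) :=
    Localization.isLocalHom_localRingHom p q (algebraMap R S) Ideal.LiesOver.over
  haveI : Algebra.FormallyEtale S (Localization.AtPrime q) := Algebra.FormallyEtale.of_isLocalization q.primeCompl
  haveI : Algebra.IsUnramifiedAt R q := Algebra.FormallyUnramified.comp R S _
  haveI : Module.Flat S (Localization.AtPrime q) := IsLocalization.flat _ q.primeCompl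
  haveI : Module.Flat R (Localization.AtPrime q) := Module.Flat.trans R S _
  haveI : Module.Flat (Localization.AtPrime p) (Localization.AtPrime q) :=
    (Module.flat_iff_of_isLocalization (Localization.AtPrime p) p.primeCompl (Localization.AtPrime q)).2 inferInstance
  have h := Algebra.FormallyUnramified.map_maximalIdeal (R := Localization.AtPrime p) (S := Localization.AtPrime q)
  exact ⟨Depth.ringKrullDim_eq_of_map_maximalIdeal _ _ h, Depth.isRegularLocalRing_iff_of_map_maximalIdeal _ _ h⟩

theorem faithfulSMul_of_dim_eq {R A : Type u} [CommRing R] [IsDomain R] [CommRing A] [Algebra R A]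
    [Algebra.IsIntegral R A] {d : ℕ} (hR : ringKrullDim R = d) (hA : ringKrullDim A = d) : FaithfulSMul R A := by
  rw [faithfulSMul_iff_algebraMap_injective, injective_iff_map_eq_zero]
  intro x hx
  by_contra hx0
  have hle : ringKrullDim A ≤ ringKrullDim (R ⧸ Ideal.span {x}) := by
    refine Order.krullDim_le_of_strictMono (fun Q : PrimeSpectrum A =>
      (⟨(Q.asIdeal.under R).map (Ideal.Quotient.mk (Ideal.span {x})), Ideal.map_isPrime_of_surjective
        Ideal.Quotient.mk_surjective (by
          rw [Ideal.mk_ker, Ideal.span_le, Set.singleton_subset_iff, SetLike.mem_coe, Ideal.under, Ideal.mem_comap, hx]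
          exact zero_mem _)⟩ : PrimeSpectrum (R ⧸ Ideal.span {x}))) fun Q Q' h => ?_
    have hlt : Q.asIdeal.under R < Q'.asIdeal.under R := by
      obtain ⟨a, ha, ha'⟩ := SetLike.exists_of_lt (show Q.asIdeal < Q'.asIdeal from h)
      exact Ideal.comap_lt_comap_of_integral_mem_sdiff h.le ⟨ha, ha'⟩ (Algebra.IsIntegral.isIntegral a)
    refine lt_of_le_of_ne (Ideal.map_mono hlt.le) fun he => hlt.ne ?_
    have hx' : ∀ Q : PrimeSpectrum A, Ideal.span {x} ≤ Q.asIdeal.under R := fun Q => by
      rw [Ideal.span_le, Set.singleton_subset_iff, SetLike.mem_coe, Ideal.under, Ideal.mem_comap, hx]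
      exact zero_mem _
    have he' := congrArg (Ideal.comap (Ideal.Quotient.mk (Ideal.span {x}))) (congrArg PrimeSpectrum.asIdeal he)
    rwa [Ideal.comap_map_mk (hx' Q), Ideal.comap_map_mk (hx' Q')] at he'
  have h1 := ringKrullDim_quotient_succ_le_of_nonZeroDivisor (mem_nonZeroDivisors_of_ne_zero hx0)
  rw [hR] at h1
  rw [hA] at hle
  have h2 : (d : WithBot ℕ∞) + 1 ≤ d := (add_le_add hle le_rfl).trans h1
  have h3 : d + 1 ≤ d := by exact_mod_cast h2
  omega

theorem atPrime_congr {B A : Type u} [CommRing B] [CommRing A] [Algebra B A] {P Q : Ideal B} [P.IsPrime] [Q.IsPrime]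
    (h : P = Q) [IsLocalization.AtPrime A P] : IsLocalization.AtPrime A Q := by
  subst h; infer_instance

variable {R S : Type u} [CommRing R] [CommRing S] [Algebra R S]

theorem formallyEtale_of_quasiFiniteAt [IsNoetherianRing R] [Algebra.FiniteType R S] (p : Ideal R) [p.IsPrime]
    (q : Ideal S) [q.IsPrime] [q.LiesOver p] [Algebra.QuasiFiniteAt R q]
    [IsRegularLocalRing (Localization.AtPrime p)] [IsDomain (Localization.AtPrime q)]
    [IsIntegrallyClosed (Localization.AtPrime q)]
    (hdim : ringKrullDim (Localization.AtPrime q) = ringKrullDim (Localization.AtPrime p))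
    (hunr : ∀ (Q : Ideal S) [Q.IsPrime], Q ≤ q → Q.height ≤ 1 → Algebra.IsUnramifiedAt R Q) :
    letI := Localization.AtPrime.algebraOfLiesOver p q
    Algebra.FormallyEtale (Localization.AtPrime p) (Localization.AtPrime q) := by
  letI := Localization.AtPrime.algebraOfLiesOver p q
  obtain ⟨R', _, _, _, P, _, _, e, -, P', _, _, hP'q, heP', -, hfin, huniq⟩ :=
    Algebra.exists_etale_isIdempotentElem_forall_liesOver_eq p q
  haveI : IsNoetherianRing R' := Algebra.FiniteType.isNoetherianRing R R'
  haveI : IsNoetherianRing S := Algebra.FiniteType.isNoetherianRing R S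
  let B := R' ⊗[R] S
  letI : Algebra S B := Algebra.TensorProduct.rightAlgebra
  let c : S ⊗[R] R' ≃ₐ[S] B :=
    { __ := Algebra.TensorProduct.comm R S R', commutes' := fun _ => rfl }
  haveI : Algebra.Etale S B := Algebra.Etale.of_equiv c
  haveI : IsNoetherianRing B := Algebra.FiniteType.isNoetherianRing S B
  haveI : IsScalarTower R S B := IsScalarTower.of_algebraMap_eq fun r => by
    show _ = (1 : R') ⊗ₜ[R] algebraMap R S r
    rw [Algebra.TensorProduct.algebraMap_apply, Algebra.algebraMap_eq_smul_one, Algebra.algebraMap_eq_smul_one,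
      smul_tmul]
  haveI : P'.LiesOver q := ⟨hP'q.symm⟩
  -- the finite factor
  let T := Localization.Away e
  haveI : Module.Finite R' T := hfin
  haveI : IsScalarTower R S T := IsScalarTower.of_algebraMap_eq fun r => by
    rw [IsScalarTower.algebraMap_apply R B T, IsScalarTower.algebraMap_apply R S B, ← IsScalarTower.algebraMap_apply]
  have hdisj : Disjoint (Submonoid.powers e : Set B) P' :=
    (Ideal.disjoint_powers_iff_notMem_of_isPrime e).2 heP'
  let PT : Ideal T := P'.map (algebraMap B T)
  haveI : PT.IsPrime := IsLocalization.isPrime_of_isPrime_disjoint (Submonoid.powers e) T P' inferInstance hdisj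
  have hPT : PT.comap (algebraMap B T) = P' :=
    IsLocalization.under_map_of_isPrime_disjoint (Submonoid.powers e) T inferInstance hdisj
  haveI : PT.LiesOver P := ⟨by
    rw [Ideal.under, IsScalarTower.algebraMap_eq R' B T, ← Ideal.comap_comap, hPT]
    exact Ideal.LiesOver.over⟩
  haveI : PT.LiesOver q := ⟨by
    rw [Ideal.under, IsScalarTower.algebraMap_eq S B T, ← Ideal.comap_comap, hPT]
    exact Ideal.LiesOver.over⟩
  let Rh := Localization.AtPrime P
  let A := Localization.AtPrime PT
  letI : Algebra Rh A := Localization.AtPrime.algebraOfLiesOver P PT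
  letI : Algebra (Localization.AtPrime q) A := Localization.AtPrime.algebraOfLiesOver q PT
  haveI hAB : IsLocalization.AtPrime A P' := by
    haveI := IsLocalization.isLocalization_isLocalization_atPrime_isLocalization (Submonoid.powers e) A PT
    exact atPrime_congr hPT
  haveI : IsLocalization (Algebra.algebraMapSubmonoid T P.primeCompl) A := by
    refine (IsLocalization.iff_of_le_of_exists_dvd (S := A) (Algebra.algebraMapSubmonoid T P.primeCompl) PT.primeCompl ?_ ?_).2
      inferInstance
    · rintro _ ⟨r, hr, rfl⟩ hrP
      exact hr ((Ideal.LiesOver.over (P := PT) (p := P)).symm ▸ hrP)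
    · intro t ht
      by_contra hne
      push Not at hne
      have hle : (Ideal.span {t}).comap (algebraMap R' T) ≤ P := fun r hr => by
        by_contra hrP
        exact hne _ ⟨r, hrP, rfl⟩ (Ideal.mem_span_singleton.1 hr)
      obtain ⟨Q, hQt, hQ, hQP⟩ := Ideal.exists_ideal_over_prime_of_isIntegral P (Ideal.span {t}) hle
      haveI := hQ
      have heq : Q.comap (algebraMap B T) = P' := by
        refine huniq _ inferInstance ⟨?_⟩ fun he => ?_
        · rw [Ideal.under, Ideal.comap_comap, ← IsScalarTower.algebraMap_eq, hQP]
        · exact hQ.ne_top (Ideal.eq_top_of_isUnit_mem _ he (IsLocalization.Away.algebraMap_isUnit e))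
      refine ht ?_
      show t ∈ P'.map (algebraMap B T)
      rw [← heq, IsLocalization.map_under (Submonoid.powers e) T Q]
      exact hQt (Ideal.mem_span_singleton_self t)
  haveI : Module.Finite Rh A := Module.Finite.of_isLocalization R' T P.primeCompl
  -- the base
  obtain ⟨hdimR, hregR⟩ := dim_regular_of_etale p P
  haveI : IsRegularLocalRing Rh := hregR.2 inferInstance
  haveI := RegLocal.isDomain (R := Rh)
  -- the top
  haveI : IsLocalization.AtPrime (Localization.AtPrime q) (P'.comap (algebraMap S B)) :=
    atPrime_congr (A := Localization.AtPrime q) (P := q) Ideal.LiesOver.over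
  obtain ⟨hdom, hicl⟩ := Unibranch.isDomain_isIntegrallyClosed_localization (R := S) P' (Localization.AtPrime q) A
  haveI := hdom
  haveI := hicl
  obtain ⟨hdimS, -⟩ := dim_regular_of_etale q P'
  have hdimA : ringKrullDim A = ringKrullDim (Localization.AtPrime P') :=
    ringKrullDim_eq_of_ringEquiv (IsLocalization.algEquiv P'.primeCompl A (Localization.AtPrime P')).toRingEquiv
  obtain ⟨d, hd⟩ := RegLocal.exists_nat_ringKrullDim (R := Rh)
  haveI : FaithfulSMul Rh A := faithfulSMul_of_dim_eq hd (by rw [hdimA, hdimS, hdim, ← hdimR, hd])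
  -- unramified in codimension one
  haveI : Algebra.Etale B T := Algebra.Etale.of_isLocalizationAway e
  haveI : Algebra.FormallyEtale S T := Algebra.FormallyEtale.comp S B T
  haveI : Algebra.FormallyEtale T A := Algebra.FormallyEtale.of_isLocalization PT.primeCompl
  haveI : Algebra.FormallyEtale S A := Algebra.FormallyEtale.comp S T A
  haveI : IsLocalHom (algebraMap (Localization.AtPrime q) A) :=
    Localization.isLocalHom_localRingHom q PT (algebraMap S T) Ideal.LiesOver.over
  haveI : Module.Flat B T := IsLocalization.flat _ (Submonoid.powers e)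
  haveI : Module.Flat S T := Module.Flat.trans S B T
  haveI : Module.Flat T A := IsLocalization.flat _ PT.primeCompl
  haveI : Module.Flat S A := Module.Flat.trans S T A
  haveI : IsNoetherianRing A := IsNoetherianRing.of_finite Rh A
  have hunrA : ∀ (Qa : Ideal A) [Qa.IsPrime], Qa.height ≤ 1 → Algebra.IsUnramifiedAt Rh Qa := by
    intro Qa _ hQa
    let Q0 := Qa.comap (algebraMap S A)
    haveI : Qa.LiesOver Q0 := ⟨rfl⟩
    have hQ0 : Q0 ≤ q := fun s hs => by
      by_contra hsq
      have hu : IsUnit (algebraMap S A s) := by
        rw [IsScalarTower.algebraMap_apply S (Localization.AtPrime q) A]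
        exact (IsLocalization.map_units _ (⟨s, hsq⟩ : q.primeCompl)).map _
      exact (inferInstance : Qa.IsPrime).ne_top (Ideal.eq_top_of_isUnit_mem _ hs hu)
    have hht : Q0.height ≤ 1 := by
      refine le_trans ?_ hQa
      rw [Ideal.height_eq_height_add_of_liesOver_of_hasGoingDown Q0 Qa]
      exact le_self_add
    haveI := hunr Q0 hQ0 hht
    haveI : Algebra.IsUnramifiedAt S Qa := by
      haveI : Algebra.FormallyEtale A (Localization.AtPrime Qa) := Algebra.FormallyEtale.of_isLocalization Qa.primeCompl
      exact Algebra.FormallyUnramified.comp S A _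
    haveI : Algebra.IsUnramifiedAt R Qa := Algebra.IsUnramifiedAt.comp Q0 Qa
    exact Algebra.IsUnramifiedAt.of_restrictScalars R Qa
  haveI : Algebra.Etale Rh A := etale_of_unramified_codim_one hunrA
  haveI : Module.Flat Rh A := inferInstance
  -- descent to `S_q`
  haveI : Algebra.FormallyEtale R' Rh := Algebra.FormallyEtale.of_isLocalization P.primeCompl
  haveI : Algebra.FormallyEtale R Rh := Algebra.FormallyEtale.comp R R' Rh
  haveI : Algebra.FormallyEtale R A := Algebra.FormallyEtale.comp R Rh A
  haveI : Module.Flat R' Rh := IsLocalization.flat _ P.primeCompl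
  haveI : Module.Flat R Rh := Module.Flat.trans R R' Rh
  haveI : Module.Flat R A := Module.Flat.trans R Rh A
  haveI : Module.Flat (Localization.AtPrime q) A :=
    (Module.flat_iff_of_isLocalization (Localization.AtPrime q) q.primeCompl A).2 inferInstance
  haveI : Module.FaithfullyFlat (Localization.AtPrime q) A := Module.FaithfullyFlat.of_flat_of_isLocalHom
  haveI : Module.Flat R (Localization.AtPrime q) :=
    FlatDescStalk.flat_of_comp_faithfullyFlat R (Localization.AtPrime q) A
  haveI : Module.Flat (Localization.AtPrime p) (Localization.AtPrime q) :=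
    (Module.flat_iff_of_isLocalization (Localization.AtPrime p) p.primeCompl (Localization.AtPrime q)).2 inferInstance
  haveI : Algebra.FormallyEtale (Localization.AtPrime q) A :=
    Algebra.FormallyEtale.localization_base q.primeCompl (R := S) (Rₘ := Localization.AtPrime q)
  haveI : Algebra.FormallyUnramified R (Localization.AtPrime q) := by
    refine ⟨?_⟩
    haveI : Subsingleton (A ⊗[Localization.AtPrime q] KaehlerDifferential R (Localization.AtPrime q)) :=
      (KaehlerDifferential.tensorKaehlerEquivOfFormallyEtale R (Localization.AtPrime q) A).toEquiv.subsingleton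
    exact Module.FaithfullyFlat.lTensor_reflects_triviality (Localization.AtPrime q) A _
  haveI : Algebra.FormallyUnramified (Localization.AtPrime p) (Localization.AtPrime q) :=
    Algebra.FormallyUnramified.of_restrictScalars R _ _
  haveI : IsLocalHom (algebraMap (Localization.AtPrime p) (Localization.AtPrime q)) :=
    Localization.isLocalHom_localRingHom p q (algebraMap R S) Ideal.LiesOver.over
  haveI : Algebra.FinitePresentation R S := Algebra.FinitePresentation.of_finiteType.1 inferInstance
  haveI : Algebra.EssFiniteType (Localization.AtPrime p) (Localization.AtPrime q) :=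
    haveI := Algebra.EssFiniteType.of_isLocalization (R := S) (Localization.AtPrime q) q.primeCompl
    haveI := Algebra.EssFiniteType.comp R S (Localization.AtPrime q)
    Algebra.EssFiniteType.of_comp R (Localization.AtPrime p) _
  let κ := Localization.AtPrime p ⧸ maximalIdeal (Localization.AtPrime p)
  letI : Field κ := Ideal.Quotient.field _
  have hfs : (algebraMap κ (κ ⊗[Localization.AtPrime p] Localization.AtPrime q)).FormallySmooth := by
    haveI := Algebra.FormallyEtale.of_formallyUnramified_of_field (K := κ)
      (A := κ ⊗[Localization.AtPrime p] Localization.AtPrime q)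
    exact RingHom.formallySmooth_algebraMap.2 inferInstance
  haveI := FlatLocus.formallySmooth_of_quotient (A := R) (B := S) (A' := Localization.AtPrime p)
    (B' := Localization.AtPrime q) p q (Ideal.LiesOver.over (P := q) (p := p)).symm _ le_rfl hfs
  exact ⟨inferInstance, inferInstance⟩

end Groth.Agent.PurityLib
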