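import Groth.Agent.PurityLib.EtaleGlobal
import Groth.Agent.FlatSecLib.Extend
import Groth.Agent.CMGraded.FlatCM
import Mathlib.AlgebraicGeometry.Normalization

/-!
Finite étale covers of an open of a regular Noetherian scheme with complement of codimension two extend.
-/

set_option autoImplicit false
set_option linter.style.haveILetI false
universe u
open AlgebraicGeometry CategoryTheory CategoryTheory.Limits IsLocalRing TopologicalSpace Opposite

namespace Groth.Agent.PurityLib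

theorem two_le_depth_of_regular (A : Type u) [CommRing A] [IsRegularLocalRing A] (h : (2 : WithBot ℕ∞) ≤ ringKrullDim A) :
    (2 : ℕ∞) ≤ LocCoh.depth A A := by
  have hd : ringKrullDim A = (maximalIdeal A).spanFinrank := ((isRegularLocalRing_iff A).1 inferInstance).symm
  obtain ⟨z, hz⟩ := RegLocal.exists_generators (R := A)
  haveI : LocCoh.IsCohenMacaulayLocalRing A := CMGraded.isCohenMacaulayLocalRing_of_seq (rs := List.ofFn z)
    (fun r hr => by
      obtain ⟨i, rfl⟩ := List.mem_ofFn.1 hr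
      exact hz ▸ Ideal.subset_span ⟨i, rfl⟩)
    (RegLocal.isRegular_of_generators (R := A) hd z hz).1 (by rw [List.length_ofFn]; exact hd.le)
  have h1 := CMGraded.depth_eq_ringKrullDim (R := A)
  rw [← h1] at h
  exact WithBot.coe_le_coe.1 h

section Sections

variable {Y : Scheme.{u}} {A : Type u} [CommRing A] {W0 : Y.Opens} (φ : A →+* Γ(Y, W0))

theorem etale_lo_on (hW : IsCompact (W0 : Set Y)) (hW' : IsQuasiSeparated (W0 : Set Y)) (h : A)
    (het : ((Y.presheaf.map (homOfLE (Y.basicOpen_le (φ h))).op).hom.comp φ).Etale) :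
    letI := φ.toAlgebra
    Algebra.Etale A (Lo h Γ(Y, W0)) := by
  letI := φ.toAlgebra
  letI : Algebra A Γ(Y, Y.basicOpen (φ h)) :=
    ((Y.presheaf.map (homOfLE (Y.basicOpen_le (φ h))).op).hom.comp φ).toAlgebra
  haveI : IsScalarTower A Γ(Y, W0) Γ(Y, Y.basicOpen (φ h)) := IsScalarTower.of_algebraMap_eq' rfl
  haveI : IsLocalization.Away (algebraMap A Γ(Y, W0) h) Γ(Y, Y.basicOpen (φ h)) :=
    isLocalization_basicOpen_of_qcqs hW hW' (φ h)
  haveI : Algebra.Etale A Γ(Y, Y.basicOpen (φ h)) := het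
  exact Algebra.Etale.of_equiv ((IsLocalization.algEquiv (Submonoid.powers (algebraMap A Γ(Y, W0) h))
    Γ(Y, Y.basicOpen (φ h)) (Lo h Γ(Y, W0))).restrictScalars A)

theorem regPair_sections_on (J : Ideal A) {t y : A} (hty : RegPair A t y)
    (het : ∀ h ∈ J, ((Y.presheaf.map (homOfLE (Y.basicOpen_le (φ h))).op).hom.comp φ).Etale)
    (hcov : ∀ x ∈ W0, ∃ h ∈ J, x ∈ Y.basicOpen (φ h)) :
    letI := φ.toAlgebra
    RegPair Γ(Y, W0) t y := by
  letI := φ.toAlgebra
  let res : ∀ W : Y.Opens, W ≤ W0 → (Γ(Y, W0) →+* Γ(Y, W)) := fun W hW => (Y.presheaf.map (homOfLE hW).op).hom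
  have key : ∀ h ∈ J, (∀ s : Γ(Y, Y.basicOpen (φ h)), res _ (Y.basicOpen_le _) (φ t) * s = 0 → s = 0) ∧
      ∀ s s' : Γ(Y, Y.basicOpen (φ h)), res _ (Y.basicOpen_le _) (φ y) * s = res _ (Y.basicOpen_le _) (φ t) * s' →
        ∃ w : Γ(Y, Y.basicOpen (φ h)), s = res _ (Y.basicOpen_le _) (φ t) * w := by
    intro h hh
    letI : Algebra A Γ(Y, Y.basicOpen (φ h)) :=
      ((Y.presheaf.map (homOfLE (Y.basicOpen_le (φ h))).op).hom.comp φ).toAlgebra
    haveI : Algebra.Etale A Γ(Y, Y.basicOpen (φ h)) := het h hh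
    exact regPair_of_flat hty
  let U : J → Y.Opens := fun h => Y.basicOpen (φ (h : A))
  have hle : ∀ i, U i ≤ W0 := fun i => Y.basicOpen_le _
  have hU : W0 ≤ iSup U := fun x hx => by
    obtain ⟨h, hh, hx⟩ := hcov x hx
    exact Opens.mem_iSup.2 ⟨⟨h, hh⟩, hx⟩
  have h1 : ∀ s : Γ(Y, W0), t • s = 0 → s = 0 := fun s hs => by
    refine Y.sheaf.eq_of_locally_eq' U W0 (fun i => homOfLE (hle i)) hU s 0 fun i => ?_
    refine ((key _ i.2).1 _ ?_).trans (map_zero _).symm
    have := congrArg (res _ (hle i)) hs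
    rw [Algebra.smul_def, map_mul, map_zero] at this
    exact this
  refine ⟨h1, fun m n hmn => ?_⟩
  have hloc : ∀ i, ∃ w : Γ(Y, U i), res _ (hle i) m = res _ (hle i) (φ t) * w :=
    fun i => (key _ i.2).2 _ (res _ (hle i) n) (by
      have := congrArg (res _ (hle i)) hmn
      rw [Algebra.smul_def, Algebra.smul_def, map_mul, map_mul] at this
      exact this)
  choose w hw using hloc
  have hcompat : TopCat.Presheaf.IsCompatible Y.presheaf U w := fun i j => by
    have hij : Y.basicOpen (φ ((i : A) * (j : A))) = U i ⊓ U j := by rw [map_mul, Scheme.basicOpen_mul]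
    refine sub_eq_zero.1 ?_
    let W := Y.basicOpen (φ ((i : A) * (j : A)))
    have e : ∀ (k : J) (ik : W ⟶ U k), res W (Y.basicOpen_le _) (φ t) * (Y.presheaf.map ik.op).hom (w k) =
        res W (Y.basicOpen_le _) m := fun k ik => by
      have hc : ∀ z, (Y.presheaf.map ik.op).hom (res _ (hle k) z) = res W (Y.basicOpen_le _) z := fun z => by
        show ((Y.presheaf.map _) ≫ (Y.presheaf.map _)).hom z = _
        rw [← Functor.map_comp]
        rfl
      rw [← hc, ← map_mul, ← hw, hc]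
    have hz : (Y.presheaf.map (homOfLE hij.le).op).hom
        ((Y.presheaf.map (Opens.infLELeft (U i) (U j)).op).hom (w i) -
          (Y.presheaf.map (Opens.infLERight (U i) (U j)).op).hom (w j)) = 0 := by
      refine (key _ (Ideal.mul_mem_right (j : A) _ i.2)).1 _ ?_
      rw [map_sub, mul_sub, sub_eq_zero]
      have ei : ∀ {k : J} (ik : U i ⊓ U j ⟶ U k), (Y.presheaf.map (homOfLE hij.le).op).hom
          ((Y.presheaf.map ik.op).hom (w k)) = (Y.presheaf.map (homOfLE hij.le ≫ ik).op).hom (w k) := fun ik => by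
        rw [op_comp, Functor.map_comp]; rfl
      rw [ei, ei, e, e]
    have := congrArg (Y.presheaf.map (homOfLE hij.ge).op).hom hz
    rw [map_zero] at this
    refine Eq.trans ?_ this
    show _ = ((Y.presheaf.map _) ≫ (Y.presheaf.map _)).hom _
    rw [← Functor.map_comp, ← op_comp, Subsingleton.elim (homOfLE hij.ge ≫ homOfLE hij.le) (𝟙 _), op_id,
      CategoryTheory.Functor.map_id]
    rfl
  obtain ⟨z₀, hz, -⟩ := Y.sheaf.existsUnique_gluing' U W0 (fun i => homOfLE (hle i)) hU w hcompat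
  let z : Γ(Y, W0) := z₀
  refine ⟨z, Y.sheaf.eq_of_locally_eq' U W0 (fun i => homOfLE (hle i)) hU m (t • z) fun i => ?_⟩
  show res _ (hle i) m = res _ (hle i) (t • z)
  rw [Algebra.smul_def, map_mul, hw i]
  exact congrArg _ (hz i).symm

end Sections

variable {X : Scheme.{u}} [IsNoetherian X] (U : X.Opens) {Y : Scheme.{u}} (f : Y ⟶ U.toScheme) [IsFinite f] [Etale f]

theorem finite_etale_app (hreg : ∀ x : X, IsRegularLocalRing (X.presheaf.stalk x))
    (hU : ∀ x : X, x ∉ U → (2 : WithBot ℕ∞) ≤ ringKrullDim (X.presheaf.stalk x))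
    (V : X.Opens) (hV : IsAffineOpen V) :
    ((f ≫ U.ι).app V).hom.Finite ∧ ((f ≫ U.ι).app V).hom.Etale := by
  haveI : IsNoetherianRing Γ(X, V) := IsLocallyNoetherian.component_noetherian ⟨V, hV⟩
  let g : Y ⟶ X := f ≫ U.ι
  haveI : Etale g := inferInstanceAs (Etale (f ≫ U.ι))
  haveI : QuasiCompact U.ι := inferInstance
  haveI : QuasiCompact g := inferInstanceAs (QuasiCompact (f ≫ U.ι))
  haveI : QuasiSeparated g := inferInstanceAs (QuasiSeparated (f ≫ U.ι))
  let W0 : Y.Opens := g ⁻¹ᵁ V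
  have hc : IsCompact (W0 : Set Y) := g.isCompact_preimage hV.isCompact
  have hq : IsQuasiSeparated (W0 : Set Y) := g.isQuasiSeparated_preimage hV.isQuasiSeparated
  let φ : Γ(X, V) →+* Γ(Y, W0) := (g.app V).hom
  let J := FlatSecLib.opensIdeal U V
  have hJU : ∀ h ∈ J, X.basicOpen h ≤ U.ι.opensRange := fun h hh => by rw [U.opensRange_ι]; exact hh
  have hWaff : ∀ h ∈ J, IsAffineOpen (U.ι ⁻¹ᵁ X.basicOpen h) := fun h hh =>
    (hV.basicOpen h).preimage_of_isOpenImmersion U.ι (hJU h hh)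
  have hVh : ∀ h, g ⁻¹ᵁ X.basicOpen h = Y.basicOpen (φ h) := fun h => Scheme.preimage_basicOpen g h
  have hVaff : ∀ h ∈ J, IsAffineOpen (Y.basicOpen (φ h)) := fun h hh => hVh h ▸ (hWaff h hh).preimage f
  have het : ∀ h ∈ J, ((Y.presheaf.map (homOfLE (Y.basicOpen_le (φ h))).op).hom.comp φ).Etale := fun h hh =>
    HasRingHomProperty.appLE @Etale g inferInstance ⟨V, hV⟩ ⟨_, hVaff h hh⟩ (Y.basicOpen_le _)
  letI := φ.toAlgebra
  have hfin : ∀ h ∈ J, ∃ M : Submodule Γ(X, V) Γ(Y, W0), M.FG ∧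
      ∀ b : Γ(Y, W0), ∃ i : ℕ, h ^ i • b ∈ M := fun h hh => by
    haveI : IsIso (U.ι.app (X.basicOpen h)) := Scheme.Hom.isIso_app U.ι _ (hJU h hh)
    have hf : (g.app (X.basicOpen h)).hom.Finite := by
      show ((f ≫ U.ι).app (X.basicOpen h)).hom.Finite
      rw [Scheme.Hom.comp_app]
      exact (f.finite_app _ (hWaff h hh)).comp
        (RingHom.Finite.of_surjective _ (ConcreteCategory.bijective_of_isIso (U.ι.app (X.basicOpen h))).2)
    haveI : IsLocalization.Away (algebraMap Γ(X, V) Γ(Y, W0) h) Γ(Y, Y.basicOpen (φ h)) :=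
      isLocalization_basicOpen_of_qcqs hc hq (φ h)
    haveI := hV.isLocalization_basicOpen h
    refine exists_fg_pow_smul_mem (N := Γ(Y, Y.basicOpen (φ h))) h
      (algebraMap Γ(X, V) Γ(X, X.basicOpen h)) (fun c => IsLocalization.Away.surj h c)
      (g.appLE (X.basicOpen h) (Y.basicOpen (φ h)) (hVh h).ge).hom ?_ (fun a => ?_)
    · rw [Scheme.Hom.appLE, CommRingCat.hom_comp]
      have : IsIso (Y.presheaf.map (homOfLE (hVh h).ge).op) := by
        rw [show (homOfLE (hVh h).ge) = eqToHom (hVh h).symm from Subsingleton.elim _ _]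
        infer_instance
      exact (RingHom.Finite.of_surjective _ (ConcreteCategory.bijective_of_isIso _).2).comp hf
    · show (X.presheaf.map _ ≫ g.appLE _ _ _).hom a = (g.app V ≫ Y.presheaf.map _).hom a
      rw [Scheme.Hom.map_appLE]
      rfl
  have hcov : ∀ z ∈ W0, ∃ h ∈ J, z ∈ Y.basicOpen (φ h) := fun z hz => by
    obtain ⟨a, hale, hza⟩ := hV.exists_basicOpen_le (V := U) ⟨g z, (f z).2⟩ hz
    exact ⟨a, hale, hVh a ▸ hza⟩
  have hdepth : ∀ s : X, s ∉ U → (2 : ℕ∞) ≤ LocCoh.depth (X.presheaf.stalk s) (X.presheaf.stalk s) := fun s hs =>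
    haveI := hreg s
    two_le_depth_of_regular _ (hU s hs)
  obtain ⟨x, hxJ, y, hyJ, hxn, -, hxy⟩ := FlatSecLib.exists_pair U hdepth hV
  have hxyR : RegPair Γ(X, V) x y := ⟨fun m hm => (mul_right_mem_nonZeroDivisors_eq_zero_iff hxn).1 (by
    rw [mul_comm]; exact hm), fun m n hmn => by
      obtain ⟨w, hw⟩ := Ideal.mem_span_singleton'.1 (hxy m (Ideal.mem_span_singleton'.2 ⟨n, by
        rw [mul_comm]; exact hmn.symm⟩))
      exact ⟨w, by rw [smul_eq_mul, ← hw, mul_comm]⟩⟩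
  have hB : RegPair Γ(Y, W0) x y := regPair_sections_on φ J hxyR het hcov
  have hlo : ∀ h ∈ J, Algebra.Etale Γ(X, V) (Lo h Γ(Y, W0)) := fun h hh => etale_lo_on φ hc hq h (het h hh)
  obtain ⟨Mx, hMx, hMx'⟩ := hfin x hxJ
  obtain ⟨My, hMy, hMy'⟩ := hfin y hyJ
  haveI := hlo x hxJ
  haveI := flat_localizedModule_of_etale (A := Γ(Y, W0)) x
  haveI : Module.Finite Γ(X, V) Γ(Y, W0) := finite_of_regPair hxyR hB (Mx ⊔ My) (hMx.sup hMy)
    (fun b => (hMx' b).imp fun i hi => Submodule.mem_sup_left hi)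
    (fun b => (hMy' b).imp fun i hi => Submodule.mem_sup_right hi)
  have hpt : ∀ (p : Ideal Γ(X, V)) [p.IsPrime], ∃ s : X, ∃ e : X.presheaf.stalk s ≃+* Localization.AtPrime p,
      (s ∈ U → ¬ J ≤ p) := fun p _ => by
    let P : Spec Γ(X, V) := ⟨p, inferInstance⟩
    have hmem : hV.fromSpec P ∈ V := by
      rw [← SetLike.mem_coe, ← hV.range_fromSpec]
      exact ⟨P, rfl⟩
    letI := X.presheaf.algebra_section_stalk ⟨hV.fromSpec P, hmem⟩
    haveI : IsLocalization.AtPrime (X.presheaf.stalk (hV.fromSpec P)) p := hV.isLocalization_stalk' P hmem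
    refine ⟨hV.fromSpec P, (IsLocalization.algEquiv p.primeCompl _ _).toRingEquiv, fun hs hJp => ?_⟩
    obtain ⟨a, hale, hza⟩ := hV.exists_basicOpen_le (V := U) ⟨hV.fromSpec P, hs⟩ hmem
    have h1 : P ∈ hV.fromSpec ⁻¹ᵁ X.basicOpen a := hza
    exact (show P ∈ PrimeSpectrum.basicOpen a from (hV.fromSpec_preimage_basicOpen a).le h1) (hJp hale)
  haveI : Algebra.Etale Γ(X, V) Γ(Y, W0) := etale_of_regPair J
    (fun p _ => by
      obtain ⟨s, e, -⟩ := hpt p
      haveI := hreg s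
      exact IsRegularLocalRing.of_ringEquiv e)
    (fun p _ hJp => by
      obtain ⟨s, e, hs⟩ := hpt p
      rw [← ringKrullDim_eq_of_ringEquiv e]
      exact hU s fun h => hs h hJp)
    hlo hxJ hyJ hB
  exact ⟨inferInstanceAs (Module.Finite Γ(X, V) Γ(Y, W0)), RingHom.etale_algebraMap.2 (inferInstanceAs
    (Algebra.Etale Γ(X, V) Γ(Y, W0)))⟩

theorem exists_extension (hreg : ∀ x : X, IsRegularLocalRing (X.presheaf.stalk x))
    (hU : ∀ x : X, x ∉ U → (2 : WithBot ℕ∞) ≤ ringKrullDim (X.presheaf.stalk x)) :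
    ∃ (Z : Scheme.{u}) (π : Z ⟶ X) (j : Y ⟶ Z), IsFinite π ∧ Etale π ∧ IsPullback j f π U.ι := by
  let g : Y ⟶ X := f ≫ U.ι
  haveI : QuasiCompact g := inferInstanceAs (QuasiCompact (f ≫ U.ι))
  haveI : QuasiSeparated g := inferInstanceAs (QuasiSeparated (f ≫ U.ι))
  let π : g.normalization ⟶ X := g.fromNormalization
  -- on an affine open the integral closure is everything
  have hall : ∀ V : X.affineOpens, letI := (g.app V.1).hom.toAlgebra
      Function.Bijective (integralClosure Γ(X, V.1) Γ(Y, g ⁻¹ᵁ V.1)).val := fun V => by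
    letI := (g.app V.1).hom.toAlgebra
    haveI : Module.Finite Γ(X, V.1) Γ(Y, g ⁻¹ᵁ V.1) := (finite_etale_app U f hreg hU V.1 V.2).1
    exact ⟨Subtype.val_injective, fun b => ⟨⟨b, Algebra.IsIntegral.isIntegral b⟩, rfl⟩⟩
  have hdiag : ∀ V : X.affineOpens, (g.normalizationDiagramMap.app (op V.1)).hom.Finite ∧
      (g.normalizationDiagramMap.app (op V.1)).hom.Etale := fun V => by
    letI := (g.app V.1).hom.toAlgebra
    obtain ⟨h1, h2⟩ := finite_etale_app U f hreg hU V.1 V.2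
    let e : integralClosure Γ(X, V.1) Γ(Y, g ⁻¹ᵁ V.1) ≃ₐ[Γ(X, V.1)] Γ(Y, g ⁻¹ᵁ V.1) :=
      AlgEquiv.ofBijective _ (hall V)
    haveI : Module.Finite Γ(X, V.1) Γ(Y, g ⁻¹ᵁ V.1) := h1
    haveI : Algebra.Etale Γ(X, V.1) Γ(Y, g ⁻¹ᵁ V.1) := h2
    exact ⟨RingHom.finite_algebraMap.2 (Module.Finite.equiv e.symm.toLinearEquiv),
      RingHom.etale_algebraMap.2 (Algebra.Etale.of_equiv e.symm)⟩
  have hloc : ∀ (P : MorphismProperty Scheme.{u}) [IsZariskiLocalAtTarget P],
      (∀ V : X.affineOpens, P (Spec.map (g.normalizationDiagramMap.app (op V.1)))) → P π := fun P _ hP => by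
    rw [IsZariskiLocalAtTarget.iff_of_iSup_eq_top (P := P) _ (iSup_affineOpens_eq_top _)]
    intro V
    let e := IsOpenImmersion.isoOfRangeEq (π ⁻¹ᵁ V.1).ι (g.normalizationOpenCover.f V)
      (by simpa using congr($(g.fromNormalization_preimage V).1))
    rw [← MorphismProperty.cancel_left_of_respectsIso P e.inv,
      ← MorphismProperty.cancel_right_of_respectsIso P _ V.2.isoSpec.hom]
    convert! hP V
    rw [← cancel_mono V.2.fromSpec]
    simp [IsAffineOpen.isoSpec_hom, e, π, Scheme.Hom.ι_fromNormalization]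
    rfl
  haveI hπf : IsFinite π := hloc @IsFinite fun V => (IsFinite.SpecMap_iff _).2 (hdiag V).1
  haveI hπe : Etale π := hloc @Etale fun V => (HasRingHomProperty.Spec_iff (P := @Etale)).2 (hdiag V).2
  refine ⟨g.normalization, π, g.toNormalization, hπf, hπe, ?_⟩
  let U' : g.normalization.Opens := π ⁻¹ᵁ U
  have hsrc : g.toNormalization ⁻¹ᵁ U' = ⊤ := by
    show (g.toNormalization ≫ π) ⁻¹ᵁ U = ⊤
    rw [Scheme.Hom.toNormalization_fromNormalization]
    exact top_le_iff.1 fun z _ => (f z).2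
  have hiso : IsIso (g.toNormalization ∣_ U') := by
    let S := {V : X.affineOpens // V.1 ≤ U}
    have hS : ⨆ V : S, U'.ι ⁻¹ᵁ (π ⁻¹ᵁ V.1.1) = ⊤ := by
      refine top_le_iff.1 fun z _ => ?_
      obtain ⟨_, ⟨V, hV, rfl⟩, hzV, hVU⟩ :=
        X.isBasis_affineOpens.exists_subset_of_mem_open (a := π z.1) z.2 U.2
      exact Opens.mem_iSup.2 ⟨⟨⟨V, hV⟩, hVU⟩, hzV⟩
    rw [← MorphismProperty.isomorphisms.iff,
      IsZariskiLocalAtTarget.iff_of_iSup_eq_top (P := MorphismProperty.isomorphisms Scheme) _ hS]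
    rintro ⟨V, hVU⟩
    have hle : π ⁻¹ᵁ V.1 ≤ U' := π.preimage_mono hVU
    rw [(MorphismProperty.isomorphisms Scheme).arrow_mk_iso_iff (morphismRestrictRestrict _ _ _)]
    have himg : U'.ι ''ᵁ (U'.ι ⁻¹ᵁ (π ⁻¹ᵁ V.1)) = π ⁻¹ᵁ V.1 := by
      rw [Scheme.Hom.image_preimage_eq_opensRange_inf, U'.opensRange_ι]
      exact inf_eq_right.2 hle
    rw [himg, MorphismProperty.isomorphisms.iff]
    haveI : IsAffine (π ⁻¹ᵁ V.1 : g.normalization.Opens).toScheme := V.2.preimage π
    haveI : IsAffine (g.toNormalization ⁻¹ᵁ (π ⁻¹ᵁ V.1) : Y.Opens).toScheme := by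
      show IsAffineOpen (g.toNormalization ⁻¹ᵁ (π ⁻¹ᵁ V.1))
      rw [← Scheme.Hom.comp_preimage, Scheme.Hom.toNormalization_fromNormalization]
      exact (V.2.preimage_of_isOpenImmersion U.ι (by rw [U.opensRange_ι]; exact hVU)).preimage f
    have happ : IsIso (g.toNormalization.app (π ⁻¹ᵁ V.1)) := by
      rw [g.toNormalization_app_preimage V]
      letI := (g.app V.1).hom.toAlgebra
      haveI : IsIso (CommRingCat.ofHom (integralClosure Γ(X, V.1) Γ(Y, g ⁻¹ᵁ V.1)).val.toRingHom) :=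
        (ConcreteCategory.isIso_iff_bijective _).2 (hall V)
      refine @IsIso.comp_isIso _ _ _ _ _ _ _ inferInstance (@IsIso.comp_isIso _ _ _ _ _ _ _ this ?_)
      exact Functor.map_isIso _ _
    haveI : IsIso (g.toNormalization ∣_ π ⁻¹ᵁ V.1).appTop := by
      rw [morphismRestrict_appTop]
      have e : π ⁻¹ᵁ V.1 = (π ⁻¹ᵁ V.1).ι ''ᵁ ⊤ := by simp
      have happ' : ∀ W, W = π ⁻¹ᵁ V.1 → IsIso (g.toNormalization.app W) := fun W hW => hW ▸ happ
      exact @IsIso.comp_isIso _ _ _ _ _ _ _ (happ' _ e.symm) (Functor.map_isIso _ _)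
    exact isIso_of_isAffine_of_isIso_appTop _
  haveI : IsIso ((g.toNormalization ⁻¹ᵁ U').ι) := by
    rw [hsrc]; exact inferInstanceAs (IsIso (Scheme.topIso Y).hom)
  have hfac : g.toNormalization = inv (g.toNormalization ⁻¹ᵁ U').ι ≫ (g.toNormalization ∣_ U') ≫ U'.ι := by
    rw [morphismRestrict_ι, IsIso.inv_hom_id_assoc]
  haveI : IsOpenImmersion g.toNormalization := by rw [hfac]; infer_instance
  refine (IsOpenImmersion.isPullback f g.toNormalization U.ι π
    (g.toNormalization_fromNormalization) ?_).flip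
  rw [U.opensRange_ι]
  refine le_antisymm (fun z hz => ?_) ?_
  · refine ⟨inv (g.toNormalization ∣_ U') ⟨z, hz⟩ |>.1, ?_⟩
    have := congrArg (fun k : U'.toScheme ⟶ U'.toScheme => k ⟨z, hz⟩) (IsIso.inv_hom_id (g.toNormalization ∣_ U'))
    simp only [Scheme.Hom.comp_apply] at this
    exact (morphismRestrict_base_coe _ _ _).symm.trans (congrArg Subtype.val this)
  · rintro _ ⟨z, rfl⟩
    show π (g.toNormalization z) ∈ U
    rw [← Scheme.Hom.comp_apply, Scheme.Hom.toNormalization_fromNormalization]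
    exact (f z).2
where
  isIso_of_isAffine_of_isIso_appTop {A B : Scheme.{u}} (k : A ⟶ B) [IsAffine A] [IsAffine B] [IsIso k.appTop] :
      IsIso k := by
    have h := HasAffineProperty.iff_of_isAffine (P := MorphismProperty.isomorphisms Scheme.{u}) (f := k)
    exact h.2 ⟨inferInstance, inferInstance⟩

end Groth.Agent.PurityLib
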