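import Groth.Agent.PurityLib.Factor

/-!
Finiteness of a module of depth two from finiteness after inverting a regular pair.
-/

set_option autoImplicit false
set_option linter.style.haveILetI false
universe u v

namespace Groth.Agent.PurityLib

variable {R : Type u} [CommRing R] {B : Type v} [AddCommGroup B] [Module R B]

theorem flat_away_submodule (t : R) [Module.Flat R (LocalizedModule.Away t B)] (M : Submodule R B)
    (hM : ∀ b : B, ∃ i : ℕ, t ^ i • b ∈ M) : Module.Flat R (LocalizedModule.Away t M) := by
  have hinj : Function.Injective (LocalizedModule.map (Submonoid.powers t) M.subtype) :=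
    LocalizedModule.map_injective _ M.subtype Subtype.val_injective
  have hsurj : Function.Surjective (LocalizedModule.map (Submonoid.powers t) M.subtype) := fun z => by
    induction z using LocalizedModule.induction_on with
    | _ b s =>
      obtain ⟨i, hi⟩ := hM b
      refine ⟨LocalizedModule.mk ⟨_, hi⟩ (⟨t ^ i, i, rfl⟩ * s), ?_⟩
      rw [LocalizedModule.map_mk]
      exact LocalizedModule.mk_cancel_common_left (⟨t ^ i, i, rfl⟩ : Submonoid.powers t) s b
  exact Module.Flat.of_linearEquiv (LinearEquiv.ofBijective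
    ((LocalizedModule.map (Submonoid.powers t) M.subtype).restrictScalars R) ⟨hinj, hsurj⟩)

/-- If `t, y` is regular on `B`, `B` is flat after inverting `t`, and a finite submodule exhausts `B`
after inverting `t` and after inverting `y`, then `B` is finite. -/
theorem finite_of_regPair [IsNoetherianRing R] {t y : R} (hty : RegPair R t y) (hB : RegPair B t y)
    [Module.Flat R (LocalizedModule.Away t B)] (M : Submodule R B) (hM : M.FG)
    (hMt : ∀ b : B, ∃ i : ℕ, t ^ i • b ∈ M) (hMy : ∀ b : B, ∃ i : ℕ, y ^ i • b ∈ M) :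
    Module.Finite R B := by
  haveI : Module.Finite R M := Module.Finite.iff_fg.2 hM
  haveI := flat_away_submodule t M hMt
  obtain ⟨k, N, u, v, huv⟩ := exists_factor (M := M) t
  let μ : B →ₗ[R] B := LinearMap.lsmul R B (t ^ N)
  have hμ : Function.Injective μ := (injective_iff_map_eq_zero μ).2 fun b hb => hB.smul_pow_eq_zero N hb
  have hle : LinearMap.range μ ≤ M := by
    rintro _ ⟨b, rfl⟩
    obtain ⟨i, hi⟩ := hMt b
    obtain ⟨j, hj⟩ := hMy b
    have he : y ^ j • (⟨_, hi⟩ : M) = t ^ i • (⟨_, hj⟩ : M) := Subtype.ext (smul_comm (y ^ j) (t ^ i) b)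
    obtain ⟨r, hr⟩ := (regPair_of_flat (M := Fin k → R) hty).exists_of_pow i j (m := u ⟨_, hi⟩) (n := u ⟨_, hj⟩)
      (by rw [← map_smul, he, map_smul])
    have h := congrArg v hr
    rw [huv, map_smul] at h
    have hb : t ^ i • (t ^ N • b - (v r : B)) = 0 := by
      have h' : t ^ N • t ^ i • b = t ^ i • (v r : B) := congrArg Subtype.val h
      rw [smul_sub, smul_comm, h', sub_self]
    show t ^ N • b ∈ M
    rw [sub_eq_zero.1 (hB.smul_pow_eq_zero i hb)]
    exact (v r).2
  haveI : Module.Finite R (LinearMap.range μ) := Module.Finite.iff_fg.2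
    ((isNoetherian_submodule.1 (isNoetherian_of_fg_of_noetherian M hM)) _ hle)
  exact Module.Finite.equiv (LinearEquiv.ofInjective μ hμ).symm

/-- If `N` is `B` with `φ h` inverted and is finite over `A` with `h` inverted, then finitely many elements
span `B` up to powers of `h`. -/
theorem exists_fg_pow_smul_mem {A R' : Type u} {C N : Type v} [CommRing A] [CommRing R'] [CommRing C] [CommRing N]
    [Algebra A C] [Algebra C N] (h : A) [IsLocalization.Away (algebraMap A C h) N]
    (α : A →+* R') (hα : ∀ c : R', ∃ (n : ℕ) (a : A), c * α h ^ n = α a)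
    (β : R' →+* N) (hβ : β.Finite) (hcomp : ∀ a, β (α a) = algebraMap C N (algebraMap A C a)) :
    ∃ M : Submodule A C, M.FG ∧ ∀ c : C, ∃ i : ℕ, h ^ i • c ∈ M := by
  classical
  letI : Algebra R' N := β.toAlgebra
  haveI : Module.Finite R' N := hβ
  obtain ⟨G, hG⟩ := Module.Finite.fg_top (R := R') (M := N)
  let q : N → ℕ × C := fun x => ((IsLocalization.Away.surj (algebraMap A C h) x).choose,
    (IsLocalization.Away.surj (algebraMap A C h) x).choose_spec.choose)
  have hq : ∀ x, x * algebraMap C N (algebraMap A C h) ^ (q x).1 = algebraMap C N (q x).2 :=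
    fun x => (IsLocalization.Away.surj (algebraMap A C h) x).choose_spec.choose_spec
  let M : Submodule A C := Submodule.span A ((G.image fun x => (q x).2 : Finset C) : Set C)
  have hN : ∀ x : N, ∃ n : ℕ, ∃ m ∈ M, algebraMap C N m = β (α (h ^ n)) * x := by
    intro x
    have hx : x ∈ Submodule.span R' (G : Set N) := hG ▸ Submodule.mem_top
    induction hx using Submodule.span_induction with
    | mem x hx =>
      exact ⟨(q x).1, _, Submodule.subset_span (Finset.mem_coe.2 (Finset.mem_image_of_mem _ hx)), by
        rw [← hq, hcomp, map_pow, map_pow, mul_comm]⟩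
    | zero => exact ⟨0, 0, zero_mem _, by simp⟩
    | add x x' _ _ ih ih' =>
      obtain ⟨n, m, hm, e⟩ := ih
      obtain ⟨n', m', hm', e'⟩ := ih'
      refine ⟨n + n', h ^ n' • m + h ^ n • m', add_mem (M.smul_mem _ hm) (M.smul_mem _ hm'), ?_⟩
      simp only [Algebra.smul_def, map_add, map_mul, e, e', ← hcomp, map_pow, pow_add, mul_add]
      ring
    | smul c x _ ih =>
      obtain ⟨n, m, hm, e⟩ := ih
      obtain ⟨k, a, hk⟩ := hα c
      refine ⟨n + k, a • m, M.smul_mem _ hm, ?_⟩
      rw [show c • x = β c * x from rfl, Algebra.smul_def, map_mul, e, ← hcomp, ← hk]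
      simp only [map_mul, map_pow, pow_add]
      ring
  refine ⟨M, Submodule.fg_span (Finset.finite_toSet _), fun c => ?_⟩
  obtain ⟨n, m, hm, e⟩ := hN (algebraMap C N c)
  obtain ⟨⟨_, k, rfl⟩, hk⟩ := (IsLocalization.eq_iff_exists (Submonoid.powers (algebraMap A C h)) N).1
    (show algebraMap C N m = algebraMap C N (h ^ n • c) by rw [e, Algebra.smul_def, map_mul, hcomp])
  refine ⟨k + n, ?_⟩
  have : h ^ (k + n) • c = h ^ k • m := by
    rw [pow_add, mul_smul, Algebra.smul_def, Algebra.smul_def (h ^ k) m, map_pow]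
    exact hk.symm
  rw [this]
  exact M.smul_mem _ hm

end Groth.Agent.PurityLib
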