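import Groth.Agent.PurityLib.Regular
import Groth.Agent.PurityLib.FiniteSections
import Mathlib.AlgebraicGeometry.QuasiAffine
import Mathlib.AlgebraicGeometry.Morphisms.QuasiSeparated
import Mathlib.AlgebraicGeometry.Morphisms.Etale
import Mathlib.AlgebraicGeometry.Morphisms.Finite
import Mathlib.AlgebraicGeometry.Noetherian

/-!
Finite étale covers of the punctured spectrum of a regular local ring extend.
-/

set_option autoImplicit false
set_option linter.style.haveILetI false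
universe u
open AlgebraicGeometry CategoryTheory CategoryTheory.Limits IsLocalRing TopologicalSpace Opposite

namespace Groth.Agent.PurityLib

section Sections

variable {Y : Scheme.{u}} {A : Type u} [CommRing A] (φ : A →+* Γ(Y, ⊤))

/-- Restriction of the structure map to an open. -/
noncomputable def structMap (W : Y.Opens) : A →+* Γ(Y, W) :=
  (Y.presheaf.map (homOfLE le_top : W ⟶ ⊤).op).hom.comp φ

theorem map_structMap {W W' : Y.Opens} (i : W' ⟶ W) (a : A) :
    (Y.presheaf.map i.op).hom (structMap φ W a) = structMap φ W' a := by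
  show ((Y.presheaf.map _) ≫ (Y.presheaf.map _)).hom (φ a) = _
  rw [← Functor.map_comp]
  rfl

theorem etale_lo [CompactSpace Y] [QuasiSeparatedSpace Y] (h : A) (het : (structMap φ (Y.basicOpen (φ h))).Etale) :
    letI := φ.toAlgebra
    Algebra.Etale A (Lo h Γ(Y, ⊤)) := by
  letI := φ.toAlgebra
  letI : Algebra A Γ(Y, Y.basicOpen (φ h)) := (structMap φ (Y.basicOpen (φ h))).toAlgebra
  haveI : IsScalarTower A Γ(Y, ⊤) Γ(Y, Y.basicOpen (φ h)) := IsScalarTower.of_algebraMap_eq' rfl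
  haveI : IsLocalization.Away (algebraMap A Γ(Y, ⊤) h) Γ(Y, Y.basicOpen (φ h)) :=
    isLocalization_basicOpen_of_qcqs isCompact_univ isQuasiSeparated_univ (φ h)
  haveI : Algebra.Etale A Γ(Y, Y.basicOpen (φ h)) := het
  exact Algebra.Etale.of_equiv ((IsLocalization.algEquiv (Submonoid.powers (algebraMap A Γ(Y, ⊤) h))
    Γ(Y, Y.basicOpen (φ h)) (Lo h Γ(Y, ⊤))).restrictScalars A)

theorem regPair_sections [IsLocalRing A] {t y : A} (hty : RegPair A t y)
    (het : ∀ h ∈ maximalIdeal A, (structMap φ (Y.basicOpen (φ h))).Etale)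
    (hcov : ∀ x : Y, ∃ h ∈ maximalIdeal A, x ∈ Y.basicOpen (φ h)) :
    letI := φ.toAlgebra
    RegPair Γ(Y, ⊤) t y := by
  letI := φ.toAlgebra
  have key : ∀ h ∈ maximalIdeal A, (∀ s : Γ(Y, Y.basicOpen (φ h)), structMap φ _ t * s = 0 → s = 0) ∧
      ∀ s s' : Γ(Y, Y.basicOpen (φ h)), structMap φ _ y * s = structMap φ _ t * s' →
        ∃ w : Γ(Y, Y.basicOpen (φ h)), s = structMap φ _ t * w := by
    intro h hh
    letI : Algebra A Γ(Y, Y.basicOpen (φ h)) := (structMap φ (Y.basicOpen (φ h))).toAlgebra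
    haveI : Algebra.Etale A Γ(Y, Y.basicOpen (φ h)) := het h hh
    exact regPair_of_flat hty
  let U : maximalIdeal A → Y.Opens := fun h => Y.basicOpen (φ (h : A))
  have hU : ⊤ ≤ iSup U := fun x _ => by
    obtain ⟨h, hh, hx⟩ := hcov x
    exact Opens.mem_iSup.2 ⟨⟨h, hh⟩, hx⟩
  have h1 : ∀ s : Γ(Y, ⊤), t • s = 0 → s = 0 := fun s hs => by
    refine Y.sheaf.eq_of_locally_eq' U ⊤ (fun i => homOfLE le_top) hU s 0 fun i => ?_
    refine ((key _ i.2).1 _ ?_).trans (map_zero _).symm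
    have := congrArg (Y.presheaf.map (homOfLE le_top : U i ⟶ ⊤).op).hom hs
    rw [Algebra.smul_def, map_mul, map_zero] at this
    exact this
  refine ⟨h1, fun m n hmn => ?_⟩
  have hloc : ∀ i, ∃ w : Γ(Y, U i), (Y.presheaf.map (homOfLE le_top : U i ⟶ ⊤).op).hom m = structMap φ _ t * w :=
    fun i => (key _ i.2).2 _ ((Y.presheaf.map (homOfLE le_top : U i ⟶ ⊤).op).hom n) (by
      have := congrArg (Y.presheaf.map (homOfLE le_top : U i ⟶ ⊤).op).hom hmn
      rw [Algebra.smul_def, Algebra.smul_def, map_mul, map_mul] at this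
      exact this)
  choose w hw using hloc
  have hcompat : TopCat.Presheaf.IsCompatible Y.presheaf U w := fun i j => by
    refine sub_eq_zero.1 ?_
    have hle : U i ⊓ U j ≤ Y.basicOpen (φ ((i : A) * (j : A))) := by rw [map_mul, Scheme.basicOpen_mul]
    have hle' : Y.basicOpen (φ ((i : A) * (j : A))) ≤ U i ⊓ U j := by rw [map_mul, Scheme.basicOpen_mul]
    let W := Y.basicOpen (φ ((i : A) * (j : A)))
    have hz : (Y.presheaf.map (homOfLE hle').op).hom
        ((Y.presheaf.map (Opens.infLELeft (U i) (U j)).op).hom (w i) -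
          (Y.presheaf.map (Opens.infLERight (U i) (U j)).op).hom (w j)) = 0 := by
      refine (key _ (Ideal.mul_mem_right (j : A) _ i.2)).1 _ ?_
      rw [map_sub, mul_sub, sub_eq_zero]
      have e : ∀ (k : maximalIdeal A) (ik : W ⟶ U k), structMap φ W t * (Y.presheaf.map ik.op).hom (w k) =
          (Y.presheaf.map (homOfLE le_top : W ⟶ ⊤).op).hom m := fun k ik => by
        rw [← map_structMap φ ik, ← map_mul, ← hw]
        show ((Y.presheaf.map _) ≫ (Y.presheaf.map _)).hom m = _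
        rw [← Functor.map_comp]
        rfl
      have ei : ∀ {k : maximalIdeal A} (ik : U i ⊓ U j ⟶ U k), (Y.presheaf.map (homOfLE hle').op).hom
          ((Y.presheaf.map ik.op).hom (w k)) = (Y.presheaf.map (homOfLE hle' ≫ ik).op).hom (w k) := fun ik => by
        rw [op_comp, Functor.map_comp]; rfl
      rw [ei, ei, e, e]
    have := congrArg (Y.presheaf.map (homOfLE hle).op).hom hz
    rw [map_zero] at this
    refine Eq.trans ?_ this
    show _ = ((Y.presheaf.map _) ≫ (Y.presheaf.map _)).hom _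
    rw [← Functor.map_comp, ← op_comp, Subsingleton.elim (homOfLE hle ≫ homOfLE hle') (𝟙 _), op_id,
      CategoryTheory.Functor.map_id]
    rfl
  obtain ⟨z₀, hz, -⟩ := Y.sheaf.existsUnique_gluing' U ⊤ (fun i => homOfLE le_top) hU w hcompat
  let z : Γ(Y, ⊤) := z₀
  refine ⟨z, Y.sheaf.eq_of_locally_eq' U ⊤ (fun i => homOfLE le_top) hU m (t • z) fun i => ?_⟩
  show (Y.presheaf.map _).hom m = (Y.presheaf.map _).hom (t • z)
  rw [Algebra.smul_def, map_mul, hw i]
  exact congrArg _ (hz i).symm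

end Sections

theorem exists_fet_extension {A : Type u} [CommRing A] [IsRegularLocalRing A] (hdim : 2 ≤ ringKrullDim A)
    (U : (Spec (CommRingCat.of A)).Opens) (hU : (U : Set (Spec (CommRingCat.of A))) = {closedPoint A}ᶜ)
    {Y : Scheme.{u}} (f : Y ⟶ U.toScheme) [IsFinite f] [Etale f] :
    ∃ (B : CommRingCat.{u}) (ψ : CommRingCat.of A ⟶ B) (j : Y ⟶ Spec B),
      IsFinite (Spec.map ψ) ∧ Etale (Spec.map ψ) ∧ IsPullback j f (Spec.map ψ) U.ι := by
  haveI : CompactSpace U.toScheme := isCompact_iff_compactSpace.1 (NoetherianSpace.isCompact (U : Set (Spec (CommRingCat.of A))))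
  haveI := Scheme.IsQuasiAffine.of_isImmersion U.ι
  haveI : Y.IsQuasiAffine := Scheme.IsQuasiAffine.of_isAffineHom f
  let g : Y ⟶ Spec (CommRingCat.of A) := f ≫ U.ι
  haveI : Etale g := inferInstanceAs (Etale (f ≫ U.ι))
  let ψ : CommRingCat.of A ⟶ Γ(Y, ⊤) := (Scheme.ΓSpecIso (CommRingCat.of A)).inv ≫ g.appTop
  let φ : A →+* Γ(Y, ⊤) := ψ.hom
  have hg : g = Y.toSpecΓ ≫ Spec.map ψ := by
    rw [Spec.map_comp, ← Scheme.toSpecΓ_naturality_assoc, toSpecΓ_SpecMap_ΓSpecIso_inv, Category.comp_id]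
  have hmemU : ∀ h ∈ maximalIdeal A, PrimeSpectrum.basicOpen h ≤ U := fun h hh P hP => by
    show P ∈ (U : Set (Spec (CommRingCat.of A)))
    rw [hU]
    exact fun he => hP (by rw [Set.mem_singleton_iff.1 he]; exact hh)
  have hexU : ∀ P : PrimeSpectrum A, P ∈ U → ∃ h ∈ maximalIdeal A, h ∉ P.asIdeal := fun P hP => by
    by_contra hne
    push Not at hne
    have hP' : P ∈ (U : Set (Spec (CommRingCat.of A))) := hP
    rw [hU] at hP'
    exact hP' (PrimeSpectrum.ext ((IsLocalRing.maximalIdeal.isMaximal A).eq_of_le P.2.ne_top hne).symm)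
  let D : A → (Spec (CommRingCat.of A)).Opens := fun h =>
    (Spec (CommRingCat.of A)).basicOpen ((Scheme.ΓSpecIso (CommRingCat.of A)).inv h)
  have hD : ∀ h, D h = PrimeSpectrum.basicOpen h := fun h => basicOpen_eq_of_affine (R := CommRingCat.of A) h
  have hV : ∀ h, g ⁻¹ᵁ D h = Y.basicOpen (φ h) := fun h => Scheme.preimage_basicOpen_top g _
  have hDaff : ∀ h, IsAffineOpen (D h) := fun h => (isAffineOpen_top _).basicOpen _
  have hWaff : ∀ h ∈ maximalIdeal A, IsAffineOpen (U.ι ⁻¹ᵁ D h) := fun h hh =>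
    (hDaff h).preimage_of_isOpenImmersion U.ι (by rw [U.opensRange_ι, hD]; exact hmemU h hh)
  have hVaff : ∀ h ∈ maximalIdeal A, IsAffineOpen (Y.basicOpen (φ h)) := fun h hh =>
    hV h ▸ (hWaff h hh).preimage f
  have het : ∀ h ∈ maximalIdeal A, (structMap φ (Y.basicOpen (φ h))).Etale := fun h hh => by
    have h1 := HasRingHomProperty.appLE @Etale g inferInstance ⟨⊤, isAffineOpen_top _⟩ ⟨_, hVaff h hh⟩ le_top
    have h2 := RingHom.Etale.respectsIso.2 _ (Scheme.ΓSpecIso (CommRingCat.of A)).symm.commRingCatIsoToRingEquiv h1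
    exact h2
  have hcov : ∀ x : Y, ∃ h ∈ maximalIdeal A, x ∈ Y.basicOpen (φ h) := fun x => by
    obtain ⟨h, hh, hh'⟩ := hexU (g x) (f x).2
    refine ⟨h, hh, hV h ▸ ?_⟩
    show g x ∈ D h
    rw [hD]
    exact hh'
  obtain ⟨d, hd⟩ := RegLocal.exists_nat_ringKrullDim (R := A)
  have h2d : 2 ≤ d := by rw [hd] at hdim; exact_mod_cast hdim
  obtain ⟨t, ht, ht0, hreg, hdimt⟩ := exists_param (R := A) hd (by omega)
  haveI := hreg
  obtain ⟨yb, hyb, hyb0, -, -⟩ := exists_param (R := A ⧸ Ideal.span {t}) hdimt (by omega)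
  obtain ⟨y, rfl⟩ := Ideal.Quotient.mk_surjective yb
  have hy : y ∈ maximalIdeal A := mem_maximalIdeal_of_mk _ hyb
  have hty : RegPair A t y := regPair_of_param ht0 hyb0
  letI : Algebra A Γ(Y, ⊤) := φ.toAlgebra
  have hB : RegPair Γ(Y, ⊤) t y := regPair_sections φ hty het hcov
  have hoff : EtaleOff (R := A) Γ(Y, ⊤) := fun h hh => etale_lo φ h (het h hh)
  have hfg : ∀ h ∈ maximalIdeal A, ∃ M : Submodule A Γ(Y, ⊤), M.FG ∧ ∀ b, ∃ i : ℕ, h ^ i • b ∈ M := fun h hh => by
    haveI : IsIso (U.ι.app (D h)) :=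
      Scheme.Hom.isIso_app U.ι (D h) (by rw [U.opensRange_ι, hD]; exact hmemU h hh)
    have hfin : (g.app (D h)).hom.Finite := by
      show ((f ≫ U.ι).app (D h)).hom.Finite
      rw [Scheme.Hom.comp_app]
      exact (f.finite_app _ (hWaff h hh)).comp
        (RingHom.Finite.of_surjective _ (ConcreteCategory.bijective_of_isIso (U.ι.app (D h))).2)
    haveI : IsLocalization.Away (algebraMap A Γ(Y, ⊤) h) Γ(Y, Y.basicOpen (φ h)) :=
      isLocalization_basicOpen_of_qcqs isCompact_univ isQuasiSeparated_univ (φ h)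
    haveI := (isAffineOpen_top (Spec (CommRingCat.of A))).isLocalization_basicOpen
      ((Scheme.ΓSpecIso (CommRingCat.of A)).inv h)
    refine exists_fg_pow_smul_mem (N := Γ(Y, Y.basicOpen (φ h))) h
      (((Spec (CommRingCat.of A)).presheaf.map (homOfLE le_top : D h ⟶ ⊤).op).hom.comp
        (Scheme.ΓSpecIso (CommRingCat.of A)).inv.hom) (fun c => ?_)
      (g.appLE (D h) (Y.basicOpen (φ h)) (hV h).ge).hom ?_ (fun a => ?_)
    · obtain ⟨n, a, ha⟩ := IsLocalization.Away.surj ((Scheme.ΓSpecIso (CommRingCat.of A)).inv h) c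
      refine ⟨n, (Scheme.ΓSpecIso (CommRingCat.of A)).hom a, ha.trans (congrArg _ ?_)⟩
      exact (Iso.hom_inv_id_apply (Scheme.ΓSpecIso (CommRingCat.of A)) a).symm
    · rw [Scheme.Hom.appLE, CommRingCat.hom_comp]
      have : IsIso (Y.presheaf.map (homOfLE (hV h).ge).op) := by
        rw [show (homOfLE (hV h).ge) = eqToHom (hV h).symm from Subsingleton.elim _ _]
        infer_instance
      exact (RingHom.Finite.of_surjective _ (ConcreteCategory.bijective_of_isIso _).2).comp hfin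
    · show ((Scheme.ΓSpecIso (CommRingCat.of A)).inv ≫ (Spec (CommRingCat.of A)).presheaf.map _ ≫
        g.appLE _ _ _).hom a = _
      rw [Scheme.Hom.map_appLE]
      rfl
  obtain ⟨Mt, hMt, hMt'⟩ := hfg t ht
  obtain ⟨My, hMy, hMy'⟩ := hfg y hy
  haveI := flatOff_of_etaleOff hoff t ht
  haveI : Module.Finite A Γ(Y, ⊤) := finite_of_regPair hty hB (Mt ⊔ My) (hMt.sup hMy)
    (fun b => (hMt' b).imp fun i hi => Submodule.mem_sup_left hi)
    (fun b => (hMy' b).imp fun i hi => Submodule.mem_sup_right hi)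
  obtain ⟨-, hetale⟩ := pureRing A hdim Γ(Y, ⊤) ⟨t, ht, y, hy, hB⟩ hoff
  refine ⟨Γ(Y, ⊤), ψ, Y.toSpecΓ, IsFinite.SpecMap_iff ψ |>.2 (inferInstanceAs (Module.Finite A Γ(Y, ⊤))),
    (HasRingHomProperty.Spec_iff (P := @Etale)).2 hetale, ?_⟩
  refine (IsOpenImmersion.isPullback f Y.toSpecΓ U.ι (Spec.map ψ) hg.symm ?_).flip
  refine le_antisymm (fun P hP => ?_) ?_
  · rw [U.opensRange_ι] at hP
    obtain ⟨h, hh, hh'⟩ := hexU _ hP
    have hP' : P ∈ PrimeSpectrum.basicOpen (φ h) := hh'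
    haveI := isLocalization_basicOpen_of_qcqs (U := (⊤ : Y.Opens)) isCompact_univ isQuasiSeparated_univ (φ h)
    have hr := PrimeSpectrum.localization_away_comap_range Γ(Y, Y.basicOpen (φ h)) (φ h)
    obtain ⟨Q, hQ⟩ := (Set.ext_iff.1 hr P).2 hP'
    refine ⟨(hVaff h hh).fromSpec Q, ?_⟩
    rw [← Scheme.Hom.comp_apply, IsAffineOpen.fromSpec_toSpecΓ]
    exact hQ
  · rintro _ ⟨x, rfl⟩
    show Spec.map ψ (Y.toSpecΓ x) ∈ U.ι.opensRange
    rw [← Scheme.Hom.comp_apply, ← hg, U.opensRange_ι]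
    exact (f x).2

end Groth.Agent.PurityLib
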