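import Groth.Prelude.Def_FEt
import Groth.Agent.S19995

/-!
Restriction of finite étale covers to an open with complement of depth two is fully faithful.
-/

set_option autoImplicit false
set_option linter.style.haveILetI false
universe u
open AlgebraicGeometry CategoryTheory CategoryTheory.Limits

namespace Groth.Agent.PurityLib

variable {S : Scheme.{u}} [AlgebraicGeometry.IsNoetherian S] (U : S.Opens)

theorem restrict_map_left_fst {A B : FEt.Cat S} (h : A ⟶ B) :
    ((FEt.restrict U.ι).map h).left ≫ pullback.fst B.hom U.ι = pullback.fst A.hom U.ι ≫ h.left :=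
  pullback.lift_fst _ _ _

theorem existsUnique_lift
    (hU : ∀ s : S, s ∉ U → (2 : ℕ∞) ≤ LocCoh.depth (S.presheaf.stalk s) (S.presheaf.stalk s))
    {X Y : Scheme.{u}} (a : X ⟶ S) (b : Y ⟶ S) [IsFinite a] [Flat a] [IsFinite b] [Flat b]
    (ψ : pullback a U.ι ⟶ pullback b U.ι) (hw : ψ ≫ pullback.snd b U.ι = pullback.snd a U.ι) :
    ∃! φ : X ⟶ Y, φ ≫ b = a ∧ pullback.fst a U.ι ≫ φ = ψ ≫ pullback.fst b U.ι := by
  let eA := pullbackRestrictIsoRestrict a U
  let eB := pullbackRestrictIsoRestrict b U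
  have hA : eA.hom ≫ (a ⁻¹ᵁ U).ι = pullback.fst a U.ι := pullbackRestrictIsoRestrict_hom_ι _ _
  have hB : eB.hom ≫ (b ⁻¹ᵁ U).ι = pullback.fst b U.ι := pullbackRestrictIsoRestrict_hom_ι _ _
  have hφU : (eA.inv ≫ ψ ≫ eB.hom) ≫ (b ⁻¹ᵁ U).ι ≫ b = (a ⁻¹ᵁ U).ι ≫ a := by
    rw [← cancel_epi eA.hom]
    simp only [Category.assoc, Iso.hom_inv_id_assoc]
    rw [← Category.assoc eB.hom, hB, ← Category.assoc eA.hom, hA, pullback.condition, pullback.condition,
      ← Category.assoc, hw]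
  obtain ⟨φ, ⟨h1, h2⟩, huniq⟩ :=
    Groth.Agent.S19995.result S X Y a b U hU (eA.inv ≫ ψ ≫ eB.hom) hφU
  refine ⟨φ, ⟨h1, ?_⟩, fun φ' hφ' => huniq φ' ⟨hφ'.1, ?_⟩⟩
  · rw [← hA, Category.assoc, h2]
    simp only [Category.assoc, Iso.hom_inv_id_assoc]
    rw [hB]
  · rw [← cancel_epi eA.hom, ← Category.assoc, hA, hφ'.2]
    simp only [Category.assoc, Iso.hom_inv_id_assoc]
    rw [hB]

theorem restrict_fullyFaithful
    (hU : ∀ s : S, s ∉ U → (2 : ℕ∞) ≤ LocCoh.depth (S.presheaf.stalk s) (S.presheaf.stalk s)) :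
    (FEt.restrict U.ι).Full ∧ (FEt.restrict U.ι).Faithful := by
  have key : ∀ (A B : FEt.Cat S) (ψ : (FEt.restrict U.ι).obj A ⟶ (FEt.restrict U.ι).obj B),
      ∃! φ : A.left ⟶ B.left, φ ≫ B.hom = A.hom ∧
        pullback.fst A.hom U.ι ≫ φ = ψ.left ≫ pullback.fst B.hom U.ι := by
    intro A B ψ
    haveI : IsFinite A.hom := A.prop.1
    haveI : Etale A.hom := A.prop.2
    haveI : IsFinite B.hom := B.prop.1
    haveI : Etale B.hom := B.prop.2
    exact existsUnique_lift U hU A.hom B.hom ψ.left (CategoryTheory.Over.w ψ.hom)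
  constructor
  · refine ⟨fun {A B} ψ => ?_⟩
    obtain ⟨φ, ⟨h1, h2⟩, -⟩ := key A B ψ
    refine ⟨MorphismProperty.Over.homMk φ h1 trivial, ?_⟩
    refine MorphismProperty.Over.Hom.ext ?_
    refine pullback.hom_ext ?_ ?_
    · exact (restrict_map_left_fst U _).trans h2
    · exact (CategoryTheory.Over.w ((FEt.restrict U.ι).map (MorphismProperty.Over.homMk φ h1 trivial)).hom).trans
        (CategoryTheory.Over.w ψ.hom).symm
  · refine ⟨fun {A B} h h' he => ?_⟩
    obtain ⟨φ, -, huniq⟩ := key A B ((FEt.restrict U.ι).map h)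
    refine MorphismProperty.Over.Hom.ext ((huniq h.left ⟨CategoryTheory.Over.w h.hom, (restrict_map_left_fst U h).symm⟩).trans
      (huniq h'.left ⟨CategoryTheory.Over.w h'.hom, ?_⟩).symm)
    rw [he]
    exact (restrict_map_left_fst U h').symm

end Groth.Agent.PurityLib
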