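import Groth.Agent.PurityLib.BranchPoint
import Groth.Agent.FlatLocus.PointScheme
import Mathlib.AlgebraicGeometry.Morphisms.QuasiFinite

/-!
Purity of the branch locus, scheme form.
-/

set_option autoImplicit false
set_option linter.style.haveILetI false
set_option backward.isDefEq.respectTransparency false
universe u
open AlgebraicGeometry CategoryTheory IsLocalRing

namespace Groth.Agent.PurityLib

theorem exists_height_one {S : Type u} [CommRing S] [IsNoetherianRing S] (q : Ideal S) [q.IsPrime]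
    [IsDomain (Localization.AtPrime q)] (h1 : (1 : WithBot ℕ∞) ≤ ringKrullDim (Localization.AtPrime q))
    (Q : Ideal S) [Q.IsPrime] (hQ : Q ≤ q) (hQ0 : Q.height = 0) :
    ∃ Q1 : Ideal S, Q1.IsPrime ∧ Q ≤ Q1 ∧ Q1 ≤ q ∧ Q1.height = 1 := by
  let L := Localization.AtPrime q
  haveI : IsNoetherianRing L := IsLocalization.isNoetherianRing q.primeCompl L inferInstance
  have hnf : ¬ IsField L := fun hf => by
    rw [ringKrullDim_eq_zero_of_isField hf] at h1
    exact absurd h1 (by decide)
  obtain ⟨a, ha, ha0⟩ : ∃ a ∈ maximalIdeal L, a ≠ 0 := by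
    by_contra hne
    push Not at hne
    exact hnf (isField_iff_maximalIdeal_eq.2 (eq_bot_iff.2 fun a ha => Ideal.mem_bot.2 (hne a ha)))
  have hle : Ideal.span {a} ≤ maximalIdeal L := Ideal.span_le.2 (Set.singleton_subset_iff.2 ha)
  obtain ⟨P, hP, -⟩ := Ideal.exists_minimalPrimes_le hle
  haveI := hP.1.1
  have hht : P.height = 1 := by
    refine le_antisymm (Ideal.height_le_one_of_isPrincipal_of_mem_minimalPrimes (Ideal.span {a}) P hP) ?_
    rw [Order.one_le_iff_pos, pos_iff_ne_zero, Ne, Ideal.height_eq_zero_iff_eq_bot]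
    intro h0
    exact ha0 (Ideal.mem_bot.1 (h0 ▸ hP.1.2 (Ideal.mem_span_singleton_self a)))
  have hdisj : Disjoint (q.primeCompl : Set S) Q := Set.disjoint_left.2 fun s hs hsQ => hs (hQ hsQ)
  haveI hQL : (Q.map (algebraMap S L)).IsPrime :=
    IsLocalization.isPrime_of_isPrime_disjoint q.primeCompl L Q inferInstance hdisj
  have hQc : (Q.map (algebraMap S L)).comap (algebraMap S L) = Q :=
    IsLocalization.under_map_of_isPrime_disjoint q.primeCompl L inferInstance hdisj
  have hQbot : Q.map (algebraMap S L) = ⊥ := by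
    rw [← Ideal.height_eq_zero_iff_eq_bot, ← hQ0, ← IsLocalization.height_under q.primeCompl (Q.map (algebraMap S L))]
    exact congrArg Ideal.height hQc
  refine ⟨P.comap (algebraMap S L), Ideal.comap_isPrime _ _, ?_, ?_, ?_⟩
  · rw [← hQc, hQbot]
    exact Ideal.comap_mono bot_le
  · intro s hs
    by_contra hsq
    exact (inferInstance : P.IsPrime).ne_top
      (Ideal.eq_top_of_isUnit_mem _ hs (IsLocalization.map_units L (⟨s, hsq⟩ : q.primeCompl)))
  · exact (IsLocalization.height_under q.primeCompl P).trans hht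

theorem exists_etale_nbhd_of_quasiFiniteAt {X Y : Scheme.{u}} (f : X ⟶ Y) [LocallyOfFiniteType f]
    [IsLocallyNoetherian X] [IsLocallyNoetherian Y] (x : X)
    (hx : IsDomain (X.presheaf.stalk x) ∧ IsIntegrallyClosed (X.presheaf.stalk x))
    (hy : IsRegularLocalRing (Y.presheaf.stalk (f.base x)))
    (hq : f.QuasiFiniteAt x)
    (hdim : ringKrullDim (X.presheaf.stalk x) = ringKrullDim (Y.presheaf.stalk (f.base x)))
    (hdim1 : (1 : WithBot ℕ∞) ≤ ringKrullDim (X.presheaf.stalk x))
    (hunr : ∀ x' : X, x' ⤳ x → ringKrullDim (X.presheaf.stalk x') = 1 →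
      (f.stalkMap x').hom.FormallyUnramified) :
    ∃ U : X.Opens, x ∈ U ∧ Etale (U.ι ≫ f) := by
  haveI : LocallyOfFinitePresentation f := inferInstance
  rw [FlatLocus.exists_etale_nhd_iff]
  obtain ⟨_, ⟨U : Y.Opens, hU, rfl⟩, hxU, -⟩ :=
    Y.isBasis_affineOpens.exists_subset_of_mem_open (Set.mem_univ (f x)) isOpen_univ
  obtain ⟨_, ⟨V : X.Opens, hV, rfl⟩, hxV, hVU⟩ :=
    X.isBasis_affineOpens.exists_subset_of_mem_open (a := x) (u := ↑(f ⁻¹ᵁ U)) hxU (f ⁻¹ᵁ U).2
  haveI := IsLocallyNoetherian.component_noetherian ⟨U, hU⟩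
  haveI := IsLocallyNoetherian.component_noetherian ⟨V, hV⟩
  have hqf := hq.quasiFiniteAt hV hU hVU hxV
  have hft := f.finiteType_appLE hU hV hVU
  algebraize [(f.appLE U V hVU).hom]
  let p := (hU.primeIdealOf ⟨f x, hVU hxV⟩).asIdeal
  let q := (hV.primeIdealOf ⟨x, hxV⟩).asIdeal
  haveI : Algebra.QuasiFiniteAt Γ(Y, U) q := hqf
  haveI hpq : q.LiesOver p := ⟨congr($(IsAffineOpen.comap_primeIdealOf_appLE U hU V hV hVU hxV).1).symm⟩
  letI := Y.presheaf.algebra_section_stalk ⟨f x, hVU hxV⟩
  haveI := hU.isLocalization_stalk ⟨f x, hVU hxV⟩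
  letI := X.presheaf.algebra_section_stalk ⟨x, hxV⟩
  haveI := hV.isLocalization_stalk ⟨x, hxV⟩
  let ex := (IsLocalization.algEquiv q.primeCompl (X.presheaf.stalk x) (Localization.AtPrime q)).toRingEquiv
  let ey := (IsLocalization.algEquiv p.primeCompl (Y.presheaf.stalk (f x)) (Localization.AtPrime p)).toRingEquiv
  haveI : IsRegularLocalRing (Y.presheaf.stalk (f x)) := hy
  haveI : IsRegularLocalRing (Localization.AtPrime p) := IsRegularLocalRing.of_ringEquiv ey
  haveI := hx.1
  haveI := hx.2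
  haveI : IsDomain (Localization.AtPrime q) := ex.symm.injective.isDomain
  haveI : IsIntegrallyClosed (Localization.AtPrime q) := IsIntegrallyClosed.of_equiv ex
  have hdim' : ringKrullDim (Localization.AtPrime q) = ringKrullDim (Localization.AtPrime p) := by
    rw [← ringKrullDim_eq_of_ringEquiv ex, ← ringKrullDim_eq_of_ringEquiv ey, hdim]
  have h1 : ∀ (Q : Ideal Γ(X, V)) [Q.IsPrime], Q ≤ q → Q.height = 1 → Algebra.IsUnramifiedAt Γ(Y, U) Q := by
    intro Q _ hQq hQ1
    let P : Spec Γ(X, V) := ⟨Q, inferInstance⟩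
    have hsp : hV.fromSpec P ⤳ x := by
      have h0 := ((PrimeSpectrum.le_iff_specializes P (hV.primeIdealOf ⟨x, hxV⟩)).1 hQq).map hV.fromSpec.continuous
      rwa [hV.fromSpec_primeIdealOf] at h0
    have hmem : hV.fromSpec P ∈ V := by
      rw [← SetLike.mem_coe, ← hV.range_fromSpec]
      exact ⟨P, rfl⟩
    have hP : hV.primeIdealOf ⟨hV.fromSpec P, hmem⟩ = P :=
      hV.fromSpec.isOpenEmbedding.injective (hV.fromSpec_primeIdealOf _)
    letI := X.presheaf.algebra_section_stalk ⟨hV.fromSpec P, hmem⟩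
    haveI := hV.isLocalization_stalk ⟨hV.fromSpec P, hmem⟩
    have hh : (hV.primeIdealOf ⟨hV.fromSpec P, hmem⟩).asIdeal.height = 1 := by rw [hP]; exact hQ1
    have hd1 : ringKrullDim (X.presheaf.stalk (hV.fromSpec P)) = 1 := by
      rw [IsLocalization.AtPrime.ringKrullDim_eq_height (hV.primeIdealOf ⟨hV.fromSpec P, hmem⟩).asIdeal, hh]
      rfl
    have hu := hunr _ hsp hd1
    let q' := (hV.primeIdealOf ⟨hV.fromSpec P, hmem⟩).asIdeal
    let p' := (hU.primeIdealOf ⟨f (hV.fromSpec P), hVU hmem⟩).asIdeal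
    haveI : q'.LiesOver p' := ⟨congr($(IsAffineOpen.comap_primeIdealOf_appLE U hU V hV hVU hmem).1).symm⟩
    letI := Localization.AtPrime.algebraOfLiesOver p' q'
    haveI : Algebra.FormallyUnramified (Localization.AtPrime p') (Localization.AtPrime q') := by
      rw [← RingHom.formallyUnramified_algebraMap]
      exact (RingHom.FormallyUnramified.respectsIso.arrow_mk_iso_iff
        (IsAffineOpen.arrowStalkMapIso f U hU V hV hVU hmem)).1 hu
    have hq' : Algebra.IsUnramifiedAt Γ(Y, U) q' :=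
      Algebra.FormallyUnramified.comp _ (Localization.AtPrime p') _
    exact (congrArg (fun z : Spec Γ(X, V) => z ∈ Algebra.unramifiedLocus Γ(Y, U) Γ(X, V)) hP).mp hq'
  have hall : ∀ (Q : Ideal Γ(X, V)) [Q.IsPrime], Q ≤ q → Q.height ≤ 1 → Algebra.IsUnramifiedAt Γ(Y, U) Q := by
    intro Q _ hQq hQ
    rcases eq_or_lt_of_le hQ with h | h
    · exact h1 Q hQq h
    · rw [Order.lt_one_iff] at h
      obtain ⟨Q1, hQ1, hle, hle', hQ1'⟩ := exists_height_one q
        (by rw [← ringKrullDim_eq_of_ringEquiv ex]; exact hdim1) Q hQq h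
      haveI := hQ1
      exact ((PrimeSpectrum.le_iff_specializes ⟨Q, inferInstance⟩ ⟨Q1, inferInstance⟩).1 hle).mem_open
        Algebra.isOpen_unramifiedLocus (h1 Q1 hle' hQ1')
  letI := Localization.AtPrime.algebraOfLiesOver p q
  haveI := formallyEtale_of_quasiFiniteAt p q hdim' hall
  constructor
  · refine (RingHom.FormallySmooth.respectsIso.arrow_mk_iso_iff
      (IsAffineOpen.arrowStalkMapIso f U hU V hV hVU hxV)).2 ?_
    exact RingHom.formallySmooth_algebraMap.2 (inferInstance :
      Algebra.FormallySmooth (Localization.AtPrime p) (Localization.AtPrime q))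
  · refine (RingHom.FormallyUnramified.respectsIso.arrow_mk_iso_iff
      (IsAffineOpen.arrowStalkMapIso f U hU V hV hVU hxV)).2 ?_
    exact RingHom.formallyUnramified_algebraMap.2 (inferInstance :
      Algebra.FormallyUnramified (Localization.AtPrime p) (Localization.AtPrime q))

end Groth.Agent.PurityLib
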