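import Groth.Agent.PurityLib.FibreIsolated
import Groth.Agent.LocImm.Basic
import Groth.Agent.PurityLib.NotAffine
import Groth.Prelude.Def_FEt

/-!
Purity under condition (W): an affine scheme over a local ring that is an open immersion off the
closed point has codimension one or isolated points in the closed fibre.
-/

set_option autoImplicit false
universe u

open AlgebraicGeometry CategoryTheory CategoryTheory.Limits TopologicalSpace IsLocalRing

namespace Groth.Agent.PurityLib

/-- Condition (W) for a local ring. -/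
def CondW (A : CommRingCat.{u}) [IsLocalRing A] : Prop :=
  ∀ U : (Spec A).Opens, ∀ hU : U ≤ FEt.puncturedSpec ↑A,
    (∀ T ∈ irreducibleComponents ↥(FEt.puncturedSpec ↑A), ¬ Subtype.val '' T ⊆ (U : Set _)) →
      IsAffineHom ((Spec A).homOfLE hU) → IsAffineOpen U

/-- An isomorphism on stalks gives fractions. -/
theorem exists_fraction {A C : CommRingCat.{u}} (φ : A ⟶ C) (Q : PrimeSpectrum C)
    (h : IsIso ((Spec.map φ).stalkMap Q)) (c : C) :
    ∃ r s : A, φ.hom s ∉ Q.asIdeal ∧ ∃ t ∉ Q.asIdeal, t * (φ.hom s * c) = t * φ.hom r := by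
  have hb : Function.Bijective (Localization.localRingHom (Q.asIdeal.comap φ.hom) Q.asIdeal φ.hom rfl) :=
    (ConcreteCategory.isIso_iff_bijective _).mp
      (((MorphismProperty.isomorphisms CommRingCat.{u}).arrow_mk_iso_iff
        (Scheme.arrowStalkMapSpecIso φ Q)).mp h)
  obtain ⟨y, hy⟩ := hb.2 (algebraMap C _ c)
  obtain ⟨r, s, rfl⟩ := IsLocalization.exists_mk'_eq (Q.asIdeal.comap φ.hom).primeCompl y
  rw [Localization.localRingHom_mk', IsLocalization.mk'_eq_iff_eq_mul, ← map_mul,
    IsLocalization.eq_iff_exists Q.asIdeal.primeCompl] at hy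
  obtain ⟨t, ht⟩ := hy
  exact ⟨r, s.1, s.2, t.1, t.2, by rw [ht]; ring⟩

/-- The affine core. -/
theorem dim_le_one_or_isolated {A C : CommRingCat.{u}} [IsLocalRing A] [IsNoetherianRing A]
    [IsNoetherianRing C] (φ : A ⟶ C) (hW : CondW A)
    [IsOpenImmersion (Spec.map φ ∣_ FEt.puncturedSpec ↑A)]
    (z : Ideal C) [z.IsPrime] (hz : z.comap φ.hom = maximalIdeal A)
    (hmax : ∀ w : Ideal C, w.IsPrime → w ≤ z → w.comap φ.hom = maximalIdeal A → w = z)
    (hgen : ∀ q : Ideal C, q ∈ minimalPrimes C → q ≤ z) :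
    ringKrullDim (Localization.AtPrime z) ≤ 1 ∨
      ∀ z' : Ideal C, z'.IsPrime → z'.comap φ.hom = maximalIdeal A → z ≤ z' → z' = z := by
  let f := Spec.map φ
  let P : (Spec A).Opens := FEt.puncturedSpec ↑A
  let g0 := f ∣_ P
  let g1 : (f ⁻¹ᵁ P).toScheme ⟶ Spec A := (f ⁻¹ᵁ P).ι ≫ f
  have hg1 : g1 = g0 ≫ P.ι := (morphismRestrict_ι f P).symm
  have : IsOpenImmersion g1 := by rw [hg1]; infer_instance
  let W : (Spec A).Opens := g1.opensRange
  have hWle : W ≤ P := by
    rintro _ ⟨x, rfl⟩
    rw [hg1, Scheme.Hom.comp_apply]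
    exact (g0 x).2
  by_cases hcase : ∀ T ∈ irreducibleComponents ↥P, ¬ Subtype.val '' T ⊆ (W : Set _)
  · left
    let e := IsOpenImmersion.isoOfRangeEq W.ι g1 (by rw [Scheme.Opens.range_ι]; rfl)
    have he : e.hom ≫ g1 = W.ι := IsOpenImmersion.isoOfRangeEq_hom_fac _ _ _
    have : IsAffineHom g0 :=
      MorphismProperty.of_isPullback (P := @IsAffineHom) (isPullback_morphismRestrict f P).flip inferInstance
    have haff : IsAffineHom ((Spec A).homOfLE hWle) := by
      have : (Spec A).homOfLE hWle = e.hom ≫ g0 := by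
        rw [← cancel_mono P.ι, Category.assoc, ← hg1, he, Scheme.homOfLE_ι]
      rw [this]; infer_instance
    have hWaff : IsAffine W.toScheme := hW W hWle hcase haff
    have hU : IsAffineOpen (f ⁻¹ᵁ P) := IsAffine.of_isIso e.inv
    let j := Spec.map (CommRingCat.ofHom (algebraMap C (Localization.AtPrime z)))
    let U' : (Spec (CommRingCat.of (Localization.AtPrime z))).Opens := j ⁻¹ᵁ (f ⁻¹ᵁ P)
    refine ringKrullDim_le_one_of_isAffineOpen (Localization.AtPrime z) U' (fun Q hQ => ?_) ?_ (hU.preimage j)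
    · intro h
      apply hQ
      have hQz : Q.asIdeal.comap (algebraMap C _) ≤ z :=
        (Ideal.comap_mono (le_maximalIdeal Q.isPrime.ne_top)).trans
          (IsLocalization.AtPrime.under_maximalIdeal (Localization.AtPrime z) z).le
      have := hmax _ (Q.isPrime.comap _) hQz (congrArg PrimeSpectrum.asIdeal h)
      refine PrimeSpectrum.ext ?_
      rw [← IsLocalization.map_under z.primeCompl (Localization.AtPrime z) Q.asIdeal]
      show (Q.asIdeal.comap (algebraMap C _)).map _ = maximalIdeal _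
      rw [this, Localization.AtPrime.map_eq_maximalIdeal]
    · intro h
      apply h
      refine PrimeSpectrum.ext ?_
      show ((maximalIdeal (Localization.AtPrime z)).comap (algebraMap C _)).comap φ.hom = maximalIdeal A
      rw [← hz]
      congr 1
      exact IsLocalization.AtPrime.under_maximalIdeal _ z
  · right
    push Not at hcase
    obtain ⟨T, hT, hTW⟩ := hcase
    have : QuasiSober ↥P := inferInstanceAs (QuasiSober P.toScheme)
    have : T0Space ↥P := inferInstanceAs (T0Space P.toScheme)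
    obtain ⟨p, hp⟩ : ∃ p, IsGenericPoint p T :=
      ⟨_, hT.1.isGenericPoint_genericPoint (isClosed_of_mem_irreducibleComponents T hT)⟩
    have hqW : ∀ q : P, p.1 ⤳ q.1 → q.1 ∈ W := fun q hq =>
      hTW ⟨q, hp.specializes_iff_mem.mp ((subtype_specializes_iff p q).mpr hq), rfl⟩
    have hpmin : ∀ p'' : Spec A, p'' ⤳ p.1 → p'' = p.1 := by
      intro p'' h''
      let q : P := ⟨p'', h''.mem_open P.2 p.2⟩
      have hq : q ⤳ p := (subtype_specializes_iff q p).mpr h''
      have hirr : IsIrreducible (closure {q} : Set P) := isIrreducible_singleton.closure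
      have hle : T ⊆ closure {q} := by
        rw [← hp.def]
        exact closure_minimal (by simpa using hq.mem_closure) isClosed_closure
      have := hT.2 hirr hle
      have h2 : p ⤳ q := hp.specializes (this (subset_closure rfl))
      exact congrArg Subtype.val (hq.antisymm h2).eq
    -- lift the points of the closure of the component
    have hlift : ∀ q : P, p.1 ⤳ q.1 → ∃ x : (f ⁻¹ᵁ P).toScheme, g1 x = q.1 := fun q hq => hqW q hq
    obtain ⟨x0, hx0⟩ := hlift p specializes_rfl
    let p0 : PrimeSpectrum C := x0.1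
    have hp0 : p0.asIdeal.comap φ.hom = (p.1 : PrimeSpectrum A).asIdeal :=
      congrArg PrimeSpectrum.asIdeal hx0
    have hp0min : p0.asIdeal ∈ minimalPrimes C := by
      refine ⟨⟨p0.isPrime, bot_le⟩, fun w hw hle => ?_⟩
      let w' : Spec C := (⟨w, hw.1⟩ : PrimeSpectrum C)
      have hs : w' ⤳ x0.1 := (PrimeSpectrum.le_iff_specializes (⟨w, hw.1⟩ : PrimeSpectrum C) p0).mp hle
      have hf : f w' = p.1 := hpmin _ (hx0 ▸ (hs.map f.continuous))
      have hmem : w' ∈ f ⁻¹ᵁ P := by show f w' ∈ P; rw [hf]; exact p.2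
      have : (⟨w', hmem⟩ : (f ⁻¹ᵁ P).toScheme) = x0 := g1.isOpenEmbedding.injective (hf.trans hx0.symm)
      exact (congrArg (fun t => PrimeSpectrum.asIdeal (Subtype.val t)) this).ge
    have := p0.isPrime
    have hp0z : p0.asIdeal ≤ z := hgen _ hp0min
    let pA : Ideal A := p0.asIdeal.comap φ.hom
    let ψ : (↑A ⧸ pA) →+* (↑C ⧸ p0.asIdeal) := Ideal.quotientMap p0.asIdeal φ.hom le_rfl
    letI : Algebra (↑A ⧸ pA) (↑C ⧸ p0.asIdeal) := ψ.toAlgebra
    have hψ : Function.Injective ψ := Ideal.quotientMap_injective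
    have : FaithfulSMul (↑A ⧸ pA) (↑C ⧸ p0.asIdeal) := (faithfulSMul_iff_algebraMap_injective _ _).mpr hψ
    have : IsLocalRing (↑A ⧸ pA) := IsLocalRing.of_surjective' (Ideal.Quotient.mk pA) Ideal.Quotient.mk_surjective
    have hmA : (maximalIdeal A).map (Ideal.Quotient.mk pA) = maximalIdeal (↑A ⧸ pA) :=
      IsLocalRing.map_maximalIdeal_of_surjective _ Ideal.Quotient.mk_surjective
    have hpm : pA ≠ maximalIdeal A := fun h => p.2 (PrimeSpectrum.ext (hp0.symm.trans h))
    have hm0 : maximalIdeal (↑A ⧸ pA) ≠ ⊥ := by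
      intro h
      rw [← hmA, Ideal.map_eq_bot_iff_le_ker, Ideal.mk_ker] at h
      exact hpm (le_antisymm (le_maximalIdeal (Ideal.IsPrime.ne_top inferInstance)) h)
    have hfrac : ∀ q : Ideal (↑A ⧸ pA), q.IsPrime → q ≠ maximalIdeal _ → ∀ c : ↑C ⧸ p0.asIdeal,
        ∃ r s : ↑A ⧸ pA, s ∉ q ∧ algebraMap (↑A ⧸ pA) (↑C ⧸ p0.asIdeal) s * c
          = algebraMap (↑A ⧸ pA) (↑C ⧸ p0.asIdeal) r := by
      intro q hq hqm c
      obtain ⟨c, rfl⟩ := Ideal.Quotient.mk_surjective c
      let qA : PrimeSpectrum A := ⟨q.comap (Ideal.Quotient.mk pA), inferInstance⟩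
      have hqP : (qA : Spec A) ∈ P := by
        intro h
        apply hqm
        refine le_antisymm (le_maximalIdeal hq.ne_top) ?_
        rw [← hmA, Ideal.map_le_iff_le_comap]
        exact (congrArg PrimeSpectrum.asIdeal h).ge
      have hspec : p.1 ⤳ (qA : Spec A) := by
        refine (PrimeSpectrum.le_iff_specializes (p.1 : PrimeSpectrum A) qA).mp ?_
        intro a ha
        show Ideal.Quotient.mk pA a ∈ q
        rw [Ideal.Quotient.eq_zero_iff_mem.mpr (show a ∈ pA by rw [show pA = _ from hp0]; exact ha)]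
        exact zero_mem _
      obtain ⟨x, hx⟩ := hlift ⟨qA, hqP⟩ hspec
      have hxs : x0 ⤳ x := g1.isOpenEmbedding.isInducing.specializes_iff.mp (by rw [hx0, hx]; exact hspec)
      have hle : p0.asIdeal ≤ (x.1 : PrimeSpectrum C).asIdeal :=
        (PrimeSpectrum.le_iff_specializes p0 (x.1 : PrimeSpectrum C)).mpr ((subtype_specializes_iff x0 x).mp hxs)
      have hiso : IsIso (f.stalkMap x.1) :=
        Groth.Agent.LocImm.isIso_stalkMap_of_isLocalIsoAt f x.1 ⟨f ⁻¹ᵁ P, x.2, inferInstanceAs (IsOpenImmersion g1)⟩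
      obtain ⟨r, s, hs, t, ht, e⟩ := exists_fraction φ (x.1 : PrimeSpectrum C) hiso c
      refine ⟨Ideal.Quotient.mk pA r, Ideal.Quotient.mk pA s, fun h => hs ?_, ?_⟩
      · have hxq : ((x.1 : PrimeSpectrum C).asIdeal.comap φ.hom) = qA.asIdeal := congrArg PrimeSpectrum.asIdeal hx
        show s ∈ (x.1 : PrimeSpectrum C).asIdeal.comap φ.hom
        rw [hxq]; exact h
      · show Ideal.Quotient.mk p0.asIdeal (φ.hom s) * _ = Ideal.Quotient.mk p0.asIdeal (φ.hom r)
        have ht0 : Ideal.Quotient.mk p0.asIdeal t ≠ 0 := fun h => ht (hle (Ideal.Quotient.eq_zero_iff_mem.mp h))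
        refine mul_left_cancel₀ ht0 ?_
        rw [← map_mul, ← map_mul, ← map_mul, e]
    intro z' hz' hz'm hle
    have hmapp : ∀ w : Ideal C, w.IsPrime → p0.asIdeal ≤ w → (w.map (Ideal.Quotient.mk p0.asIdeal)).IsPrime :=
      fun w hw h => Ideal.map_isPrime_of_surjective Ideal.Quotient.mk_surjective (by rwa [Ideal.mk_ker])
    have := hmapp z inferInstance hp0z
    have := hmapp z' hz' (hp0z.trans hle)
    by_contra hne
    refine not_lt_of_punctured hm0 hfrac (z.map (Ideal.Quotient.mk p0.asIdeal)) (z'.map (Ideal.Quotient.mk p0.asIdeal)) ?_ ?_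
    · refine le_antisymm (le_maximalIdeal (Ideal.IsPrime.ne_top inferInstance)) ?_
      rw [← hmA, Ideal.map_le_iff_le_comap]
      intro a ha
      show Ideal.Quotient.mk p0.asIdeal (φ.hom a) ∈ z.map (Ideal.Quotient.mk p0.asIdeal)
      refine Ideal.mem_map_of_mem _ ?_
      rw [← Ideal.mem_comap, hz]; exact ha
    · refine lt_of_le_of_ne (Ideal.map_mono hle) fun h => hne ?_
      have := congrArg (Ideal.comap (Ideal.Quotient.mk p0.asIdeal)) h
      rw [Ideal.comap_map_of_surjective' _ Ideal.Quotient.mk_surjective, Ideal.mk_ker,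
        Ideal.comap_map_of_surjective' _ Ideal.Quotient.mk_surjective, Ideal.mk_ker,
        sup_eq_left.mpr hp0z, sup_eq_left.mpr (hp0z.trans hle)] at this
      exact this.symm

end Groth.Agent.PurityLib
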