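import Mathlib.RingTheory.TensorProduct.Maps
import Mathlib.RingTheory.Adjoin.Basic
import Mathlib.Algebra.Algebra.Subalgebra.Lattice

/-!
An algebra which is the coproduct of finitely many subalgebras splits off each factor.
-/

set_option autoImplicit false
set_option linter.style.haveILetI false
universe u v w
open TensorProduct

namespace Groth.Agent.PurityLib

variable {R : Type u} [CommRing R] {A : Type v} [CommRing A] [Algebra R A]

theorem eq_of_eqOn_sup {E : Subalgebra R A} {C : Type w} [CommRing C] [Algebra R C] (f g : E →ₐ[R] C) {ι : Type*}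
    (B : ι → Subalgebra R A) (s : Set ι) (hE : E = ⨆ j ∈ s, B j)
    (h : ∀ j ∈ s, ∀ (x : A) (hx : x ∈ E), x ∈ B j → f ⟨x, hx⟩ = g ⟨x, hx⟩) : f = g := by
  have hQ : E ≤ (AlgHom.equalizer f g).map E.val := by
    refine hE.le.trans (iSup₂_le fun j hj x hx => ?_)
    have hxE : x ∈ E := hE.ge ((le_iSup₂ (f := fun j (_ : j ∈ s) => B j) j hj) hx)
    exact Subalgebra.mem_map.2 ⟨⟨x, hxE⟩, h j hj x hxE hx, rfl⟩
  refine AlgHom.ext fun x => ?_
  obtain ⟨y, hy, hyx⟩ := Subalgebra.mem_map.1 (hQ x.2)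
  obtain rfl : y = x := Subtype.ext hyx
  exact hy

theorem exists_tensor_iso {n : ℕ} (B : Fin n → Subalgebra R A)
    (hcoprod : ∀ (C : Type (max u v)) [CommRing C] [Algebra R C] (φ : ∀ i : Fin n, B i →ₐ[R] C),
      ∃! ψ : A →ₐ[R] C, ∀ i (x : B i), ψ x = φ i x) (i : Fin n) :
    ∃ (E : Subalgebra R A) (e : (B i ⊗[R] E) ≃ₐ[R] A), ∀ b, e (b ⊗ₜ 1) = b := by
  classical
  let E : Subalgebra R A := ⨆ j ∈ ({i}ᶜ : Set (Fin n)), B j
  have hE : ∀ j, j ≠ i → B j ≤ E := fun j hj => le_iSup₂ (f := fun j (_ : j ∈ ({i}ᶜ : Set (Fin n))) => B j) j hj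
  let φ : ∀ j, B j →ₐ[R] (B i ⊗[R] E) := fun j => if h : j = i
      then (Algebra.TensorProduct.includeLeft : B i →ₐ[R] B i ⊗[R] E).comp (Subalgebra.inclusion (show B j ≤ B i from h ▸ le_rfl))
      else (Algebra.TensorProduct.includeRight : E →ₐ[R] B i ⊗[R] E).comp (Subalgebra.inclusion (hE j h))
  let eT : ULift.{u} (B i ⊗[R] E) ≃ₐ[R] (B i ⊗[R] E) := ULift.algEquiv
  obtain ⟨ψ', hψ', -⟩ := hcoprod (ULift.{u} (B i ⊗[R] E)) (fun j => eT.symm.toAlgHom.comp (φ j))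
  let ψ : A →ₐ[R] (B i ⊗[R] E) := eT.toAlgHom.comp ψ'
  have hψ : ∀ j, ∀ x : B j, ψ x = φ j x := fun j x => by
    show eT (ψ' x) = φ j x
    rw [hψ' j x]
    exact eT.apply_symm_apply _
  have hφi : ∀ x : B i, φ i x = x ⊗ₜ[R] (1 : E) := fun x => by
    simp only [φ, dif_pos]
    rfl
  have hψE : ψ.comp E.val = Algebra.TensorProduct.includeRight :=
    eq_of_eqOn_sup _ _ B ({i}ᶜ) rfl fun j hj x hxE hx => by
      have h := hψ j ⟨x, hx⟩
      simp only [φ, dif_neg (show j ≠ i from hj)] at h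
      exact h
  let Φ : (B i ⊗[R] E) →ₐ[R] A := Algebra.TensorProduct.productMap (B i).val E.val
  have hΦl : ∀ b : B i, Φ (b ⊗ₜ[R] (1 : E)) = b := fun b => by
    simp [Φ]
  have hΦr : ∀ x : E, Φ ((1 : B i) ⊗ₜ[R] x) = x := fun x => by
    simp [Φ]
  have h1 : ψ.comp Φ = AlgHom.id R _ := Algebra.TensorProduct.ext
    (AlgHom.ext fun b => by
      show ψ (Φ (b ⊗ₜ[R] (1 : E))) = b ⊗ₜ[R] (1 : E)
      rw [hΦl, hψ i b, hφi])
    (AlgHom.ext fun x => by
      show ψ (Φ ((1 : B i) ⊗ₜ[R] x)) = (1 : B i) ⊗ₜ[R] x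
      rw [hΦr]
      exact AlgHom.congr_fun hψE x)
  have hB : ∀ j, ∀ x : B j, Φ (ψ x) = x := fun j x => by
    rw [hψ j x]
    by_cases hji : j = i
    · subst hji
      rw [hφi, hΦl]
    · simp only [φ, dif_neg hji]
      exact hΦr _
  have h2 : Φ.comp ψ = AlgHom.id R A := by
    let eA : ULift.{u} A ≃ₐ[R] A := ULift.algEquiv
    obtain ⟨χ, -, huniq⟩ := hcoprod (ULift.{u} A) (fun j => eA.symm.toAlgHom.comp (B j).val)
    have hx := (huniq (eA.symm.toAlgHom.comp (Φ.comp ψ)) fun j x => congrArg eA.symm (hB j x)).trans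
      (huniq (eA.symm.toAlgHom.comp (AlgHom.id R A)) fun j x => rfl).symm
    exact AlgHom.ext fun a => eA.symm.injective (AlgHom.congr_fun hx a)
  exact ⟨E, AlgEquiv.ofAlgHom Φ ψ h2 h1, hΦl⟩

end Groth.Agent.PurityLib
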