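import Groth.Agent.PurityLib.Punctured
import Groth.Agent.PurityLib.Global

/-!
A finite algebra with a regular pair, étale off a closed subset of codimension two of a regular ring, is étale.
-/

set_option autoImplicit false
set_option linter.style.haveILetI false
universe u
open IsLocalRing

namespace Groth.Agent.PurityLib

variable {R : Type u} [CommRing R] {B : Type u} [CommRing B] [Algebra R B]

theorem RegPair.of_isLocalization (S : Submonoid R) (L : Type u) [CommRing L] [Algebra R L] [Algebra B L]
    [IsScalarTower R B L] [IsLocalization (Algebra.algebraMapSubmonoid B S) L] {x y : R} (h : RegPair B x y) :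
    RegPair L x y := by
  have hker : ∀ b : B, algebraMap B L b = 0 → ∃ s ∈ S, s • b = 0 := fun b hb => by
    obtain ⟨⟨_, s, hs, rfl⟩, hm⟩ := (IsLocalization.map_eq_zero_iff (Algebra.algebraMapSubmonoid B S) L b).1 hb
    exact ⟨s, hs, by rw [Algebra.smul_def]; exact hm⟩
  have hunit : ∀ s ∈ S, IsUnit (algebraMap R L s) := fun s hs => by
    rw [IsScalarTower.algebraMap_apply R B L]
    exact IsLocalization.map_units L (⟨_, s, hs, rfl⟩ : Algebra.algebraMapSubmonoid B S)
  have hrep : ∀ z : L, ∃ s ∈ S, ∃ b : B, algebraMap R L s * z = algebraMap B L b := fun z => by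
    obtain ⟨⟨b, _, s, hs, rfl⟩, hz⟩ := IsLocalization.surj (Algebra.algebraMapSubmonoid B S) z
    exact ⟨s, hs, b, by rw [IsScalarTower.algebraMap_apply R B L, mul_comm]; exact hz⟩
  refine ⟨fun m hm => ?_, fun m n hmn => ?_⟩
  · obtain ⟨s, hs, b, hb⟩ := hrep m
    obtain ⟨s', hs', hb'⟩ := hker (x • b) (by
      rw [Algebra.smul_def, map_mul, ← hb, ← IsScalarTower.algebraMap_apply, mul_left_comm, ← Algebra.smul_def x m, hm,
        mul_zero])
    rw [smul_comm] at hb'
    have h0 := h.1 _ hb'
    refine ((hunit s' hs').mul (hunit s hs)).mul_right_eq_zero.1 ?_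
    rw [mul_assoc, hb, IsScalarTower.algebraMap_apply R B L, ← map_mul, ← Algebra.smul_def, h0, map_zero]
  · obtain ⟨s, hs, b, hb⟩ := hrep m
    obtain ⟨s₁, hs₁, b₁, hb₁⟩ := hrep n
    obtain ⟨s', hs', hb'⟩ := hker (y • s₁ • b - x • s • b₁) (by
      simp only [map_sub, Algebra.smul_def, map_mul, ← IsScalarTower.algebraMap_apply, ← hb, ← hb₁]
      have hmn' : algebraMap R L y * m = algebraMap R L x * n := by rw [← Algebra.smul_def, ← Algebra.smul_def, hmn]
      linear_combination algebraMap R L s₁ * algebraMap R L s * hmn')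
    rw [smul_sub, sub_eq_zero, smul_comm s' y, smul_comm s' x] at hb'
    obtain ⟨w, hw⟩ := h.2 _ _ hb'
    refine ⟨↑(((hunit s' hs').mul (hunit s₁ hs₁)).mul (hunit s hs)).unit⁻¹ * algebraMap B L w, ?_⟩
    refine (((hunit s' hs').mul (hunit s₁ hs₁)).mul (hunit s hs)).mul_left_cancel ?_
    rw [Algebra.smul_def, mul_left_comm (algebraMap R L x), ← mul_assoc _ _ (algebraMap R L x * _),
      IsUnit.mul_val_inv, one_mul]
    have := congrArg (algebraMap B L) hw
    simp only [Algebra.smul_def, map_mul, ← IsScalarTower.algebraMap_apply, ← hb] at this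
    linear_combination this

theorem etale_of_regPair [IsNoetherianRing R] [Module.Finite R B] (I : Ideal R)
    (hreg : ∀ (p : Ideal R) [p.IsPrime], IsRegularLocalRing (Localization.AtPrime p))
    (hdim : ∀ (p : Ideal R) [p.IsPrime], I ≤ p → 2 ≤ ringKrullDim (Localization.AtPrime p))
    (het : ∀ h ∈ I, Algebra.Etale R (Lo h B)) {x y : R} (hx : x ∈ I) (hy : y ∈ I) (hB : RegPair B x y) :
    Algebra.Etale R B := by
  haveI : Algebra.FinitePresentation R B := Algebra.FinitePresentation.of_finiteType.1 inferInstance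
  suffices key : ∀ (n : ℕ) (P : Ideal B) [P.IsPrime], (P.under R).height ≤ n → Algebra.IsEtaleAt R P by
    rw [← Algebra.etaleLocus_eq_univ_iff_etale, Set.eq_univ_iff_forall]
    intro P
    obtain ⟨n, hn⟩ := ENat.ne_top_iff_exists.1 (Ideal.height_ne_top (Ideal.IsPrime.ne_top (inferInstance : (P.asIdeal.under R).IsPrime)))
    exact key n P.asIdeal hn.ge
  intro n
  induction n using Nat.strong_induction_on with
  | _ n ih =>
  intro P _ hPn
  let p := P.under R
  by_cases hIp : I ≤ p
  swap
  · obtain ⟨h, hhI, hhp⟩ := SetLike.not_le_iff_exists.1 hIp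
    haveI := het h hhI
    exact (Algebra.basicOpen_subset_etaleLocus_iff_etale (R := R) (f := algebraMap R B h)).2 inferInstance
      (show (⟨P, inferInstance⟩ : PrimeSpectrum B) ∈ PrimeSpectrum.basicOpen (algebraMap R B h) from hhp)
  let M := Algebra.algebraMapSubmonoid B p.primeCompl
  let Rp := Localization.AtPrime p
  let Bp := Localization M
  haveI : IsRegularLocalRing Rp := hreg p
  haveI : Module.Finite Rp Bp := Module.Finite.of_isLocalization R B p.primeCompl
  haveI : Algebra.FormallyEtale R Rp := Algebra.FormallyEtale.of_isLocalization p.primeCompl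
  haveI : Algebra.FinitePresentation Rp Bp := Algebra.FinitePresentation.of_finiteType.1 inferInstance
  have hiso : ∀ (Q : Ideal Bp) [Q.IsPrime],
      Nonempty (Localization.AtPrime (Q.comap (algebraMap B Bp)) ≃ₐ[R] Localization.AtPrime Q) := fun Q _ =>
    ⟨(IsLocalization.localizationLocalizationAtPrimeIsoLocalization M Q).restrictScalars R⟩
  have hunder : ∀ (Q : Ideal Bp) [Q.IsPrime],
      (Q.comap (algebraMap B Bp)).under R = (Q.under Rp).comap (algebraMap R Rp) := fun Q _ => by
    rw [Ideal.under, Ideal.under, Ideal.comap_comap, Ideal.comap_comap, ← IsScalarTower.algebraMap_eq,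
      ← IsScalarTower.algebraMap_eq]
  have hdimp : ringKrullDim Rp = p.height := IsLocalization.AtPrime.ringKrullDim_eq_height p Rp
  have hmem : ∀ r ∈ p, algebraMap R Rp r ∈ maximalIdeal Rp := fun r hr =>
    (IsLocalization.AtPrime.to_map_mem_maximal_iff Rp p r).2 hr
  have hpair : RegPair Bp (algebraMap R Rp x) (algebraMap R Rp y) := by
    have h := RegPair.of_isLocalization p.primeCompl Bp hB
    exact ⟨fun m hm => h.1 m (by rwa [algebraMap_smul] at hm), fun m m' hm => by
      obtain ⟨w, hw⟩ := h.2 m m' (by rwa [algebraMap_smul, algebraMap_smul] at hm)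
      exact ⟨w, by rw [hw, algebraMap_smul]⟩⟩
  have hetAp : Algebra.Etale Rp Bp := by
    refine ((pureRing Rp (hdim p hIp)) Bp ⟨_, hmem x (hIp hx), _, hmem y (hIp hy), hpair⟩ fun h hh => ?_).2
    rw [← Algebra.basicOpen_subset_etaleLocus_iff_etale]
    intro Q hQ
    obtain ⟨e⟩ := hiso Q.asIdeal
    have hlt : ((Q.asIdeal.comap (algebraMap B Bp)).under R).height < p.height := by
      rw [hunder, IsLocalization.height_under p.primeCompl, ← WithBot.coe_lt_coe, ← hdimp,
        ← IsLocalRing.maximalIdeal_height_eq_ringKrullDim, WithBot.coe_lt_coe]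
      refine Ideal.height_strict_mono_of_isPrime (lt_of_le_of_ne (le_maximalIdeal (Ideal.IsPrime.ne_top inferInstance)) fun he => ?_)
      exact hQ ((he ▸ hh : h ∈ Q.asIdeal.under Rp))
    obtain ⟨j, hj⟩ := ENat.ne_top_iff_exists.1 hlt.ne_top
    haveI : Algebra.FormallyEtale R (Localization.AtPrime (Q.asIdeal.comap (algebraMap B Bp))) :=
      ih j (by have := hlt.trans_le hPn; rw [← hj] at this; exact_mod_cast this) _ hj.ge
    haveI := Algebra.FormallyEtale.of_equiv e
    exact Algebra.FormallyEtale.localization_base p.primeCompl (R := R) (Rₘ := Rp)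
  have hdisj : Disjoint (M : Set B) P := by
    rw [Set.disjoint_left]
    rintro _ ⟨r, hr, rfl⟩ hrP
    exact hr hrP
  let Q : Ideal Bp := P.map (algebraMap B Bp)
  haveI : Q.IsPrime := IsLocalization.isPrime_of_isPrime_disjoint M Bp P inferInstance hdisj
  obtain ⟨e⟩ := hiso Q
  haveI : Algebra.FormallyEtale R Bp := Algebra.FormallyEtale.comp R Rp Bp
  haveI : Algebra.FormallyEtale Bp (Localization.AtPrime Q) := Algebra.FormallyEtale.of_isLocalization Q.primeCompl
  haveI : Algebra.FormallyEtale R (Localization.AtPrime Q) := Algebra.FormallyEtale.comp R Bp _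
  have := Algebra.FormallyEtale.of_equiv e.symm
  show Algebra.FormallyEtale R (Localization.AtPrime P)
  have hcomap : Q.comap (algebraMap B Bp) = P := IsLocalization.under_map_of_isPrime_disjoint M Bp inferInstance hdisj
  exact isEtaleAt_congr (P := Q.comap (algebraMap B Bp)) hcomap this
where
  isEtaleAt_congr {P P' : Ideal B} [P.IsPrime] [P'.IsPrime] (he : P = P')
      (h : Algebra.IsEtaleAt R P) : Algebra.IsEtaleAt R P' := by subst he; exact h

end Groth.Agent.PurityLib
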