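import Groth.Agent.PurityLib.Sections

/-!
A finite module that becomes flat after inverting `r`: a power of `r` factors through a free module.
-/

set_option autoImplicit false
set_option linter.style.haveILetI false
universe u v

namespace Groth.Agent.PurityLib

theorem exists_factor {R : Type u} [CommRing R] [IsNoetherianRing R] {M : Type v} [AddCommGroup M] [Module R M]
    [Module.Finite R M] (r : R) [Module.Flat R (LocalizedModule.Away r M)] :
    ∃ (k N : ℕ) (u : M →ₗ[R] (Fin k → R)) (v : (Fin k → R) →ₗ[R] M), ∀ m, v (u m) = r ^ N • m := by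
  classical
  let S := Submonoid.powers r
  let Rr := Localization.Away r
  let Mr := LocalizedModule.Away r M
  haveI : Module.FinitePresentation R M := Module.finitePresentation_of_finite R M
  haveI : Module.Flat Rr Mr := (Module.flat_iff_of_isLocalization Rr S Mr).2 inferInstance
  haveI : Module.FinitePresentation Rr Mr := inferInstanceAs (Module.FinitePresentation (Localization S) (LocalizedModule S M))
  haveI : Module.Projective Rr Mr := Module.Flat.projective_of_finitePresentation
  obtain ⟨k, v, hv⟩ := Module.Finite.exists_fin' R M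
  let l := LocalizedModule.mkLinearMap S M
  let lF : (Fin k → R) →ₗ[R] LocalizedModule S (Fin k → R) := LocalizedModule.mkLinearMap S (Fin k → R)
  obtain ⟨σ, hσ⟩ := Module.projective_lifting_property (LocalizedModule.map S v) (LinearMap.id : Mr →ₗ[Rr] Mr)
    (LocalizedModule.map_surjective _ _ hv)
  obtain ⟨u, ⟨_, e, rfl⟩, hu⟩ := Module.FinitePresentation.exists_lift_of_isLocalizedModule S lF
    ((σ.restrictScalars R) ∘ₗ l)
  have hlu : ∀ m, l (v (u m)) = l (r ^ e • m) := fun m => by
    have h1 : lF (u m) = r ^ e • σ (l m) := LinearMap.congr_fun hu m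
    have h2 : LocalizedModule.map S v (lF (u m)) = l (v (u m)) := by
      simp [lF, l, LocalizedModule.mkLinearMap_apply, LocalizedModule.map_mk]
    rw [← h2, h1, LinearMap.map_smul_of_tower]
    have h3 : LocalizedModule.map S v (σ (l m)) = l m := LinearMap.congr_fun hσ (l m)
    rw [h3, map_smul]
  obtain ⟨s, hs⟩ := Module.Finite.fg_top (R := R) (M := M)
  have hkill : ∀ m, ∃ j, r ^ j • (v (u m) - r ^ e • m) = 0 := fun m => by
    obtain ⟨⟨_, j, rfl⟩, hj⟩ := (IsLocalizedModule.eq_zero_iff S l).1
      (show l (v (u m) - r ^ e • m) = 0 by rw [map_sub, hlu, sub_self])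
    exact ⟨j, hj⟩
  choose j hj using hkill
  let J := s.sup j
  refine ⟨k, J + e, r ^ J • u, v, fun m => ?_⟩
  have hm : m ∈ LinearMap.ker (r ^ J • (v ∘ₗ u - r ^ e • LinearMap.id)) := by
    have hle : Submodule.span R (s : Set M) ≤ LinearMap.ker (r ^ J • (v ∘ₗ u - r ^ e • LinearMap.id)) :=
      Submodule.span_le.2 fun x hx => by
        show r ^ J • (v (u x) - r ^ e • x) = 0
        rw [show J = J - j x + j x from (Nat.sub_add_cancel (Finset.le_sup hx)).symm, pow_add, mul_smul, hj, smul_zero]
    exact hle (hs ▸ Submodule.mem_top)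
  have h0 : r ^ J • (v (u m) - r ^ e • m) = 0 := hm
  rw [smul_sub, sub_eq_zero] at h0
  rw [LinearMap.smul_apply, map_smul, h0, smul_smul, pow_add]

end Groth.Agent.PurityLib
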