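import Groth.Agent.PurityLib.NotAffineAlg
import Groth.Agent.DomDVR.KrullAkizuki
import Groth.Agent.RegLocal.Completion

/-!
# No chains in the closed fibre of a birational modification that is trivial on the punctured spectrum

If `A` is a noetherian local domain and `C` a domain containing `A` all of whose elements lie in
`A_q` for every non-maximal prime `q`, then two primes of `C` over the maximal ideal are never
strictly nested.
-/

set_option autoImplicit false
universe u

open IsLocalRing TensorProduct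

namespace Groth.Agent.PurityLib

/-- The case of a complete local domain. -/
theorem not_lt_of_complete {D C : Type u} [CommRing D] [IsDomain D] [IsLocalRing D] [IsNoetherianRing D]
    [IsAdicComplete (maximalIdeal D) D] [CommRing C] [IsDomain C] [Algebra D C] [FaithfulSMul D C]
    (hfrac : ∀ p : Ideal D, p.IsPrime → p ≠ maximalIdeal D → ∀ c : C,
      ∃ r s : D, s ∉ p ∧ algebraMap D C s * c = algebraMap D C r)
    (hm : maximalIdeal D ≠ ⊥) (z z' : Ideal C) [z.IsPrime] [z'.IsPrime]
    (hz : z.comap (algebraMap D C) = maximalIdeal D) : ¬ z < z' := by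
  intro hlt
  let K := FractionRing C
  let K₀ := FractionRing D
  have hDK : Function.Injective (algebraMap D K) := by
    rw [IsScalarTower.algebraMap_eq D C K]
    exact (IsFractionRing.injective C K).comp (FaithfulSMul.algebraMap_injective D C)
  let ψ : K₀ →ₐ[D] K := IsFractionRing.liftAlgHom (g := Algebra.ofId D K) hDK
  have hψ : ∀ c : C, ∃ x : K₀, ψ x = algebraMap C K c := by
    intro c
    obtain ⟨r, s, hs, e⟩ := hfrac ⊥ Ideal.isPrime_bot hm.symm c
    refine ⟨algebraMap D K₀ r / algebraMap D K₀ s, ?_⟩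
    rw [map_div₀, AlgHom.commutes, AlgHom.commutes, div_eq_iff ((map_ne_zero_iff _ hDK).mpr (by simpa using hs)),
      IsScalarTower.algebraMap_apply D C K r, IsScalarTower.algebraMap_apply D C K s, ← e, map_mul, mul_comm]
  choose χ hχ using hψ
  let χ' : C →ₐ[D] K₀ :=
    { toFun := χ
      map_one' := ψ.toRingHom.injective (by
        show ψ (χ 1) = ψ 1
        rw [hχ, map_one, map_one])
      map_mul' := fun a b => ψ.toRingHom.injective (by
        show ψ (χ (a * b)) = ψ (χ a * χ b)
        rw [hχ, map_mul, map_mul, hχ, hχ])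
      map_zero' := ψ.toRingHom.injective (by
        show ψ (χ 0) = ψ 0
        rw [hχ, map_zero, map_zero])
      map_add' := fun a b => ψ.toRingHom.injective (by
        show ψ (χ (a + b)) = ψ (χ a + χ b)
        rw [hχ, map_add, map_add, hχ, hχ])
      commutes' := fun d => ψ.toRingHom.injective (by
        show ψ (χ (algebraMap D C d)) = ψ (algebraMap D K₀ d)
        rw [hχ, AlgHom.commutes, ← IsScalarTower.algebraMap_apply]) }
  have hχi : Function.Injective χ' := fun a b h => IsFractionRing.injective C K (by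
    rw [← hχ a, ← hχ b]; exact congrArg ψ h)
  by_cases hp0 : ∃ p0 : Ideal D, p0.IsPrime ∧ p0 ≠ ⊥ ∧ p0 ≠ maximalIdeal D
  · obtain ⟨p0, hp0, h0, h0m⟩ := hp0
    have : Algebra.IsIntegral D C := by
      refine ⟨fun c => (isIntegral_algHom_iff χ' hχi).mp ?_⟩
      refine isIntegral_of_punctured p0 h0 h0m _ fun p hp hpm => ?_
      obtain ⟨r, s, hs, e⟩ := hfrac p hp hpm c
      refine ⟨r, s, hs, ?_⟩
      have := congrArg χ' e
      rwa [map_mul, AlgHom.commutes, AlgHom.commutes] at this
    have h' : z'.comap (algebraMap D C) = maximalIdeal D :=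
      le_antisymm (le_maximalIdeal (Ideal.IsPrime.ne_top inferInstance))
        (hz ▸ Ideal.comap_mono hlt.le)
    obtain ⟨x, hxz', hxz⟩ := SetLike.exists_of_lt hlt
    have := Ideal.comap_lt_comap_of_integral_mem_sdiff (R := D) hlt.le ⟨hxz', hxz⟩ (Algebra.IsIntegral.isIntegral x)
    rw [hz, h'] at this
    exact lt_irrefl _ this
  · push Not at hp0
    have : Ring.KrullDimLE 1 D := by
      rw [Ring.krullDimLE_one_iff]
      intro P hP
      by_cases h : P = ⊥
      · exact Or.inl (by rw [IsDomain.minimalPrimes_eq_singleton_bot]; exact h)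
      · exact Or.inr (hp0 P hP h ▸ maximalIdeal.isMaximal D)
    let R' : Subalgebra D K₀ := χ'.range
    let e : C ≃ₐ[D] R' := AlgEquiv.ofInjective χ' hχi
    have hzne : z ≠ ⊥ := by
      intro h
      rw [h] at hz
      exact hm (by rw [← hz]; exact Ideal.comap_bot_of_injective _ (FaithfulSMul.algebraMap_injective D C))
    have h1 : (z.comap e.symm.toRingHom) ≠ ⊥ := by
      intro h
      apply hzne
      refine (Submodule.eq_bot_iff _).mpr fun x hx => ?_
      have : e x ∈ z.comap e.symm.toRingHom := by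
        show e.symm (e x) ∈ z
        rw [e.symm_apply_apply]; exact hx
      rw [h] at this
      exact e.injective (this.trans (map_zero e).symm)
    have hmax := Groth.Agent.DomDVR.isMaximal_of_ne_bot R' h1
    have h2 := hmax.eq_of_le (Ideal.IsPrime.ne_top (I := z'.comap e.symm.toRingHom) inferInstance)
      (Ideal.comap_mono hlt.le)
    exact hlt.ne (Ideal.comap_injective_of_surjective _ e.symm.surjective h2)

/-- The inductive step: descend along a ring carrying the completion. -/
theorem not_lt_aux {A C Ah B : Type u} [CommRing A] [IsDomain A] [IsLocalRing A] [CommRing C] [IsDomain C]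
    [Algebra A C] [FaithfulSMul A C] [CommRing Ah] [IsLocalRing Ah] [IsNoetherianRing Ah]
    [IsAdicComplete (maximalIdeal Ah) Ah] [Algebra A Ah] [CommRing B] [Algebra C B] [Algebra A B]
    [IsScalarTower A C B] (ι : Ah →ₐ[A] B) (hm : maximalIdeal A ≠ ⊥)
    (hmax : maximalIdeal Ah = (maximalIdeal A).map (algebraMap A Ah))
    (hspan : ∀ q : Ideal Ah, q.IsPrime → q.comap (algebraMap A Ah) ≠ maximalIdeal A → ∀ b : B,
      ∃ r s : Ah, s ∉ q ∧ ι s * b = ι r)
    (Qt w w' : Ideal B) [Qt.IsPrime] (hwp : w.IsPrime) (hw'p : w'.IsPrime) (hQtw : Qt ≤ w)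
    (hwlt : w < w') (hQ0 : Qt.comap (algebraMap C B) = ⊥)
    (z : Ideal C) [w.LiesOver z] (hz : z.comap (algebraMap A C) = maximalIdeal A) : False := by
  have hwle : w ≤ w' := hwlt.le
  let Q : Ideal Ah := Qt.comap ι.toRingHom
  let D := Ah ⧸ Q
  let C₂ := B ⧸ Qt
  let φ : D →+* C₂ := Ideal.quotientMap Qt ι.toRingHom le_rfl
  have hφ : Function.Injective φ := Ideal.quotientMap_injective
  letI : Algebra D C₂ := φ.toAlgebra' fun _ _ => mul_comm _ _
  have : FaithfulSMul D C₂ := (faithfulSMul_iff_algebraMap_injective D C₂).mpr hφ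
  have : IsLocalRing D := IsLocalRing.of_surjective' (Ideal.Quotient.mk Q) Ideal.Quotient.mk_surjective
  have hmD : (maximalIdeal Ah).map (Ideal.Quotient.mk Q) = maximalIdeal D :=
    IsLocalRing.map_maximalIdeal_of_surjective _ Ideal.Quotient.mk_surjective
  have : IsAdicComplete (maximalIdeal D) D := by
    have h1 : IsHausdorff ((maximalIdeal Ah).map (algebraMap Ah D)) D := by
      refine IsHausdorff.of_isDomain _ ?_
      rw [Ideal.Quotient.algebraMap_eq, hmD]
      exact (maximalIdeal.isMaximal D).ne_top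
    have : IsHausdorff (maximalIdeal Ah) D := IsHausdorff.map_algebraMap_iff.1 h1
    have h2 := isAdicComplete_finite (C := D) (maximalIdeal Ah)
    rw [← hmD, ← Ideal.Quotient.algebraMap_eq]
    exact (IsAdicComplete.map_algebraMap_iff _ _).2 h2
  let j : A →+* D := (Ideal.Quotient.mk Q).comp (algebraMap A Ah)
  have hjm : (maximalIdeal A).map j = maximalIdeal D := by
    rw [← Ideal.map_map, ← hmax, hmD]
  have hjz : ∀ a, j a = 0 → a = 0 := by
    intro a ha
    have h1 : algebraMap A Ah a ∈ Q := Ideal.Quotient.eq_zero_iff_mem.mp ha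
    have h2 : ι (algebraMap A Ah a) ∈ Qt := h1
    rw [AlgHom.commutes, IsScalarTower.algebraMap_apply A C B, ← Ideal.mem_comap, hQ0,
      Submodule.mem_bot] at h2
    exact (map_eq_zero_iff _ (FaithfulSMul.algebraMap_injective A C)).mp h2
  have hmD0 : maximalIdeal D ≠ ⊥ := by
    intro h
    apply hm
    refine (Submodule.eq_bot_iff _).mpr fun a ha => hjz a ?_
    have : j a ∈ maximalIdeal D := hjm ▸ Ideal.mem_map_of_mem j ha
    rwa [h] at this
  have hfracD : ∀ p : Ideal D, p.IsPrime → p ≠ maximalIdeal D → ∀ c : C₂,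
      ∃ r s : D, s ∉ p ∧ algebraMap D C₂ s * c = algebraMap D C₂ r := by
    intro p hp hpm c
    obtain ⟨b, rfl⟩ := Ideal.Quotient.mk_surjective c
    have hq : p.comap j ≠ maximalIdeal A := by
      intro h
      apply hpm
      refine le_antisymm (le_maximalIdeal hp.ne_top) ?_
      rw [← hjm, Ideal.map_le_iff_le_comap]
      exact h.ge
    obtain ⟨r, s, hs, e⟩ := hspan (p.comap (Ideal.Quotient.mk Q)) inferInstance hq b
    refine ⟨Ideal.Quotient.mk Q r, Ideal.Quotient.mk Q s, hs, ?_⟩
    show Ideal.Quotient.mk Qt (ι s) * Ideal.Quotient.mk Qt b = Ideal.Quotient.mk Qt (ι r)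
    rw [← map_mul, e]
  have hmapprime : ∀ P : Ideal B, P.IsPrime → Qt ≤ P → (P.map (Ideal.Quotient.mk Qt)).IsPrime := fun P hP hle =>
    Ideal.map_isPrime_of_surjective Ideal.Quotient.mk_surjective (by rwa [Ideal.mk_ker])
  have := hmapprime w hwp hQtw
  have := hmapprime w' hw'p (hQtw.trans hwle)
  refine not_lt_of_complete hfracD hmD0 (w.map (Ideal.Quotient.mk Qt)) (w'.map (Ideal.Quotient.mk Qt)) ?_ ?_
  · refine le_antisymm (le_maximalIdeal (Ideal.IsPrime.ne_top inferInstance)) ?_
    rw [← hjm, Ideal.map_le_iff_le_comap]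
    intro a ha
    show Ideal.Quotient.mk Qt (ι (algebraMap A Ah a)) ∈ w.map (Ideal.Quotient.mk Qt)
    refine Ideal.mem_map_of_mem _ ?_
    rw [AlgHom.commutes, IsScalarTower.algebraMap_apply A C B, ← Ideal.mem_comap,
      show w.comap (algebraMap C B) = z from (Ideal.over_def w z).symm, ← Ideal.mem_comap, hz]
    exact ha
  · refine lt_of_le_of_ne (Ideal.map_mono hwle) fun h => hwlt.ne ?_
    have := congrArg (Ideal.comap (Ideal.Quotient.mk Qt)) h
    rwa [Ideal.comap_map_of_surjective' _ Ideal.Quotient.mk_surjective, Ideal.mk_ker,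
      Ideal.comap_map_of_surjective' _ Ideal.Quotient.mk_surjective, Ideal.mk_ker,
      sup_eq_left.mpr hQtw, sup_eq_left.mpr (hQtw.trans hwle)] at this


/-- A birational modification trivial on the punctured spectrum has no chains in the closed fibre. -/
theorem not_lt_of_punctured {A C : Type u} [CommRing A] [IsDomain A] [IsLocalRing A] [IsNoetherianRing A]
    [CommRing C] [IsDomain C] [Algebra A C] [FaithfulSMul A C]
    (hm : maximalIdeal A ≠ ⊥)
    (hfrac : ∀ p : Ideal A, p.IsPrime → p ≠ maximalIdeal A → ∀ c : C,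
      ∃ r s : A, s ∉ p ∧ algebraMap A C s * c = algebraMap A C r)
    (z z' : Ideal C) [z.IsPrime] [z'.IsPrime]
    (hz : z.comap (algebraMap A C) = maximalIdeal A) : ¬ z < z' := by
  intro hlt
  have hI : maximalIdeal A ≠ ⊤ := (maximalIdeal.isMaximal A).ne_top
  let Ah := AdicCompletion (maximalIdeal A) A
  have := RegLocal.isLocalRing_completion A (maximalIdeal A) hI
  have hmax := RegLocal.maximalIdeal_completion A (maximalIdeal A) hI
  have : IsAdicComplete (maximalIdeal Ah) Ah := by
    rw [hmax]; exact AdicCompletion.isAdicComplete_self _ (maximalIdeal A).fg_of_isNoetherianRing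
  have := RegLocal.faithfullyFlat_completion A (maximalIdeal A) hI
  let B := C ⊗[A] Ah
  obtain ⟨⟨w', hw'p⟩, hw'⟩ := PrimeSpectrum.comap_surjective_of_faithfullyFlat (A := C) (B := B) ⟨z', inferInstance⟩
  have : w'.LiesOver z' := ⟨(congrArg PrimeSpectrum.asIdeal hw').symm⟩
  obtain ⟨w, hwle, hwp, hw⟩ := Ideal.exists_ideal_le_liesOver_of_le (R := C) (S := B) w' (p := z) (q := z') hlt.le
  have hwlt : w < w' := lt_of_le_of_ne hwle fun h => hlt.ne (by
    rw [Ideal.over_def w z, Ideal.over_def w' z', h])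
  obtain ⟨Qt, hQt, hQtw⟩ := Ideal.exists_minimalPrimes_le (I := (⊥ : Ideal B)) (J := w) bot_le
  have hQtp : Qt.IsPrime := hQt.1.1
  -- the minimal prime lies over zero
  have hQ0 : Qt.comap (algebraMap C B) = ⊥ := by
    have : Qt.LiesOver (Qt.under C) := ⟨rfl⟩
    obtain ⟨P, hPle, hPp, hP⟩ := Ideal.exists_ideal_le_liesOver_of_le (R := C) (S := B) Qt (p := (⊥ : Ideal C))
      (q := Qt.under C) bot_le
    have : Qt = P := le_antisymm (hQt.2 ⟨hPp, bot_le⟩ hPle) hPle
    rw [this]; exact (Ideal.over_def P (⊥ : Ideal C)).symm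
  refine not_lt_aux (C := C) (Algebra.TensorProduct.includeRight : Ah →ₐ[A] B) hm hmax ?_ Qt w w' hwp hw'p hQtw hwlt hQ0 z hz
  intro q hq hqm b
  induction b using TensorProduct.induction_on with
  | zero => exact ⟨0, 1, fun h => hq.ne_top ((Ideal.eq_top_iff_one _).mpr h), by simp⟩
  | tmul c a =>
    obtain ⟨r, s, hs, e⟩ := hfrac _ (hq.comap _) hqm c
    refine ⟨algebraMap A Ah r * a, algebraMap A Ah s, hs, ?_⟩
    show (1 : C) ⊗ₜ[A] algebraMap A Ah s * c ⊗ₜ[A] a = (1 : C) ⊗ₜ[A] (algebraMap A Ah r * a)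
    rw [Algebra.TensorProduct.tmul_mul_tmul, one_mul, ← Algebra.smul_def, ← Algebra.smul_def,
      TensorProduct.tmul_smul, TensorProduct.tmul_smul, TensorProduct.smul_tmul', TensorProduct.smul_tmul',
      Algebra.smul_def, e, Algebra.smul_def, mul_one]
  | add x y hx hy =>
    obtain ⟨r₁, s₁, hs₁, e₁⟩ := hx
    obtain ⟨r₂, s₂, hs₂, e₂⟩ := hy
    refine ⟨r₁ * s₂ + r₂ * s₁, s₁ * s₂, fun h => (hq.mem_or_mem h).elim hs₁ hs₂, ?_⟩
    simp only [map_add, map_mul, ← e₁, ← e₂]
    ring

end Groth.Agent.PurityLib
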