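import Groth.Agent.PurityLib.BranchPoint
import Groth.Agent.PurityLib.Global
import Groth.Agent.TraceEt.Basic
import Groth.Agent.S0249
import Groth.Agent.SMT.Dimension
import Groth.Agent.ZetaPts.Alg

/-!
A flat quasi-finite point which is unramified in codimension one is étale: the discriminant is a divisor.
-/

set_option autoImplicit false
set_option linter.style.haveILetI false
universe u
open IsLocalRing TensorProduct

namespace Groth.Agent.PurityLib

theorem etale_of_free_unramified_height_one {R A : Type u} [CommRing R] [IsLocalRing R] [IsNoetherianRing R]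
    [CommRing A] [Algebra R A] [Module.Finite R A] [Module.Free R A] (h1 : 1 ≤ ringKrullDim R)
    (hunr : ∀ (Q : Ideal A) [Q.IsPrime], Q.height = 1 → Algebra.IsUnramifiedAt R Q) : Algebra.Etale R A := by
  classical
  let b := Module.Free.chooseBasis R A
  rw [TraceEt.etale_iff_bijective R A, TraceEt.bijective_traceForm_iff R A b]
  by_contra hd
  obtain ⟨p, hp, hdp, hp1⟩ := Groth.Agent.S0249.result R h1 _ ((mem_maximalIdeal _).2 hd)
  haveI := hp
  haveI : IsNoetherianRing A := IsNoetherianRing.of_finite R A
  let L := AlgebraicClosure p.ResidueField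
  -- some element outside `p` kills the differentials
  have hJ : ¬ (Module.annihilator A Ω[A⁄R]).comap (algebraMap R A) ≤ p := by
    intro hle
    obtain ⟨Q, hQJ, hQ, hQp⟩ := Ideal.exists_ideal_over_prime_of_isIntegral p (Module.annihilator A Ω[A⁄R]) hle
    haveI := hQ
    haveI : Q.LiesOver p := ⟨hQp.symm⟩
    have hQ1 : Q.height = 1 := by
      refine le_antisymm ((height_le_under (R := R) Q).trans (by rw [Ideal.under, hQp, hp1])) ?_
      rw [← hp1, Ideal.height_eq_height_add_of_liesOver_of_hasGoingDown p Q]
      exact le_self_add
    have hmem : (⟨Q, hQ⟩ : PrimeSpectrum A) ∈ Algebra.unramifiedLocus R A := hunr Q hQ1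
    rw [Algebra.unramifiedLocus_eq_compl_support, Set.mem_compl_iff, Module.mem_support_iff_of_finite] at hmem
    exact hmem hQJ
  obtain ⟨s, hs, hsp⟩ := SetLike.not_le_iff_exists.1 hJ
  letI : Algebra A (L ⊗[R] A) := Algebra.TensorProduct.rightAlgebra
  haveI : Subsingleton (L ⊗[R] Ω[A⁄R]) := by
    refine subsingleton_of_forall_eq 0 fun z => ?_
    have hu : IsUnit (algebraMap R L s) := by
      rw [IsScalarTower.algebraMap_apply R p.ResidueField L]
      refine (isUnit_iff_ne_zero.2 ?_).map _
      rw [Ne, Ideal.algebraMap_residueField_eq_zero]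
      exact hsp
    have h0 : s • z = 0 := by
      induction z with
      | zero => exact smul_zero _
      | add x y hx hy => rw [smul_add, hx, hy, add_zero]
      | tmul l w =>
        rw [← tmul_smul, show s • w = algebraMap R A s • w from (algebraMap_smul A s w).symm,
          Module.mem_annihilator.1 hs w, tmul_zero]
    rw [← algebraMap_smul L] at h0
    exact hu.smul_eq_zero.1 h0
  haveI : Algebra.FormallyUnramified L (L ⊗[R] A) :=
    ⟨(KaehlerDifferential.tensorKaehlerEquivBase R L A (L ⊗[R] A)).symm.toEquiv.subsingleton⟩
  haveI := Algebra.FormallyEtale.of_formallyUnramified_of_field (K := L) (A := L ⊗[R] A)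
  haveI : Algebra.Etale L (L ⊗[R] A) := ⟨inferInstance, Algebra.FinitePresentation.of_finiteType.1 inferInstance⟩
  refine (TraceEt.etale_baseChange_iff R A b L).1 inferInstance ?_
  rw [IsScalarTower.algebraMap_apply R p.ResidueField L, Ideal.algebraMap_residueField_eq_zero.2 hdp, map_zero]

variable {R S : Type u} [CommRing R] [CommRing S] [Algebra R S]

theorem formallyEtale_of_flat_quasiFiniteAt [IsNoetherianRing R] [Algebra.FiniteType R S] [Module.Flat R S]
    (p : Ideal R) [p.IsPrime] (q : Ideal S) [q.IsPrime] [q.LiesOver p] [Algebra.QuasiFiniteAt R q]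
    (hdim1 : (1 : WithBot ℕ∞) ≤ ringKrullDim (Localization.AtPrime q))
    (hunr : ∀ (Q : Ideal S) [Q.IsPrime], Q ≤ q → Q.height = 1 → Algebra.IsUnramifiedAt R Q) :
    letI := Localization.AtPrime.algebraOfLiesOver p q
    Algebra.FormallyEtale (Localization.AtPrime p) (Localization.AtPrime q) := by
  letI := Localization.AtPrime.algebraOfLiesOver p q
  obtain ⟨R', _, _, _, P, _, _, e, -, P', _, _, hP'q, heP', -, hfin, huniq⟩ :=
    Algebra.exists_etale_isIdempotentElem_forall_liesOver_eq p q
  haveI : IsNoetherianRing R' := Algebra.FiniteType.isNoetherianRing R R'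
  haveI : IsNoetherianRing S := Algebra.FiniteType.isNoetherianRing R S
  let B := R' ⊗[R] S
  letI : Algebra S B := Algebra.TensorProduct.rightAlgebra
  let c : S ⊗[R] R' ≃ₐ[S] B :=
    { __ := Algebra.TensorProduct.comm R S R', commutes' := fun _ => rfl }
  haveI : Algebra.Etale S B := Algebra.Etale.of_equiv c
  haveI : IsNoetherianRing B := Algebra.FiniteType.isNoetherianRing S B
  haveI : IsScalarTower R S B := IsScalarTower.of_algebraMap_eq fun r => by
    show _ = (1 : R') ⊗ₜ[R] algebraMap R S r
    rw [Algebra.TensorProduct.algebraMap_apply, Algebra.algebraMap_eq_smul_one, Algebra.algebraMap_eq_smul_one,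
      smul_tmul]
  haveI : P'.LiesOver q := ⟨hP'q.symm⟩
  -- the finite factor
  let T := Localization.Away e
  haveI : Module.Finite R' T := hfin
  haveI : IsScalarTower R S T := IsScalarTower.of_algebraMap_eq fun r => by
    rw [IsScalarTower.algebraMap_apply R B T, IsScalarTower.algebraMap_apply R S B, ← IsScalarTower.algebraMap_apply]
  have hdisj : Disjoint (Submonoid.powers e : Set B) P' :=
    (Ideal.disjoint_powers_iff_notMem_of_isPrime e).2 heP'
  let PT : Ideal T := P'.map (algebraMap B T)
  haveI : PT.IsPrime := IsLocalization.isPrime_of_isPrime_disjoint (Submonoid.powers e) T P' inferInstance hdisj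
  have hPT : PT.comap (algebraMap B T) = P' :=
    IsLocalization.under_map_of_isPrime_disjoint (Submonoid.powers e) T inferInstance hdisj
  haveI : PT.LiesOver P := ⟨by
    rw [Ideal.under, IsScalarTower.algebraMap_eq R' B T, ← Ideal.comap_comap, hPT]
    exact Ideal.LiesOver.over⟩
  haveI : PT.LiesOver q := ⟨by
    rw [Ideal.under, IsScalarTower.algebraMap_eq S B T, ← Ideal.comap_comap, hPT]
    exact Ideal.LiesOver.over⟩
  let Rh := Localization.AtPrime P
  let A := Localization.AtPrime PT
  letI : Algebra Rh A := Localization.AtPrime.algebraOfLiesOver P PT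
  letI : Algebra (Localization.AtPrime q) A := Localization.AtPrime.algebraOfLiesOver q PT
  haveI hAB : IsLocalization.AtPrime A P' := by
    haveI := IsLocalization.isLocalization_isLocalization_atPrime_isLocalization (Submonoid.powers e) A PT
    exact atPrime_congr hPT
  haveI : IsLocalization (Algebra.algebraMapSubmonoid T P.primeCompl) A := by
    refine (IsLocalization.iff_of_le_of_exists_dvd (S := A) (Algebra.algebraMapSubmonoid T P.primeCompl) PT.primeCompl ?_ ?_).2
      inferInstance
    · rintro _ ⟨r, hr, rfl⟩ hrP
      exact hr ((Ideal.LiesOver.over (P := PT) (p := P)).symm ▸ hrP)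
    · intro t ht
      by_contra hne
      push Not at hne
      have hle : (Ideal.span {t}).comap (algebraMap R' T) ≤ P := fun r hr => by
        by_contra hrP
        exact hne _ ⟨r, hrP, rfl⟩ (Ideal.mem_span_singleton.1 hr)
      obtain ⟨Q, hQt, hQ, hQP⟩ := Ideal.exists_ideal_over_prime_of_isIntegral P (Ideal.span {t}) hle
      haveI := hQ
      have heq : Q.comap (algebraMap B T) = P' := by
        refine huniq _ inferInstance ⟨?_⟩ fun he => ?_
        · rw [Ideal.under, Ideal.comap_comap, ← IsScalarTower.algebraMap_eq, hQP]
        · exact hQ.ne_top (Ideal.eq_top_of_isUnit_mem _ he (IsLocalization.Away.algebraMap_isUnit e))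
      refine ht ?_
      show t ∈ P'.map (algebraMap B T)
      rw [← heq, IsLocalization.map_under (Submonoid.powers e) T Q]
      exact hQt (Ideal.mem_span_singleton_self t)
  haveI : Module.Finite Rh A := Module.Finite.of_isLocalization R' T P.primeCompl
  -- flatness
  haveI : IsNoetherianRing A := IsNoetherianRing.of_finite Rh A
  haveI : Module.Flat R' B := inferInstance
  haveI : Module.Flat B T := IsLocalization.flat _ (Submonoid.powers e)
  haveI : Module.Flat R' T := Module.Flat.trans R' B T
  haveI : Module.Flat T A := IsLocalization.flat _ PT.primeCompl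
  haveI : Module.Flat R' A := Module.Flat.trans R' T A
  haveI : Module.Flat Rh A := (Module.flat_iff_of_isLocalization Rh P.primeCompl A).2 inferInstance
  haveI : Module.FinitePresentation Rh A := Module.finitePresentation_of_finite Rh A
  haveI : Module.Free Rh A := Module.free_of_flat_of_isLocalRing
  obtain ⟨hdimS, -⟩ := dim_regular_of_etale q P'
  have hdimA : ringKrullDim A = ringKrullDim (Localization.AtPrime P') :=
    ringKrullDim_eq_of_ringEquiv (IsLocalization.algEquiv P'.primeCompl A (Localization.AtPrime P')).toRingEquiv
  have hdimRh : (1 : WithBot ℕ∞) ≤ ringKrullDim Rh := by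
    refine le_trans ?_ SMT.ringKrullDim_le_of_isIntegral (b := ringKrullDim A)
    rw [hdimA, hdimS]
    exact hdim1
  haveI : Algebra.Etale B T := Algebra.Etale.of_isLocalizationAway e
  haveI : Algebra.FormallyEtale S T := Algebra.FormallyEtale.comp S B T
  haveI : Algebra.FormallyEtale T A := Algebra.FormallyEtale.of_isLocalization PT.primeCompl
  haveI : Algebra.FormallyEtale S A := Algebra.FormallyEtale.comp S T A
  haveI : IsLocalHom (algebraMap (Localization.AtPrime q) A) :=
    Localization.isLocalHom_localRingHom q PT (algebraMap S T) Ideal.LiesOver.over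
  haveI : Module.Flat B T := IsLocalization.flat _ (Submonoid.powers e)
  haveI : Module.Flat S T := Module.Flat.trans S B T
  haveI : Module.Flat T A := IsLocalization.flat _ PT.primeCompl
  haveI : Module.Flat S A := Module.Flat.trans S T A
  have hunrA : ∀ (Qa : Ideal A) [Qa.IsPrime], Qa.height = 1 → Algebra.IsUnramifiedAt Rh Qa := by
    intro Qa _ hQa
    let Qb := Qa.comap (algebraMap B A)
    let Q0 := Qb.comap (algebraMap S B)
    haveI : Qb.LiesOver Q0 := ⟨rfl⟩
    haveI : Qa.LiesOver Q0 := ⟨by
      show (Qa.comap (algebraMap B A)).comap (algebraMap S B) = Qa.comap (algebraMap S A)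
      rw [Ideal.comap_comap, ← IsScalarTower.algebraMap_eq]⟩
    have hQ0 : Q0 ≤ q := fun s hs => by
      by_contra hsq
      have hu : IsUnit (algebraMap S A s) := by
        rw [IsScalarTower.algebraMap_apply S (Localization.AtPrime q) A]
        exact (IsLocalization.map_units _ (⟨s, hsq⟩ : q.primeCompl)).map _
      refine (inferInstance : Qa.IsPrime).ne_top (Ideal.eq_top_of_isUnit_mem _ ?_ hu)
      rw [IsScalarTower.algebraMap_apply S B A]
      exact hs
    have hht : Q0.height = 1 := by
      have h := (dim_regular_of_etale Q0 Qb).1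
      rw [IsLocalization.AtPrime.ringKrullDim_eq_height Qb, IsLocalization.AtPrime.ringKrullDim_eq_height Q0,
        WithBot.coe_inj] at h
      rw [← h, ← hQa]
      exact IsLocalization.height_under P'.primeCompl Qa
    haveI := hunr Q0 hQ0 hht
    haveI : Algebra.IsUnramifiedAt S Qa := by
      haveI : Algebra.FormallyEtale A (Localization.AtPrime Qa) := Algebra.FormallyEtale.of_isLocalization Qa.primeCompl
      exact Algebra.FormallyUnramified.comp S A _
    haveI : Algebra.IsUnramifiedAt R Qa := Algebra.IsUnramifiedAt.comp Q0 Qa
    exact Algebra.IsUnramifiedAt.of_restrictScalars R Qa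
  haveI : Algebra.Etale Rh A := etale_of_free_unramified_height_one hdimRh hunrA
  -- descent to `S_q`
  haveI : Algebra.FormallyEtale R' Rh := Algebra.FormallyEtale.of_isLocalization P.primeCompl
  haveI : Algebra.FormallyEtale R Rh := Algebra.FormallyEtale.comp R R' Rh
  haveI : Algebra.FormallyEtale R A := Algebra.FormallyEtale.comp R Rh A
  haveI : Module.Flat R' Rh := IsLocalization.flat _ P.primeCompl
  haveI : Module.Flat R Rh := Module.Flat.trans R R' Rh
  haveI : Module.Flat R A := Module.Flat.trans R Rh A
  haveI : Module.Flat (Localization.AtPrime q) A :=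
    (Module.flat_iff_of_isLocalization (Localization.AtPrime q) q.primeCompl A).2 inferInstance
  haveI : Module.FaithfullyFlat (Localization.AtPrime q) A := Module.FaithfullyFlat.of_flat_of_isLocalHom
  haveI : Module.Flat R (Localization.AtPrime q) :=
    FlatDescStalk.flat_of_comp_faithfullyFlat R (Localization.AtPrime q) A
  haveI : Module.Flat (Localization.AtPrime p) (Localization.AtPrime q) :=
    (Module.flat_iff_of_isLocalization (Localization.AtPrime p) p.primeCompl (Localization.AtPrime q)).2 inferInstance
  haveI : Algebra.FormallyEtale (Localization.AtPrime q) A :=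
    Algebra.FormallyEtale.localization_base q.primeCompl (R := S) (Rₘ := Localization.AtPrime q)
  haveI : Algebra.FormallyUnramified R (Localization.AtPrime q) := by
    refine ⟨?_⟩
    haveI : Subsingleton (A ⊗[Localization.AtPrime q] KaehlerDifferential R (Localization.AtPrime q)) :=
      (KaehlerDifferential.tensorKaehlerEquivOfFormallyEtale R (Localization.AtPrime q) A).toEquiv.subsingleton
    exact Module.FaithfullyFlat.lTensor_reflects_triviality (Localization.AtPrime q) A _
  haveI : Algebra.FormallyUnramified (Localization.AtPrime p) (Localization.AtPrime q) :=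
    Algebra.FormallyUnramified.of_restrictScalars R _ _
  haveI : IsLocalHom (algebraMap (Localization.AtPrime p) (Localization.AtPrime q)) :=
    Localization.isLocalHom_localRingHom p q (algebraMap R S) Ideal.LiesOver.over
  haveI : Algebra.FinitePresentation R S := Algebra.FinitePresentation.of_finiteType.1 inferInstance
  haveI : Algebra.EssFiniteType (Localization.AtPrime p) (Localization.AtPrime q) :=
    haveI := Algebra.EssFiniteType.of_isLocalization (R := S) (Localization.AtPrime q) q.primeCompl
    haveI := Algebra.EssFiniteType.comp R S (Localization.AtPrime q)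
    Algebra.EssFiniteType.of_comp R (Localization.AtPrime p) _
  let κ := Localization.AtPrime p ⧸ maximalIdeal (Localization.AtPrime p)
  letI : Field κ := Ideal.Quotient.field _
  have hfs : (algebraMap κ (κ ⊗[Localization.AtPrime p] Localization.AtPrime q)).FormallySmooth := by
    haveI := Algebra.FormallyEtale.of_formallyUnramified_of_field (K := κ)
      (A := κ ⊗[Localization.AtPrime p] Localization.AtPrime q)
    exact RingHom.formallySmooth_algebraMap.2 inferInstance
  haveI := FlatLocus.formallySmooth_of_quotient (A := R) (B := S) (A' := Localization.AtPrime p)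
    (B' := Localization.AtPrime q) p q (Ideal.LiesOver.over (P := q) (p := p)).symm _ le_rfl hfs
  exact ⟨inferInstance, inferInstance⟩

end Groth.Agent.PurityLib
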