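import Groth.Agent.PurityLib.FlatPoint
import Groth.Agent.FlatLocus.PointScheme
import Mathlib.AlgebraicGeometry.Morphisms.QuasiFinite

/-!
Flat, quasi-finite and unramified in codimension one implies étale, scheme form.
-/

set_option autoImplicit false
set_option linter.style.haveILetI false
set_option backward.isDefEq.respectTransparency false
universe u
open AlgebraicGeometry CategoryTheory IsLocalRing

namespace Groth.Agent.PurityLib

theorem exists_etale_nbhd_of_flat {X Y : Scheme.{u}} (f : X ⟶ Y) [LocallyOfFiniteType f] [Flat f]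
    [IsLocallyNoetherian X] [IsLocallyNoetherian Y] (x : X)
    (hq : f.QuasiFiniteAt x)
    (hdim1 : (1 : WithBot ℕ∞) ≤ ringKrullDim (X.presheaf.stalk x))
    (hunr : ∀ x' : X, x' ⤳ x → ringKrullDim (X.presheaf.stalk x') = 1 →
      (f.stalkMap x').hom.FormallyUnramified) :
    ∃ U : X.Opens, x ∈ U ∧ Etale (U.ι ≫ f) := by
  haveI : LocallyOfFinitePresentation f := inferInstance
  rw [FlatLocus.exists_etale_nhd_iff]
  obtain ⟨_, ⟨U : Y.Opens, hU, rfl⟩, hxU, -⟩ :=
    Y.isBasis_affineOpens.exists_subset_of_mem_open (Set.mem_univ (f x)) isOpen_univ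
  obtain ⟨_, ⟨V : X.Opens, hV, rfl⟩, hxV, hVU⟩ :=
    X.isBasis_affineOpens.exists_subset_of_mem_open (a := x) (u := ↑(f ⁻¹ᵁ U)) hxU (f ⁻¹ᵁ U).2
  haveI := IsLocallyNoetherian.component_noetherian ⟨U, hU⟩
  haveI := IsLocallyNoetherian.component_noetherian ⟨V, hV⟩
  have hqf := hq.quasiFiniteAt hV hU hVU hxV
  have hft := f.finiteType_appLE hU hV hVU
  algebraize [(f.appLE U V hVU).hom]
  let p := (hU.primeIdealOf ⟨f x, hVU hxV⟩).asIdeal
  let q := (hV.primeIdealOf ⟨x, hxV⟩).asIdeal
  haveI : Algebra.QuasiFiniteAt Γ(Y, U) q := hqf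
  haveI hpq : q.LiesOver p := ⟨congr($(IsAffineOpen.comap_primeIdealOf_appLE U hU V hV hVU hxV).1).symm⟩
  letI := Y.presheaf.algebra_section_stalk ⟨f x, hVU hxV⟩
  haveI := hU.isLocalization_stalk ⟨f x, hVU hxV⟩
  letI := X.presheaf.algebra_section_stalk ⟨x, hxV⟩
  haveI := hV.isLocalization_stalk ⟨x, hxV⟩
  let ex := (IsLocalization.algEquiv q.primeCompl (X.presheaf.stalk x) (Localization.AtPrime q)).toRingEquiv
  haveI : Module.Flat Γ(Y, U) Γ(X, V) := HasRingHomProperty.appLE @Flat f inferInstance ⟨U, hU⟩ ⟨V, hV⟩ hVU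
  have h1 : ∀ (Q : Ideal Γ(X, V)) [Q.IsPrime], Q ≤ q → Q.height = 1 → Algebra.IsUnramifiedAt Γ(Y, U) Q := by
    intro Q _ hQq hQ1
    let P : Spec Γ(X, V) := ⟨Q, inferInstance⟩
    have hsp : hV.fromSpec P ⤳ x := by
      have h0 := ((PrimeSpectrum.le_iff_specializes P (hV.primeIdealOf ⟨x, hxV⟩)).1 hQq).map hV.fromSpec.continuous
      rwa [hV.fromSpec_primeIdealOf] at h0
    have hmem : hV.fromSpec P ∈ V := by
      rw [← SetLike.mem_coe, ← hV.range_fromSpec]
      exact ⟨P, rfl⟩
    have hP : hV.primeIdealOf ⟨hV.fromSpec P, hmem⟩ = P :=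
      hV.fromSpec.isOpenEmbedding.injective (hV.fromSpec_primeIdealOf _)
    letI := X.presheaf.algebra_section_stalk ⟨hV.fromSpec P, hmem⟩
    haveI := hV.isLocalization_stalk ⟨hV.fromSpec P, hmem⟩
    have hh : (hV.primeIdealOf ⟨hV.fromSpec P, hmem⟩).asIdeal.height = 1 := by rw [hP]; exact hQ1
    have hd1 : ringKrullDim (X.presheaf.stalk (hV.fromSpec P)) = 1 := by
      rw [IsLocalization.AtPrime.ringKrullDim_eq_height (hV.primeIdealOf ⟨hV.fromSpec P, hmem⟩).asIdeal, hh]
      rfl
    have hu := hunr _ hsp hd1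
    let q' := (hV.primeIdealOf ⟨hV.fromSpec P, hmem⟩).asIdeal
    let p' := (hU.primeIdealOf ⟨f (hV.fromSpec P), hVU hmem⟩).asIdeal
    haveI : q'.LiesOver p' := ⟨congr($(IsAffineOpen.comap_primeIdealOf_appLE U hU V hV hVU hmem).1).symm⟩
    letI := Localization.AtPrime.algebraOfLiesOver p' q'
    haveI : Algebra.FormallyUnramified (Localization.AtPrime p') (Localization.AtPrime q') := by
      rw [← RingHom.formallyUnramified_algebraMap]
      exact (RingHom.FormallyUnramified.respectsIso.arrow_mk_iso_iff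
        (IsAffineOpen.arrowStalkMapIso f U hU V hV hVU hmem)).1 hu
    have hq' : Algebra.IsUnramifiedAt Γ(Y, U) q' :=
      Algebra.FormallyUnramified.comp _ (Localization.AtPrime p') _
    exact (congrArg (fun z : Spec Γ(X, V) => z ∈ Algebra.unramifiedLocus Γ(Y, U) Γ(X, V)) hP).mp hq'
  letI := Localization.AtPrime.algebraOfLiesOver p q
  haveI := formallyEtale_of_flat_quasiFiniteAt p q (by rw [← ringKrullDim_eq_of_ringEquiv ex]; exact hdim1) h1
  constructor
  · refine (RingHom.FormallySmooth.respectsIso.arrow_mk_iso_iff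
      (IsAffineOpen.arrowStalkMapIso f U hU V hV hVU hxV)).2 ?_
    exact RingHom.formallySmooth_algebraMap.2 (inferInstance :
      Algebra.FormallySmooth (Localization.AtPrime p) (Localization.AtPrime q))
  · refine (RingHom.FormallyUnramified.respectsIso.arrow_mk_iso_iff
      (IsAffineOpen.arrowStalkMapIso f U hU V hV hVU hxV)).2 ?_
    exact RingHom.formallyUnramified_algebraMap.2 (inferInstance :
      Algebra.FormallyUnramified (Localization.AtPrime p) (Localization.AtPrime q))

end Groth.Agent.PurityLib
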