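import Groth.Agent.PurityLib.Invariant
import Groth.Agent.PurityLib.Global
import Groth.Agent.S12935

/-!
Purity: a Galois group over a regular local ring with trivial residue extension is generated by the
inertia groups of height-one primes.
-/

set_option autoImplicit false
set_option linter.style.haveILetI false
universe u w
open IsLocalRing Pointwise

namespace Groth.Agent.PurityLib

variable {A : Type u} [CommRing A] [IsDomain A] {H : Type w} [Group H] [MulSemiringAction H A]

theorem inertia_smul_mem {P : Ideal A} {g h : H} (hh : h ∈ P.inertia H) : g * h * g⁻¹ ∈ (g • P).inertia H := fun a => by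
  have h1 := Ideal.smul_mem_pointwise_smul g _ _ (hh (g⁻¹ • a))
  show (g * h * g⁻¹) • a - a ∈ g • P
  rw [smul_sub, smul_inv_smul, ← mul_smul, ← mul_smul] at h1
  simpa [mul_assoc] using h1

theorem height_smul (g : H) (P : Ideal A) : (g • P).height = P.height := by
  rw [Ideal.pointwise_smul_def]
  exact (MulSemiringAction.toRingEquiv H A g).height_map P

omit [IsDomain A] in
theorem isIntegrallyClosed_fixed [IsDomain A] [IsIntegrallyClosed A] {R : Type u} [CommRing R] [Algebra R A]
    [SMulCommClass H R A] (N : Subgroup H) :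
    IsIntegrallyClosed (FixedPoints.subalgebra R A N) := by
  let B := FixedPoints.subalgebra R A N
  refine (isIntegrallyClosed_iff (FractionRing B)).2 fun {x} hx => ?_
  obtain ⟨b, c, hc, rfl⟩ := IsFractionRing.div_surjective (A := B) x
  let Φ : FractionRing B →+* FractionRing A :=
    IsFractionRing.map (A := B) (B := A) (j := B.val.toRingHom) Subtype.val_injective
  have hΦ : ∀ b : B, Φ (algebraMap B _ b) = algebraMap A (FractionRing A) (b : A) := fun b => IsLocalization.map_eq _ b
  have hint : IsIntegral A (Φ (algebraMap B _ b / algebraMap B _ c)) := by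
    obtain ⟨P, hP, hPx⟩ := hx
    refine ⟨P.map B.val.toRingHom, hP.map _, ?_⟩
    rw [Polynomial.eval₂_map,
      show (algebraMap A (FractionRing A)).comp B.val.toRingHom = Φ.comp (algebraMap B (FractionRing B)) from
        RingHom.ext fun b => (hΦ b).symm,
      ← Polynomial.hom_eval₂, hPx, map_zero]
  obtain ⟨t, ht⟩ := IsIntegrallyClosed.isIntegral_iff.1 hint
  rw [map_div₀, hΦ, hΦ] at ht
  have hc0 : (c : A) ≠ 0 := fun h => nonZeroDivisors.ne_zero hc (Subtype.ext h)
  have htc : t * c = b := IsFractionRing.injective A (FractionRing A) (by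
    rw [map_mul, ht, div_mul_cancel₀]
    exact fun h => hc0 (IsFractionRing.injective A (FractionRing A) (h.trans (map_zero _).symm)))
  have htfix : ∀ σ : N, σ • t = t := fun σ => by
    have h := congrArg (σ • ·) htc
    simp only [smul_mul', c.2 σ, b.2 σ] at h
    exact mul_right_cancel₀ hc0 (h.trans htc.symm)
  refine ⟨⟨t, htfix⟩, ?_⟩
  rw [eq_div_iff (fun h => nonZeroDivisors.ne_zero hc (IsFractionRing.injective B (FractionRing B) (h.trans (map_zero _).symm))),
    ← map_mul]
  exact congrArg _ (Subtype.ext htc)

omit [IsDomain A] in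
theorem isUnit_fixed {N : Subgroup H} {R : Type u} [CommRing R] [Algebra R A] [SMulCommClass H R A]
    (b : FixedPoints.subalgebra R A N) (hb : IsUnit (b : A)) : IsUnit b := by
  obtain ⟨c, hc⟩ := hb.exists_right_inv
  have hcfix : ∀ σ : N, σ • c = c := fun σ => by
    refine hb.mul_left_cancel ?_
    have h := congrArg (σ • ·) hc
    simp only [smul_mul', b.2 σ, smul_one] at h
    rw [h, hc]
  exact IsUnit.of_mul_eq_one (⟨c, hcfix⟩ : FixedPoints.subalgebra R A N) (Subtype.ext hc)

/-- Subgroups with the same ring of invariants as the whole group are the whole group. -/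
theorem eq_top_of_fixed [Finite H] [FaithfulSMul H A] (N : Subgroup H) [N.Normal]
    (hN : ∀ a : A, (∀ g ∈ N, g • a = a) → ∀ h : H, h • a = a) : N = ⊤ := by
  classical
  letI := Fintype.ofFinite H
  let L := FractionRing A
  letI : MulSemiringAction H L := IsFractionRing.mulSemiringAction H A L
  haveI : SMulDistribClass H A L := IsFractionRing.smulDistribClass H A L
  haveI : FaithfulSMul H L := IsFractionRing.faithfulSMul H A L
  haveI : FaithfulSMul N L := ⟨fun h => Subtype.ext (eq_of_smul_eq_smul h)⟩
  have heq : FixedPoints.subfield N L = FixedPoints.subfield H L := by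
    refine le_antisymm (fun z hz h => ?_) (fun z hz g => hz g)
    obtain ⟨a, b, hb, rfl⟩ := IsFractionRing.div_surjective (A := A) z
    have hb0 : b ≠ 0 := nonZeroDivisors.ne_zero hb
    let e := ∏ g ∈ Finset.univ.erase (1 : N), g • b
    have hbe : b * e = ∏ g : N, g • b := by
      rw [← Finset.mul_prod_erase Finset.univ (fun g : N => g • b) (Finset.mem_univ 1), one_smul]
    have hfixbe : ∀ g : N, g • (b * e) = b * e := fun g => by
      rw [hbe, Finset.smul_prod']
      exact Fintype.prod_bijective (g * ·) (Group.mulLeft_bijective g) _ _ fun x => (mul_smul g x b).symm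
    have he0 : e ≠ 0 := Finset.prod_ne_zero_iff.2 fun g _ => by rwa [smul_ne_zero_iff_ne]
    have hbe0 : algebraMap A L (b * e) ≠ 0 := fun h0 =>
      mul_ne_zero hb0 he0 (IsFractionRing.injective A L (h0.trans (map_zero _).symm))
    have hz' : algebraMap A L a / algebraMap A L b = algebraMap A L (a * e) / algebraMap A L (b * e) := by
      rw [map_mul, map_mul, mul_div_mul_right _ _ (fun h0 => he0 (IsFractionRing.injective A L (h0.trans (map_zero _).symm)))]
    have hfixae : ∀ g : N, g • (a * e) = a * e := fun g => by
      have h1 : g • (algebraMap A L a / algebraMap A L b) = algebraMap A L a / algebraMap A L b := hz g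
      rw [hz', smul_div₀'] at h1
      have h2 : ∀ x : A, g • algebraMap A L x = algebraMap A L (g • x) := fun x => (algebraMap.coe_smul' g x L).symm
      rw [h2, h2, hfixbe] at h1
      exact IsFractionRing.injective A L ((div_left_inj' hbe0).1 h1)
    have hH : ∀ x : A, (∀ g : N, g • x = x) → h • algebraMap A L x = algebraMap A L x := fun x hx => by
      rw [← algebraMap.coe_smul' h x L, hN x (fun g hg => hx ⟨g, hg⟩) h]
    rw [hz', smul_div₀', hH _ hfixae, hH _ hfixbe]
  refine Subgroup.eq_top_of_card_eq N ?_
  rw [Nat.card_eq_fintype_card, Nat.card_eq_fintype_card, ← FixedPoints.finrank_eq_card (G := N) (F := L),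
    ← FixedPoints.finrank_eq_card (G := H) (F := L), heq]

theorem iSup_inertia_eq_top {R : Type u} [CommRing R] [IsRegularLocalRing R] [IsIntegrallyClosed A] [IsLocalRing A]
    [Algebra R A] [Module.Finite R A] [FaithfulSMul R A] (hres : Function.Surjective (residue A ∘ algebraMap R A))
    [Finite H] [SMulCommClass H R A] [FaithfulSMul H A]
    (hfix : ∀ a : A, (∀ h : H, h • a = a) → a ∈ Set.range (algebraMap R A)) :
    (⨆ P : {P : Ideal A // P.IsPrime ∧ P.height = 1}, P.1.inertia H) = ⊤ := by
  classical
  let N := ⨆ P : {P : Ideal A // P.IsPrime ∧ P.height = 1}, P.1.inertia H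
  haveI hnormal : N.Normal := ⟨fun n hn g => by
    have : N ≤ N.comap (MulAut.conj g).toMonoidHom := iSup_le fun ⟨P, hP, hP1⟩ n hn =>
      Subgroup.mem_iSup_of_mem (⟨g • P, hP.smul g, (height_smul g P).trans hP1⟩ :
        {P : Ideal A // P.IsPrime ∧ P.height = 1}) (inertia_smul_mem hn)
    exact this hn⟩
  haveI : Algebra.IsInvariant R A H := ⟨fun a ha => hfix a ha⟩
  let B := FixedPoints.subalgebra R A N
  haveI : Module.Finite R B := Module.Finite.of_injective B.val.toLinearMap Subtype.val_injective
  haveI : FaithfulSMul R B := (faithfulSMul_iff_algebraMap_injective R B).2 fun x y h =>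
    FaithfulSMul.algebraMap_injective R A (congrArg Subtype.val h)
  haveI : IsIntegrallyClosed B := isIntegrallyClosed_fixed N
  haveI hloc : IsLocalRing B := IsLocalRing.of_isUnit_or_isUnit_one_sub_self fun b =>
    (IsLocalRing.isUnit_or_isUnit_one_sub_self (b : A)).imp (isUnit_fixed b) (isUnit_fixed (1 - b))
  haveI : Algebra.IsIntegral B A := Algebra.IsIntegral.tower_top R
  -- unramified in codimension one
  have hunr : ∀ (Q : Ideal B) [Q.IsPrime], Q.height ≤ 1 → Algebra.IsUnramifiedAt R Q := by
    intro Q _ hQ
    obtain ⟨P, -, hP, hPQ⟩ := Ideal.exists_ideal_over_prime_of_isIntegral (S := A) Q (⊥ : Ideal A)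
      (by rw [← RingHom.ker_eq_comap_bot]; exact ((RingHom.injective_iff_ker_eq_bot _).1 (fun x y h => Subtype.ext h)).le.trans bot_le)
    haveI := hP
    have hP1 : P.height ≤ 1 := (height_le_under (R := B) P).trans (by rw [Ideal.under, hPQ]; exact hQ)
    have hle : P.inertia H ≤ N := by
      rcases eq_or_lt_of_le hP1 with h1 | h0
      · exact le_iSup_of_le ⟨P, hP, h1⟩ le_rfl
      · have hP0 : P = ⊥ := by
          rw [Order.lt_one_iff, Ideal.height_eq_zero_iff_eq_bot] at h0
          exact h0
        intro g hg
        have : g = 1 := eq_of_smul_eq_smul fun a : A => by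
          have h := hg a
          rw [hP0] at h
          rw [one_smul]; exact sub_eq_zero.1 (Ideal.mem_bot.1 h)
        rw [this]; exact one_mem _
    refine isUnramifiedAt_of_inertia (G := H ⧸ N) (fun b hb => Algebra.IsInvariant.isInvariant (A := R) (G := H ⧸ N) b hb) Q ?_
    intro g hg b
    induction g using QuotientGroup.induction_on with
    | H γ =>
      obtain ⟨ω, hω, hγω⟩ := ((Groth.Agent.S12935.result A H N P γ).2).1 fun x hx => by
        have h := hg (⟨x, fun n => hx n n.2⟩ : B)
        rw [← hPQ] at h
        exact h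
      have hmem : γ * ω ∈ N := hle hγω
      have hγ : γ ∈ N := (Subgroup.mul_mem_cancel_right N hω).1 hmem
      rw [(QuotientGroup.eq_one_iff γ).2 hγ, one_smul]
  haveI : Algebra.Etale R B := etale_of_unramified_codim_one hunr
  -- `B = R`
  haveI : IsLocalHom (algebraMap R B) := RingHom.IsIntegral.isLocalHom
    (algebraMap_isIntegral_iff.2 inferInstance) (FaithfulSMul.algebraMap_injective R B)
  have hmap := Algebra.FormallyUnramified.map_maximalIdeal (R := R) (S := B)
  have hsurj : Function.Surjective (algebraMap R B) := by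
    change Function.Surjective (Algebra.linearMap R B)
    rw [← LinearMap.range_eq_top, eq_top_iff]
    refine Submodule.le_of_le_smul_of_le_jacobson_bot Module.Finite.fg_top (maximalIdeal_le_jacobson _) fun b _ => ?_
    obtain ⟨r, hr⟩ := hres (residue A (b : A))
    have hmem : b - algebraMap R B r ∈ maximalIdeal B := by
      rw [mem_maximalIdeal, mem_nonunits_iff]
      intro hu
      have h2 : (b : A) - algebraMap R A r ∈ maximalIdeal A := Ideal.Quotient.eq.1 hr.symm
      rw [mem_maximalIdeal, mem_nonunits_iff] at h2
      exact h2 (by simpa using hu.map B.val)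
    rw [← hmap] at hmem
    rw [← sub_add_cancel b (algebraMap R B r), add_comm]
    refine Submodule.add_mem_sup ⟨r, rfl⟩ ?_
    rw [Ideal.smul_top_eq_map]
    exact hmem
  refine eq_top_of_fixed (A := A) N fun a ha h => ?_
  obtain ⟨r, hr⟩ := hsurj ⟨a, fun n => ha n n.2⟩
  have : algebraMap R A r = a := congrArg Subtype.val hr
  rw [← this, smul_algebraMap]

end Groth.Agent.PurityLib
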