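import Groth.Agent.WildQuotLib.RamGalois

/-!
Over the ring of invariants an algebra is unramified at primes with trivially acting inertia.
-/

set_option autoImplicit false
set_option linter.style.haveILetI false
universe u w
open Pointwise Groth.Agent.WildQuotLib

namespace Groth.Agent.PurityLib

variable {R : Type u} [CommRing R] {B : Type u} [CommRing B] [Algebra R B]

theorem sq_smul_D_eq_zero {G : Type w} [Group G] [Fintype G] [DecidableEq G] [MulSemiringAction G B]
    (hfix : ∀ b : B, (∀ g : G, g • b = b) → b ∈ Set.range (algebraMap R B)) {s : B}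
    (hs : s ∈ galoisIdeal (A := B) G) (b : B) : (s * s) • KaehlerDifferential.D R B b = 0 := by
  obtain ⟨T, c, h⟩ := (mem_galoisIdeal_iff s).1 hs
  let D := KaehlerDifferential.D R B
  have hdual : ∀ a : B, s * a = ∑ y ∈ T, y * tr G (c y * a) := fun a => by
    simp only [tr, Finset.mul_sum]
    rw [Finset.sum_comm, Finset.sum_eq_single (1 : G)]
    · have h1 := h 1
      rw [if_pos rfl] at h1
      rw [← h1, Finset.sum_mul]
      exact Finset.sum_congr rfl fun y _ => by simp only [one_smul]; ring
    · intro σ _ hσ
      have h1 := congrArg (σ • ·) (h σ⁻¹)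
      rw [if_neg (by simpa using hσ)] at h1
      simp only [Finset.smul_sum, smul_mul', smul_inv_smul, smul_zero] at h1
      simp only [smul_mul', ← mul_assoc]
      rw [← Finset.sum_mul, Finset.sum_congr rfl (fun y _ => mul_comm y (σ • c y)), h1, zero_mul]
    · simp
  have htr : ∀ (a y : B), D (y * tr G a) = tr G a • D y := fun a y => by
    obtain ⟨r, hr⟩ := hfix (tr G a) (fun g => smul_tr g a)
    rw [← hr, D.leibniz, D.map_algebraMap, smul_zero, zero_add]
  have hD : ∀ a : B, D (s * a) = ∑ y ∈ T, tr G (c y * a) • D y := fun a => by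
    rw [hdual, map_sum]
    exact Finset.sum_congr rfl fun y _ => htr _ y
  have hc : ∑ j ∈ T, c j * j = s := by
    have h1 := h 1
    rw [if_pos rfl] at h1
    simpa using h1
  have key : ∀ a : B, s • D (s * a) = 0 := fun a => by
    have e1 : ∑ j ∈ T, c j • D (s * (j * a)) = ∑ y ∈ T, (s * (c y * a)) • D y := by
      simp only [hD, Finset.smul_sum, smul_smul]
      rw [Finset.sum_comm]
      refine Finset.sum_congr rfl fun y _ => ?_
      rw [← Finset.sum_smul, mul_eq_sum_tr h (c y * a)]
      refine congrArg (fun z : B => z • D y) (Finset.sum_congr rfl fun j _ => ?_)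
      rw [mul_left_comm (c y) j a]
    have e2 : ∑ j ∈ T, c j • D (s * (j * a)) = s • D (s * a) + ∑ y ∈ T, (s * (c y * a)) • D y := by
      conv_rhs => rw [← hc, Finset.sum_smul, hc, ← Finset.sum_add_distrib]
      refine Finset.sum_congr rfl fun j _ => ?_
      rw [show s * (j * a) = j * (s * a) by ring, D.leibniz, smul_add, smul_smul, smul_smul,
        show c j * (s * a) = s * (c j * a) by ring]
    rw [e1] at e2
    exact add_eq_right.1 e2.symm
  have hone : s • D s = 0 := by simpa using key 1
  have := key b
  rw [D.leibniz, smul_add, smul_smul, smul_comm, hone, smul_zero, add_zero] at this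
  exact this

theorem isUnramifiedAt_of_inertia_aux {G : Type w} [Group G] [Fintype G] [MulSemiringAction G B]
    (hfix : ∀ b : B, (∀ g : G, g • b = b) → b ∈ Set.range (algebraMap R B)) (P : Ideal B) [hP : P.IsPrime]
    (hI : P.inertia G = ⊥) : Algebra.IsUnramifiedAt R P := by
  classical
  have hw : ∀ τ : G, ∃ w : B, τ ≠ 1 → w - τ • w ∉ P := by
    intro τ
    by_cases hτ : τ = 1
    · exact ⟨0, fun h => absurd hτ h⟩
    by_contra! hall
    have hmem : τ ∈ P.inertia G := fun a => by
      show τ • a - a ∈ P
      rw [← neg_sub]; exact neg_mem (hall a).2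
    rw [hI, Subgroup.mem_bot] at hmem
    exact hτ hmem
  choose w hw using hw
  let s := ∏ τ ∈ Finset.univ.erase (1 : G), (w τ - τ • w τ)
  have hsP : s ∉ P := fun h => by
    obtain ⟨τ, hτ, hmem⟩ := hP.prod_mem_iff.1 h
    exact hw τ (Finset.ne_of_mem_erase hτ) hmem
  have hs := sq_smul_D_eq_zero hfix (prod_mem_galoisIdeal w)
  have hall : ∀ x : Ω[B⁄R], (s * s) • x = 0 := fun x => by
    have hx : x ∈ Submodule.span B (Set.range (KaehlerDifferential.D R B)) := by
      rw [KaehlerDifferential.span_range_derivation]; trivial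
    induction hx using Submodule.span_induction with
    | mem x hx => obtain ⟨b, rfl⟩ := hx; exact hs b
    | zero => exact smul_zero _
    | add x y _ _ hx hy => rw [smul_add, hx, hy, add_zero]
    | smul a x _ hx => rw [smul_comm, hx, smul_zero]
  show (⟨P, hP⟩ : PrimeSpectrum B) ∈ Algebra.unramifiedLocus R B
  rw [Algebra.unramifiedLocus_eq_compl_support, Set.mem_compl_iff, Module.notMem_support_iff']
  exact fun x => ⟨s * s, fun h => (hP.mem_or_mem h).elim hsP hsP, hall x⟩

/-- The inertia group may act trivially instead of being trivial. -/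
theorem isUnramifiedAt_of_inertia {G : Type w} [Group G] [Finite G] [MulSemiringAction G B]
    (hfix : ∀ b : B, (∀ g : G, g • b = b) → b ∈ Set.range (algebraMap R B)) (P : Ideal B) [P.IsPrime]
    (hI : ∀ g ∈ P.inertia G, ∀ b : B, g • b = b) : Algebra.IsUnramifiedAt R P := by
  classical
  let H : Subgroup (RingAut B) := (MulSemiringAction.toRingAut G B).range
  haveI : Finite H := Finite.of_surjective (MulSemiringAction.toRingAut G B).rangeRestrict
    (MonoidHom.rangeRestrict_surjective _)
  haveI := Fintype.ofFinite H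
  refine isUnramifiedAt_of_inertia_aux (G := H) (fun b hb => hfix b fun g => hb ⟨_, g, rfl⟩) P ?_
  rw [Subgroup.eq_bot_iff_forall]
  rintro ⟨_, g, rfl⟩ hg
  refine Subtype.ext (RingEquiv.ext fun b => ?_)
  exact hI g (fun a => hg a) b

end Groth.Agent.PurityLib
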