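import Groth.Agent.PurityLib.Sections

/-!
Sections of étale lifts over `D(g) ∪ D(y)` along a nilpotent thickening.
-/

set_option autoImplicit false
set_option linter.style.haveILetI false
universe u

namespace Groth.Agent.PurityLib

variable {R : Type u} [CommRing R]

/-- `C[1/h]` for `h` in the base. -/
abbrev Lo (h : R) (C : Type u) [CommRing C] [Algebra R C] := Localization.Away (algebraMap R C h)

variable {C D : Type u} [CommRing C] [Algebra R C] [CommRing D] [Algebra R D]

theorem isUnit_lo (h : R) : IsUnit (algebraMap R (Lo h C) h) := isUnit_algebraMap h C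

/-- The extension of `f` to localizations at `h`. -/
noncomputable def mapAway (h : R) (f : D →ₐ[R] C) : Lo h D →ₐ[R] Lo h C :=
  IsLocalization.liftAlgHom (M := Submonoid.powers (algebraMap R D h))
    (f := (IsScalarTower.toAlgHom R C (Lo h C)).comp f) (by
      rintro ⟨_, k, rfl⟩
      show IsUnit (algebraMap C (Lo h C) (f (algebraMap R D h ^ k)))
      rw [map_pow, AlgHom.commutes, map_pow, ← IsScalarTower.algebraMap_apply]
      exact (isUnit_lo h).pow k)

theorem mapAway_algebraMap (h : R) (f : D →ₐ[R] C) (d : D) :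
    mapAway h f (algebraMap D (Lo h D) d) = algebraMap C (Lo h C) (f d) := by
  simp [mapAway]

/-- Localization at `h` maps to localization at a multiple. -/
noncomputable def resAway (h h' : R) (hdvd : h ∣ h') : Lo h C →ₐ[R] Lo h' C :=
  IsLocalization.liftAlgHom (M := Submonoid.powers (algebraMap R C h))
    (f := IsScalarTower.toAlgHom R C (Lo h' C)) (by
      rintro ⟨_, k, rfl⟩
      show IsUnit (algebraMap C (Lo h' C) (algebraMap R C h ^ k))
      rw [map_pow, ← IsScalarTower.algebraMap_apply]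
      exact (isUnit_of_dvd_unit (map_dvd _ hdvd) (isUnit_lo h')).pow k)

theorem resAway_algebraMap (h h' : R) (hdvd : h ∣ h') (c : C) :
    resAway h h' hdvd (algebraMap C (Lo h C) c) = algebraMap C (Lo h' C) c := by
  simp [resAway]

theorem mapAway_resAway (h h' : R) (hdvd : h ∣ h') (f : D →ₐ[R] C) (z : Lo h D) :
    mapAway h' f (resAway h h' hdvd z) = resAway h h' hdvd (mapAway h f z) := by
  refine AlgHom.congr_fun (IsLocalization.algHom_ext (Submonoid.powers (algebraMap R D h))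
    (f := (mapAway h' f).comp (resAway h h' hdvd)) (g := (resAway h h' hdvd).comp (mapAway h f))
    (AlgHom.ext fun d => ?_)) z
  show mapAway h' f (resAway h h' hdvd (algebraMap D (Lo h D) d)) = resAway h h' hdvd (mapAway h f (algebraMap D (Lo h D) d))
  rw [resAway_algebraMap, mapAway_algebraMap, mapAway_algebraMap, resAway_algebraMap]

theorem mapAway_surjective (h : R) (f : D →ₐ[R] C) (hf : ∀ c : C, ∃ (k : ℕ) (d : D), h ^ k • c = f d) :
    Function.Surjective (mapAway h f) := by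
  intro w
  obtain ⟨i, c, hc⟩ := exists_pow_smul_eq h C w
  obtain ⟨k, d, hd⟩ := hf c
  obtain ⟨u, hu⟩ := (isUnit_lo (C := D) h).pow (k + i)
  refine ⟨↑u⁻¹ * algebraMap D (Lo h D) d, pow_smul_injective h C (k + i) ?_⟩
  rw [← map_smul, Algebra.smul_def, map_pow, ← hu, Units.mul_inv_cancel_left, mapAway_algebraMap, ← hd, pow_add,
    mul_smul, hc, ← map_smul_alg]

theorem ker_mapAway_le (h : R) (t : R) (f : D →ₐ[R] C) (hker : ∀ d, f d = 0 → ∃ d', d = t • d') {z : Lo h D}
    (hz : mapAway h f z = 0) : ∃ w, z = t • w := by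
  obtain ⟨i, d, hd⟩ := exists_pow_smul_eq h D z
  have h0 : algebraMap C (Lo h C) (f d) = algebraMap C (Lo h C) 0 := by
    rw [map_zero, ← mapAway_algebraMap, ← hd, map_smul, hz, smul_zero]
  obtain ⟨e, he⟩ := exists_pow_smul_eq_of_map_eq h C h0
  rw [smul_zero, ← map_smul] at he
  obtain ⟨d', hd'⟩ := hker _ he
  obtain ⟨u, hu⟩ := (isUnit_lo (C := D) h).pow (e + i)
  refine ⟨↑u⁻¹ * algebraMap D (Lo h D) d', pow_smul_injective h D (e + i) ?_⟩
  rw [pow_add, mul_smul, hd, ← map_smul_alg, hd', map_smul_alg, ← pow_add, smul_comm]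
  congr 1
  rw [Algebra.smul_def, map_pow, ← hu, Units.mul_inv_cancel_left]

theorem isNilpotent_ker (h : R) (t : R) (n : ℕ) (hn : ∀ d : D, t ^ n • d = 0) (f : D →ₐ[R] C)
    (hker : ∀ d, f d = 0 → ∃ d', d = t • d') : IsNilpotent (RingHom.ker (mapAway h f : Lo h D →+* Lo h C)) := by
  refine ⟨n, ?_⟩
  have hle : RingHom.ker (mapAway h f : Lo h D →+* Lo h C) ≤ Ideal.span {algebraMap R (Lo h D) t} := fun z hz => by
    obtain ⟨w, rfl⟩ := ker_mapAway_le h t f hker hz
    rw [Algebra.smul_def]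
    exact Ideal.mul_mem_right _ _ (Ideal.mem_span_singleton_self _)
  refine le_bot_iff.1 ((Ideal.pow_right_mono hle n).trans ?_)
  rw [Ideal.span_singleton_pow, ← map_pow, Ideal.span_singleton_le_iff_mem, Ideal.mem_bot,
    IsScalarTower.algebraMap_apply R D (Lo h D)]
  exact (congrArg _ ((Algebra.algebraMap_eq_smul_one _).trans (hn 1))).trans (map_zero _)

/-- An element of an étale algebra over the base lifts to a section over `D(g) ∪ D(y)`. -/
theorem exists_lift_sec (g y t : R) (n : ℕ) (hn : ∀ d : D, t ^ n • d = 0) (f : D →ₐ[R] C)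
    (hker : ∀ d, f d = 0 → ∃ d', d = t • d') (hg : ∀ c : C, ∃ (k : ℕ) (d : D), g ^ k • c = f d)
    (hy : ∀ c : C, ∃ (k : ℕ) (d : D), y ^ k • c = f d) (Q : Type u) [CommRing Q] [Algebra R Q] [Algebra.Etale R Q]
    (φ : Q →ₐ[R] C) (x : Q) : ∃ z ∈ sec g y D, mapAway g f z = algebraMap C (Lo g C) (φ x) := by
  have hex : ∀ h : R, (∀ c : C, ∃ (k : ℕ) (d : D), h ^ k • c = f d) →
      ∃ ψ : Q →ₐ[R] Lo h D, ∀ q, mapAway h f (ψ q) = algebraMap C (Lo h C) (φ q) := fun h hh =>
    ⟨Algebra.FormallySmooth.liftOfSurjective ((IsScalarTower.toAlgHom R C (Lo h C)).comp φ) (mapAway h f)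
      (mapAway_surjective h f hh) (isNilpotent_ker h t n hn f hker), fun q =>
      Algebra.FormallySmooth.liftOfSurjective_apply ((IsScalarTower.toAlgHom R C (Lo h C)).comp φ) (mapAway h f)
        (mapAway_surjective h f hh) (isNilpotent_ker h t n hn f hker) q⟩
  obtain ⟨ψg, hψg⟩ := hex g hg
  obtain ⟨ψy, hψy⟩ := hex y hy
  have heq : (resAway g (g * y) ⟨y, rfl⟩).comp ψg = (resAway y (g * y) ⟨g, mul_comm _ _⟩).comp ψy := by
    refine Algebra.FormallyUnramified.ext' (mapAway (g * y) f : Lo (g * y) D →+* Lo (g * y) C)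
      (isNilpotent_ker (g * y) t n hn f hker) _ _ fun q => ?_
    show mapAway (g * y) f (resAway g (g * y) ⟨y, rfl⟩ (ψg q)) =
      mapAway (g * y) f (resAway y (g * y) ⟨g, mul_comm _ _⟩ (ψy q))
    rw [mapAway_resAway, mapAway_resAway, hψg, hψy, resAway_algebraMap, resAway_algebraMap]
  refine ⟨ψg x, ?_, hψg x⟩
  obtain ⟨i, d₁, hd₁⟩ := exists_pow_smul_eq g D (ψg x)
  obtain ⟨j, d₂, hd₂⟩ := exists_pow_smul_eq y D (ψy x)
  have e1 := congrArg (resAway g (g * y) ⟨y, rfl⟩) hd₁
  have e2 := congrArg (resAway y (g * y) ⟨g, mul_comm _ _⟩) hd₂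
  have heq' : resAway g (g * y) ⟨y, rfl⟩ (ψg x) = resAway y (g * y) ⟨g, mul_comm _ _⟩ (ψy x) := AlgHom.congr_fun heq x
  rw [map_smul, resAway_algebraMap] at e1 e2
  rw [← heq'] at e2
  obtain ⟨l, hl⟩ := exists_pow_smul_eq_of_map_eq (g * y) D (b := y ^ j • d₁) (b' := g ^ i • d₂)
    (by rw [map_smul_alg, map_smul_alg, ← e1, ← e2, smul_comm])
  refine ⟨l + j, y ^ l • d₂, pow_smul_injective g D (l + i) ?_⟩
  rw [← map_smul_alg, smul_comm, pow_add g, mul_smul, hd₁, ← map_smul_alg, ← map_smul_alg]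
  congr 1
  simp only [smul_smul] at hl ⊢
  convert hl using 2 <;> ring

end Groth.Agent.PurityLib
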