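import Mathlib

/-!
Freeness and étaleness of a finite algebra from its reduction modulo a nonzerodivisor.
-/

set_option autoImplicit false
set_option linter.style.haveILetI false
universe u
open TensorProduct

attribute [local instance] Algebra.TensorProduct.rightAlgebra

namespace Groth.Agent.PurityLib

variable {R : Type u} [CommRing R] {A : Type u} [CommRing A] [Algebra R A]

/-- `(R/I) ⊗ A ≃ A/IA`. -/
noncomputable def quotTensorAlgEquiv (I : Ideal R) :
    (R ⧸ I) ⊗[R] A ≃ₐ[R ⧸ I] A ⧸ I.map (algebraMap R A) :=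
  AlgEquiv.ofRingEquiv
    (f := (Algebra.TensorProduct.comm R (R ⧸ I) A).toRingEquiv.trans
      (Algebra.TensorProduct.quotIdealMapEquivTensorQuot A I).symm.toRingEquiv)
    (fun a => by
      obtain ⟨a, rfl⟩ := Ideal.Quotient.mk_surjective a
      rw [show (Ideal.Quotient.mk I a : R ⧸ I) = algebraMap R (R ⧸ I) a from rfl,
        ← IsScalarTower.algebraMap_apply, ← IsScalarTower.algebraMap_apply]
      simp
      rw [← Algebra.algebraMap_eq_smul_one]
      rfl)

variable [IsNoetherianRing R] [IsLocalRing R] [Module.Finite R A] {t : R}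

theorem free_of_quotient (ht : t ∈ IsLocalRing.maximalIdeal R) (htA : ∀ a : A, t • a = 0 → a = 0)
    [Module.Free (R ⧸ Ideal.span {t}) (A ⧸ (Ideal.span {t}).map (algebraMap R A))] : Module.Free R A := by
  classical
  haveI : Nontrivial (R ⧸ Ideal.span {t}) :=
    Ideal.Quotient.nontrivial_iff.2 fun h => (IsLocalRing.maximalIdeal.isMaximal R).ne_top
      (top_le_iff.1 (h ▸ Ideal.span_le.2 (Set.singleton_subset_iff.2 ht)))
  let b := Module.Free.chooseBasis (R ⧸ Ideal.span {t}) (A ⧸ (Ideal.span {t}).map (algebraMap R A))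
  haveI : Module.Finite (R ⧸ Ideal.span {t}) (A ⧸ (Ideal.span {t}).map (algebraMap R A)) :=
    Module.Finite.of_restrictScalars_finite R _ _
  choose a ha using fun i => Ideal.Quotient.mk_surjective (b i)
  let w : (Module.Free.ChooseBasisIndex (R ⧸ Ideal.span {t}) (A ⧸ (Ideal.span {t}).map (algebraMap R A)) → R) →ₗ[R] A :=
    Fintype.linearCombination R a
  have hmk : ∀ x, Ideal.Quotient.mk ((Ideal.span {t}).map (algebraMap R A)) (w x) =
      ∑ i, (Ideal.Quotient.mk (Ideal.span {t}) (x i)) • b i := fun x => by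
    rw [Fintype.linearCombination_apply, map_sum]
    exact Finset.sum_congr rfl fun i _ => by
      rw [Algebra.smul_def, map_mul, ha, Algebra.smul_def]; rfl
  have hmem : ∀ z ∈ (Ideal.span {t}).map (algebraMap R A), ∃ z', z = t • z' := fun z hz => by
    rw [Ideal.map_span, Set.image_singleton, Ideal.mem_span_singleton'] at hz
    obtain ⟨z', rfl⟩ := hz
    exact ⟨z', by rw [Algebra.smul_def, mul_comm]⟩
  have hjac : Ideal.span {t} ≤ Ideal.jacobson (⊥ : Ideal R) :=
    (Ideal.span_le.2 (Set.singleton_subset_iff.2 ht)).trans (IsLocalRing.maximalIdeal_le_jacobson _)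
  have hsurj : Function.Surjective w := by
    rw [← LinearMap.range_eq_top, eq_top_iff]
    refine Submodule.le_of_le_smul_of_le_jacobson_bot Module.Finite.fg_top hjac fun x _ => ?_
    choose c hc using fun i => Ideal.Quotient.mk_surjective (b.repr (Ideal.Quotient.mk _ x) i)
    obtain ⟨z, hz⟩ := hmem (x - w c) (by
      rw [← Ideal.Quotient.eq, hmk]
      simp only [hc, b.sum_repr])
    rw [← sub_add_cancel x (w c), hz, add_comm]
    exact Submodule.add_mem_sup ⟨c, rfl⟩ (Submodule.smul_mem_smul (Ideal.mem_span_singleton_self t) Submodule.mem_top)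
  have hker : LinearMap.ker w = ⊥ := by
    refine Submodule.eq_bot_of_le_smul_of_le_jacobson_bot (Ideal.span {t}) _ (IsNoetherian.noetherian _) (fun x hx => ?_) hjac
    have h0 : ∀ i, Ideal.Quotient.mk (Ideal.span {t}) (x i) = 0 := by
      have h := hmk x
      rw [LinearMap.mem_ker.1 hx, map_zero] at h
      exact Fintype.linearIndependent_iff.1 b.linearIndependent _ h.symm
    choose x' hx' using fun i => Ideal.mem_span_singleton'.1 (Ideal.Quotient.eq_zero_iff_mem.1 (h0 i))
    have hxe : x = t • x' := funext fun i => by rw [Pi.smul_apply, smul_eq_mul, ← hx', mul_comm]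
    rw [hxe]
    exact Submodule.smul_mem_smul (Ideal.mem_span_singleton_self t)
      (LinearMap.mem_ker.2 (htA _ (by rw [← map_smul, ← hxe]; exact hx)))
  exact Module.Free.of_equiv (LinearEquiv.ofBijective w ⟨LinearMap.ker_eq_bot.1 hker, hsurj⟩)

theorem etale_of_quotient (ht : t ∈ IsLocalRing.maximalIdeal R) [Module.Free R A]
    [Algebra.Etale (R ⧸ Ideal.span {t}) (A ⧸ (Ideal.span {t}).map (algebraMap R A))] : Algebra.Etale R A := by
  haveI : Algebra.Etale (R ⧸ Ideal.span {t}) ((R ⧸ Ideal.span {t}) ⊗[R] A) :=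
    Algebra.Etale.of_equiv (quotTensorAlgEquiv (A := A) (Ideal.span {t})).symm
  haveI : Algebra.FinitePresentation R A := Algebra.FinitePresentation.of_finiteType.1 inferInstance
  haveI : Module.Finite R Ω[A⁄R] := Module.Finite.trans A _
  have hsub : Subsingleton ((R ⧸ Ideal.span {t}) ⊗[R] Ω[A⁄R]) :=
    (KaehlerDifferential.tensorKaehlerEquivBase R (R ⧸ Ideal.span {t}) A ((R ⧸ Ideal.span {t}) ⊗[R] A)).toEquiv.subsingleton
  have hsub' : Subsingleton (Ω[A⁄R] ⧸ (Ideal.span {t} • ⊤ : Submodule R Ω[A⁄R])) :=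
    (quotTensorEquivQuotSMul Ω[A⁄R] (Ideal.span {t})).symm.toEquiv.subsingleton
  rw [Submodule.Quotient.subsingleton_iff] at hsub'
  have h0 : (⊤ : Submodule R Ω[A⁄R]) = ⊥ :=
    Submodule.eq_bot_of_le_smul_of_le_jacobson_bot (Ideal.span {t}) _ Module.Finite.fg_top hsub'.ge
      ((Ideal.span_le.2 (Set.singleton_subset_iff.2 ht)).trans (IsLocalRing.maximalIdeal_le_jacobson _))
  haveI : Algebra.FormallyUnramified R A :=
    ⟨subsingleton_iff.2 fun x y => by
      have hx : x ∈ (⊥ : Submodule R Ω[A⁄R]) := h0 ▸ Submodule.mem_top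
      have hy : y ∈ (⊥ : Submodule R Ω[A⁄R]) := h0 ▸ Submodule.mem_top
      rw [Submodule.mem_bot] at hx hy; rw [hx, hy]⟩
  exact Algebra.Etale.of_formallyUnramified_of_flat

end Groth.Agent.PurityLib
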