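import Groth.Agent.PurityLib.Lift
import Groth.Agent.PurityLib.QuotLift

/-!
Algebras étale off the closed point, and their reductions.
-/

set_option autoImplicit false
set_option linter.style.haveILetI false
universe u
open TensorProduct

namespace Groth.Agent.PurityLib

variable {R : Type u} [CommRing R] {A : Type u} [CommRing A] [Algebra R A]

/-- `A` is étale over `R` off the closed point. -/
def EtaleOff [IsLocalRing R] (A : Type u) [CommRing A] [Algebra R A] : Prop :=
  ∀ h ∈ IsLocalRing.maximalIdeal R, Algebra.Etale R (Lo h A)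

theorem isLocalizedModule_lo (h : R) :
    IsLocalizedModule (Submonoid.powers h) (IsScalarTower.toAlgHom R A (Lo h A)).toLinearMap := by
  rw [isLocalizedModule_iff_isLocalization, Algebra.algebraMapSubmonoid_powers]
  infer_instance

theorem flat_localizedModule_of_etale (h : R) [Algebra.Etale R (Lo h A)] : Module.Flat R (LocalizedModule.Away h A) := by
  haveI := isLocalizedModule_lo (A := A) h
  exact Module.Flat.of_linearEquiv (IsLocalizedModule.linearEquiv (Submonoid.powers h)
    (LocalizedModule.mkLinearMap (Submonoid.powers h) A) (IsScalarTower.toAlgHom R A (Lo h A)).toLinearMap)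

theorem flatOff_of_etaleOff [IsLocalRing R] (hA : EtaleOff (R := R) A) : FlatOff (R := R) A := fun h hh => by
  haveI := hA h hh
  exact flat_localizedModule_of_etale h

variable (I : Ideal R)

theorem quotTensorAlgEquiv_tmul (a : A) :
    quotTensorAlgEquiv I ((1 : R ⧸ I) ⊗ₜ[R] a) = Ideal.Quotient.mk (I.map (algebraMap R A)) a := by
  simp [quotTensorAlgEquiv]
  rw [AlgEquiv.symm_apply_eq]
  simp

/-- Reduction commutes with localization. -/
theorem etale_lo_quotient (r : R) [Algebra.Etale R (Lo r A)] :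
    Algebra.Etale (R ⧸ I) (Lo (Ideal.Quotient.mk I r) (A ⧸ I.map (algebraMap R A))) := by
  let Bq := A ⧸ I.map (algebraMap R A)
  let r' := Ideal.Quotient.mk I r
  let T := (R ⧸ I) ⊗[R] Lo r A
  let ψ : Lo r A →ₐ[R] Lo r' Bq :=
    IsLocalization.liftAlgHom (M := Submonoid.powers (algebraMap R A r))
      (f := (IsScalarTower.toAlgHom R Bq (Lo r' Bq)).comp (Ideal.Quotient.mkₐ R (I.map (algebraMap R A)))) (by
        rintro ⟨_, k, rfl⟩
        show IsUnit (algebraMap Bq (Lo r' Bq) (Ideal.Quotient.mk _ (algebraMap R A r ^ k)))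
        rw [map_pow, map_pow]
        exact (IsLocalization.Away.algebraMap_isUnit (algebraMap (R ⧸ I) Bq r')).pow k)
  have hψ : ∀ a, ψ (algebraMap A (Lo r A) a) = algebraMap Bq (Lo r' Bq) (Ideal.Quotient.mk _ a) := fun a => by
    simp [ψ]
    rfl
  let fwd : T →ₐ[R ⧸ I] Lo r' Bq := Algebra.TensorProduct.lift (Algebra.ofId (R ⧸ I) _) ψ fun _ _ => Commute.all _ _
  let f : Bq →ₐ[R ⧸ I] T :=
    (Algebra.TensorProduct.map (AlgHom.id (R ⧸ I) (R ⧸ I)) (IsScalarTower.toAlgHom R A (Lo r A))).comp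
      (quotTensorAlgEquiv (A := A) I).symm.toAlgHom
  have hf : ∀ a, f (Ideal.Quotient.mk _ a) = (1 : R ⧸ I) ⊗ₜ[R] algebraMap A (Lo r A) a := fun a => by
    rw [← quotTensorAlgEquiv_tmul I a]
    simp [f]
  let bwd : Lo r' Bq →ₐ[R ⧸ I] T :=
    IsLocalization.liftAlgHom (M := Submonoid.powers (algebraMap (R ⧸ I) Bq r')) (f := f) (by
      rintro ⟨_, k, rfl⟩
      show IsUnit (f (algebraMap (R ⧸ I) Bq r' ^ k))
      rw [map_pow]
      refine IsUnit.pow k ?_
      rw [show algebraMap (R ⧸ I) Bq r' = Ideal.Quotient.mk _ (algebraMap R A r) from rfl, hf]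
      exact (IsLocalization.Away.algebraMap_isUnit (algebraMap R A r) (S := Lo r A)).map
        (Algebra.TensorProduct.includeRight : Lo r A →ₐ[R] T))
  have hbwd : ∀ a, bwd (algebraMap Bq (Lo r' Bq) (Ideal.Quotient.mk _ a)) = (1 : R ⧸ I) ⊗ₜ[R] algebraMap A (Lo r A) a :=
    fun a => (IsLocalization.lift_eq _ _).trans (hf a)
  let e : T ≃ₐ[R ⧸ I] Lo r' Bq := AlgEquiv.ofAlgHom fwd bwd
    (IsLocalization.algHom_ext (Submonoid.powers (algebraMap (R ⧸ I) Bq r')) (AlgHom.ext fun b => by
      obtain ⟨a, rfl⟩ := Ideal.Quotient.mk_surjective b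
      show fwd (bwd (algebraMap Bq (Lo r' Bq) (Ideal.Quotient.mk _ a))) = algebraMap Bq (Lo r' Bq) (Ideal.Quotient.mk _ a)
      rw [hbwd]
      exact (Algebra.TensorProduct.lift_tmul _ _ _ _ _).trans (by rw [map_one, one_mul, hψ])))
    (Algebra.TensorProduct.ext (Subsingleton.elim _ _)
      (IsLocalization.algHom_ext (Submonoid.powers (algebraMap R A r)) (AlgHom.ext fun a => by
        show bwd (fwd ((1 : R ⧸ I) ⊗ₜ[R] algebraMap A (Lo r A) a)) = (1 : R ⧸ I) ⊗ₜ[R] algebraMap A (Lo r A) a
        rw [show fwd ((1 : R ⧸ I) ⊗ₜ[R] algebraMap A (Lo r A) a) = algebraMap Bq (Lo r' Bq) (Ideal.Quotient.mk _ a) from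
          (Algebra.TensorProduct.lift_tmul _ _ _ _ _).trans (by rw [map_one, one_mul, hψ])]
        exact hbwd a)))
  exact Algebra.Etale.of_equiv e

/-- Passing to sections does not change localizations. -/
theorem etale_lo_sec {g y : R} (hgy : RegPair R g y) (hg : ∀ a : A, g • a = 0 → a = 0) (r : R)
    [Algebra.Etale R (Lo r A)] : Algebra.Etale R (Lo r (sec g y A)) := by
  haveI := flat_localizedModule_of_etale (A := A) r
  have hker : ∀ d : A, toSec g y A d = 0 → ∃ d', d = (0 : R) • d' := fun d hd =>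
    ⟨0, by rw [smul_zero]; exact toSec_injective g y A hg (hd.trans (map_zero _).symm)⟩
  refine Algebra.Etale.of_equiv (AlgEquiv.ofBijective (mapAway r (toSec g y A)) ⟨?_, ?_⟩)
  · refine (injective_iff_map_eq_zero _).2 fun z hz => ?_
    obtain ⟨w, rfl⟩ := ker_mapAway_le r 0 _ hker hz
    rw [zero_smul]
  · exact mapAway_surjective r _ fun c => exists_pow_smul_mem (B := A) hgy r c

end Groth.Agent.PurityLib
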