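import Groth.Agent.Unibranch.Normal
import Groth.Agent.FlatSecLib.DepthTwo
import Groth.Agent.PurityLib.Off

/-!
Divisibility in a tensor product one factor of which is étale near a prime.
-/

set_option autoImplicit false
set_option linter.style.haveILetI false
universe u
open TensorProduct

namespace Groth.Agent.PurityLib

theorem dvd_of_locally {R : Type u} [CommRing R] [IsDomain R] [UniqueFactorizationMonoid R] {a r : R} (hr : r ≠ 0)
    (h : ∀ π : R, Prime π → ∃ s, ¬ π ∣ s ∧ r ∣ s * a) : r ∣ a := by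
  obtain ⟨r', a', c', hrel, hr', ha'⟩ := UniqueFactorizationMonoid.exists_reduced_factors r hr a
  by_cases hu : IsUnit r'
  · rw [← hr', ← ha']
    exact mul_dvd_mul dvd_rfl hu.dvd
  · exfalso
    have hr'0 : r' ≠ 0 := fun h0 => hr (by rw [← hr', h0, mul_zero])
    obtain ⟨π, hπ, hπr⟩ := WfDvdMonoid.exists_irreducible_factor hu hr'0
    have hπp : Prime π := UniqueFactorizationMonoid.irreducible_iff_prime.1 hπ
    obtain ⟨s, hs, hdvd⟩ := h π hπp
    have hc0 : c' ≠ 0 := fun h0 => hr (by rw [← hr', h0, zero_mul])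
    rw [← hr', ← ha', mul_left_comm, mul_dvd_mul_iff_left hc0] at hdvd
    exact (hπp.dvd_or_dvd (hπr.trans hdvd)).elim hs fun hπa => hπp.not_unit (hrel hπr hπa)

variable {R : Type u} [CommRing R] [IsDomain R] {B : Type u} [CommRing B] [Algebra R B] [IsDomain B]
  [IsIntegrallyClosed B] [Module.Flat R B] {E : Type u} [CommRing E] [Algebra R E]

/-- At a prime of `B ⊗ E` over which `E` is étale, an element integral-over-`R` times `r` is divisible by `r`. -/
theorem exists_notMem_dvd (h : R) [Algebra.Etale R (Lo h E)] (q : Ideal (B ⊗[R] E)) [q.IsPrime]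
    (hq : algebraMap R (B ⊗[R] E) h ∉ q) {r : R} (hr : r ≠ 0) (t : B ⊗[R] E) (P : Polynomial R) (hP : P.Monic)
    (ht : Polynomial.aeval t (P.scaleRoots r) = 0) :
    ∃ s ∉ q, ∃ w, s * t = algebraMap R (B ⊗[R] E) r * w := by
  classical
  let T := B ⊗[R] E
  let L := B ⊗[R] Lo h E
  let Tq := Localization.AtPrime q
  let toTq : T →ₐ[R] Tq := IsScalarTower.toAlgHom R T Tq
  let fE : E →ₐ[R] Tq := toTq.comp Algebra.TensorProduct.includeRight
  have hunit : ∀ y : Submonoid.powers (algebraMap R E h), IsUnit (fE y) := by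
    rintro ⟨_, n, rfl⟩
    rw [map_pow, AlgHom.commutes]
    refine IsUnit.pow n ?_
    rw [IsScalarTower.algebraMap_apply R T Tq]
    exact IsLocalization.map_units Tq (⟨_, hq⟩ : q.primeCompl)
  let ψ : L →ₐ[R] Tq := Algebra.TensorProduct.lift (toTq.comp Algebra.TensorProduct.includeLeft)
    (IsLocalization.liftAlgHom (M := Submonoid.powers (algebraMap R E h)) (f := fE) hunit) fun _ _ => .all _ _
  let ι : T →ₐ[R] L := Algebra.TensorProduct.map (AlgHom.id R B) (IsScalarTower.toAlgHom R E (Lo h E))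
  have hψι : ψ.comp ι = toTq := Algebra.TensorProduct.ext
    (AlgHom.ext fun b => by
      show ψ (b ⊗ₜ[R] (IsScalarTower.toAlgHom R E (Lo h E) 1)) = toTq (b ⊗ₜ[R] (1 : E))
      rw [map_one, Algebra.TensorProduct.lift_tmul, map_one, mul_one]
      rfl)
    (AlgHom.ext fun e => by
      show ψ ((1 : B) ⊗ₜ[R] algebraMap E (Lo h E) e) = toTq ((1 : B) ⊗ₜ[R] e)
      rw [Algebra.TensorProduct.lift_tmul, map_one, one_mul]
      exact IsLocalization.lift_eq (M := Submonoid.powers (algebraMap R E h)) (g := fE.toRingHom) hunit e)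
  let Q : Ideal L := (IsLocalRing.maximalIdeal Tq).comap ψ
  haveI : Q.IsPrime := Ideal.comap_isPrime _ _
  obtain ⟨hdom, hic⟩ := Unibranch.isDomain_isIntegrallyClosed_of_etale (A := B) (B := L) Q
  let LQ := Localization.AtPrime Q
  haveI := hdom
  haveI := hic
  haveI : Module.Flat R L := Module.Flat.trans R B L
  haveI : Module.Flat L LQ := IsLocalization.flat _ Q.primeCompl
  haveI : Module.Flat R LQ := Module.Flat.trans R L LQ
  have hrLQ : algebraMap R LQ r ≠ 0 := fun h0 =>
    one_ne_zero (FlatSecLib.regular_of_flat (B := LQ) (mem_nonZeroDivisors_of_ne_zero hr) (b := 1) (by rw [h0, zero_mul]))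
  let K := FractionRing LQ
  let f : T →ₐ[R] LQ := (IsScalarTower.toAlgHom R L LQ).comp ι
  have hrK : algebraMap R K r ≠ 0 := by
    rw [IsScalarTower.algebraMap_apply R LQ K]
    exact (map_ne_zero_iff _ (IsFractionRing.injective LQ K)).2 hrLQ
  let u : K := algebraMap LQ K (f t) / algebraMap R K r
  have hu : IsIntegral R u := by
    refine ⟨P, hP, ?_⟩
    have h1 := congrArg ((IsScalarTower.toAlgHom R LQ K).comp f) ht
    rw [← Polynomial.aeval_algHom_apply, map_zero, Polynomial.aeval_def] at h1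
    have h2 : ((IsScalarTower.toAlgHom R LQ K).comp f) t = algebraMap R K r * u :=
      (mul_div_cancel₀ _ hrK).symm
    rw [h2, Polynomial.scaleRoots_eval₂_mul] at h1
    exact (mul_eq_zero.1 h1).resolve_left (pow_ne_zero _ hrK)
  obtain ⟨v, hv⟩ := (IsIntegrallyClosed.isIntegral_iff (R := LQ) (x := u)).1 hu.tower_top
  have hft : f t = algebraMap R LQ r * v := IsFractionRing.injective LQ K (by
    rw [map_mul, hv, ← IsScalarTower.algebraMap_apply]
    exact (mul_div_cancel₀ _ hrK).symm)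
  obtain ⟨l, s₀, rfl⟩ := IsLocalization.exists_mk'_eq Q.primeCompl v
  have h3 : algebraMap L LQ ((s₀ : L) * ι t) = algebraMap L LQ (algebraMap R L r * l) := by
    rw [map_mul, map_mul, ← IsScalarTower.algebraMap_apply, show algebraMap L LQ (ι t) = f t from rfl, hft,
      mul_left_comm, IsLocalization.mk'_spec']
  obtain ⟨c, hc⟩ := (IsLocalization.eq_iff_exists Q.primeCompl LQ).1 h3
  have hcs : IsUnit (ψ ((c : L) * s₀)) := by
    by_contra hnu
    exact (Q.primeCompl.mul_mem c.2 s₀.2) ((IsLocalRing.mem_maximalIdeal _).2 hnu)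
  have h4 := congrArg ψ hc
  rw [← mul_assoc, map_mul, show ψ (ι t) = toTq t from AlgHom.congr_fun hψι t, mul_left_comm, map_mul ψ (algebraMap R L r),
    AlgHom.commutes] at h4
  have h5 : toTq t = algebraMap R Tq r * (↑hcs.unit⁻¹ * ψ ((c : L) * l)) := hcs.mul_left_cancel (by
    rw [h4, mul_left_comm (ψ _) (algebraMap R Tq r), ← mul_assoc (ψ _) (↑hcs.unit⁻¹ : Tq), IsUnit.mul_val_inv, one_mul])
  obtain ⟨w, s₁, hw⟩ := IsLocalization.exists_mk'_eq q.primeCompl (↑hcs.unit⁻¹ * ψ ((c : L) * l))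
  have h6 : algebraMap T Tq ((s₁ : T) * t) = algebraMap T Tq (algebraMap R T r * w) := by
    rw [map_mul, map_mul, ← IsScalarTower.algebraMap_apply, show algebraMap T Tq t = toTq t from rfl, h5, ← hw,
      mul_left_comm, IsLocalization.mk'_spec']
  obtain ⟨c₁, hc₁⟩ := (IsLocalization.eq_iff_exists q.primeCompl Tq).1 h6
  exact ⟨c₁ * s₁, q.primeCompl.mul_mem c₁.2 s₁.2, c₁ * w, by rw [mul_assoc, hc₁, mul_left_comm]⟩

end Groth.Agent.PurityLib
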