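import Groth.Agent.PurityLib.Punctured

/-!
Sections of finite étale covers of punctured spectra are finite, and the cover is the pullback of
their spectrum.
-/

set_option autoImplicit false
set_option linter.style.haveILetI false
universe u
open AlgebraicGeometry CategoryTheory CategoryTheory.Limits IsLocalRing TopologicalSpace Opposite

namespace Groth.Agent.PurityLib

theorem sections_finite_isPullback {A : Type u} [CommRing A] [IsLocalRing A] [IsNoetherianRing A]
    {t y : A} (ht : t ∈ maximalIdeal A) (hy : y ∈ maximalIdeal A) (hty : RegPair A t y)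
    (U : (Spec (CommRingCat.of A)).Opens) (hU : (U : Set (Spec (CommRingCat.of A))) = {closedPoint A}ᶜ)
    {Y : Scheme.{u}} (f : Y ⟶ U.toScheme) [IsFinite f] [Etale f] :
    ((Scheme.ΓSpecIso (CommRingCat.of A)).inv ≫ (f ≫ U.ι).appTop).hom.Finite ∧
      IsPullback Y.toSpecΓ f (Spec.map ((Scheme.ΓSpecIso (CommRingCat.of A)).inv ≫ (f ≫ U.ι).appTop)) U.ι := by
  haveI : CompactSpace U.toScheme := isCompact_iff_compactSpace.1 (NoetherianSpace.isCompact (U : Set (Spec (CommRingCat.of A))))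
  haveI := Scheme.IsQuasiAffine.of_isImmersion U.ι
  haveI : Y.IsQuasiAffine := Scheme.IsQuasiAffine.of_isAffineHom f
  let g : Y ⟶ Spec (CommRingCat.of A) := f ≫ U.ι
  haveI : Etale g := inferInstanceAs (Etale (f ≫ U.ι))
  let ψ : CommRingCat.of A ⟶ Γ(Y, ⊤) := (Scheme.ΓSpecIso (CommRingCat.of A)).inv ≫ g.appTop
  let φ : A →+* Γ(Y, ⊤) := ψ.hom
  have hg : g = Y.toSpecΓ ≫ Spec.map ψ := by
    rw [Spec.map_comp, ← Scheme.toSpecΓ_naturality_assoc, toSpecΓ_SpecMap_ΓSpecIso_inv, Category.comp_id]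
  have hmemU : ∀ h ∈ maximalIdeal A, PrimeSpectrum.basicOpen h ≤ U := fun h hh P hP => by
    show P ∈ (U : Set (Spec (CommRingCat.of A)))
    rw [hU]
    exact fun he => hP (by rw [Set.mem_singleton_iff.1 he]; exact hh)
  have hexU : ∀ P : PrimeSpectrum A, P ∈ U → ∃ h ∈ maximalIdeal A, h ∉ P.asIdeal := fun P hP => by
    by_contra hne
    push Not at hne
    have hP' : P ∈ (U : Set (Spec (CommRingCat.of A))) := hP
    rw [hU] at hP'
    exact hP' (PrimeSpectrum.ext ((IsLocalRing.maximalIdeal.isMaximal A).eq_of_le P.2.ne_top hne).symm)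
  let D : A → (Spec (CommRingCat.of A)).Opens := fun h =>
    (Spec (CommRingCat.of A)).basicOpen ((Scheme.ΓSpecIso (CommRingCat.of A)).inv h)
  have hD : ∀ h, D h = PrimeSpectrum.basicOpen h := fun h => basicOpen_eq_of_affine (R := CommRingCat.of A) h
  have hV : ∀ h, g ⁻¹ᵁ D h = Y.basicOpen (φ h) := fun h => Scheme.preimage_basicOpen_top g _
  have hDaff : ∀ h, IsAffineOpen (D h) := fun h => (isAffineOpen_top _).basicOpen _
  have hWaff : ∀ h ∈ maximalIdeal A, IsAffineOpen (U.ι ⁻¹ᵁ D h) := fun h hh =>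
    (hDaff h).preimage_of_isOpenImmersion U.ι (by rw [U.opensRange_ι, hD]; exact hmemU h hh)
  have hVaff : ∀ h ∈ maximalIdeal A, IsAffineOpen (Y.basicOpen (φ h)) := fun h hh =>
    hV h ▸ (hWaff h hh).preimage f
  have het : ∀ h ∈ maximalIdeal A, (structMap φ (Y.basicOpen (φ h))).Etale := fun h hh => by
    have h1 := HasRingHomProperty.appLE @Etale g inferInstance ⟨⊤, isAffineOpen_top _⟩ ⟨_, hVaff h hh⟩ le_top
    have h2 := RingHom.Etale.respectsIso.2 _ (Scheme.ΓSpecIso (CommRingCat.of A)).symm.commRingCatIsoToRingEquiv h1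
    exact h2
  have hcov : ∀ x : Y, ∃ h ∈ maximalIdeal A, x ∈ Y.basicOpen (φ h) := fun x => by
    obtain ⟨h, hh, hh'⟩ := hexU (g x) (f x).2
    refine ⟨h, hh, hV h ▸ ?_⟩
    show g x ∈ D h
    rw [hD]
    exact hh'
  letI : Algebra A Γ(Y, ⊤) := φ.toAlgebra
  have hB : RegPair Γ(Y, ⊤) t y := regPair_sections φ hty het hcov
  have hoff : EtaleOff (R := A) Γ(Y, ⊤) := fun h hh => etale_lo φ h (het h hh)
  have hfg : ∀ h ∈ maximalIdeal A, ∃ M : Submodule A Γ(Y, ⊤), M.FG ∧ ∀ b, ∃ i : ℕ, h ^ i • b ∈ M := fun h hh => by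
    haveI : IsIso (U.ι.app (D h)) :=
      Scheme.Hom.isIso_app U.ι (D h) (by rw [U.opensRange_ι, hD]; exact hmemU h hh)
    have hfin : (g.app (D h)).hom.Finite := by
      show ((f ≫ U.ι).app (D h)).hom.Finite
      rw [Scheme.Hom.comp_app]
      exact (f.finite_app _ (hWaff h hh)).comp
        (RingHom.Finite.of_surjective _ (ConcreteCategory.bijective_of_isIso (U.ι.app (D h))).2)
    haveI : IsLocalization.Away (algebraMap A Γ(Y, ⊤) h) Γ(Y, Y.basicOpen (φ h)) :=
      isLocalization_basicOpen_of_qcqs isCompact_univ isQuasiSeparated_univ (φ h)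
    haveI := (isAffineOpen_top (Spec (CommRingCat.of A))).isLocalization_basicOpen
      ((Scheme.ΓSpecIso (CommRingCat.of A)).inv h)
    refine exists_fg_pow_smul_mem (N := Γ(Y, Y.basicOpen (φ h))) h
      (((Spec (CommRingCat.of A)).presheaf.map (homOfLE le_top : D h ⟶ ⊤).op).hom.comp
        (Scheme.ΓSpecIso (CommRingCat.of A)).inv.hom) (fun c => ?_)
      (g.appLE (D h) (Y.basicOpen (φ h)) (hV h).ge).hom ?_ (fun a => ?_)
    · obtain ⟨n, a, ha⟩ := IsLocalization.Away.surj ((Scheme.ΓSpecIso (CommRingCat.of A)).inv h) c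
      refine ⟨n, (Scheme.ΓSpecIso (CommRingCat.of A)).hom a, ha.trans (congrArg _ ?_)⟩
      exact (Iso.hom_inv_id_apply (Scheme.ΓSpecIso (CommRingCat.of A)) a).symm
    · rw [Scheme.Hom.appLE, CommRingCat.hom_comp]
      have : IsIso (Y.presheaf.map (homOfLE (hV h).ge).op) := by
        rw [show (homOfLE (hV h).ge) = eqToHom (hV h).symm from Subsingleton.elim _ _]
        infer_instance
      exact (RingHom.Finite.of_surjective _ (ConcreteCategory.bijective_of_isIso _).2).comp hfin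
    · show ((Scheme.ΓSpecIso (CommRingCat.of A)).inv ≫ (Spec (CommRingCat.of A)).presheaf.map _ ≫
        g.appLE _ _ _).hom a = _
      rw [Scheme.Hom.map_appLE]
      rfl
  obtain ⟨Mt, hMt, hMt'⟩ := hfg t ht
  obtain ⟨My, hMy, hMy'⟩ := hfg y hy
  haveI := flatOff_of_etaleOff hoff t ht
  haveI : Module.Finite A Γ(Y, ⊤) := finite_of_regPair hty hB (Mt ⊔ My) (hMt.sup hMy)
    (fun b => (hMt' b).imp fun i hi => Submodule.mem_sup_left hi)
    (fun b => (hMy' b).imp fun i hi => Submodule.mem_sup_right hi)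
  refine ⟨inferInstanceAs (Module.Finite A Γ(Y, ⊤)), (IsOpenImmersion.isPullback f Y.toSpecΓ U.ι (Spec.map ψ) hg.symm ?_).flip⟩
  refine le_antisymm (fun P hP => ?_) ?_
  · rw [U.opensRange_ι] at hP
    obtain ⟨h, hh, hh'⟩ := hexU _ hP
    have hP' : P ∈ PrimeSpectrum.basicOpen (φ h) := hh'
    haveI := isLocalization_basicOpen_of_qcqs (U := (⊤ : Y.Opens)) isCompact_univ isQuasiSeparated_univ (φ h)
    have hr := PrimeSpectrum.localization_away_comap_range Γ(Y, Y.basicOpen (φ h)) (φ h)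
    obtain ⟨Q, hQ⟩ := (Set.ext_iff.1 hr P).2 hP'
    refine ⟨(hVaff h hh).fromSpec Q, ?_⟩
    rw [← Scheme.Hom.comp_apply, IsAffineOpen.fromSpec_toSpecΓ]
    exact hQ
  · rintro _ ⟨x, rfl⟩
    show Spec.map ψ (Y.toSpecΓ x) ∈ U.ι.opensRange
    rw [← Scheme.Hom.comp_apply, ← hg, U.opensRange_ι]
    exact (f x).2

end Groth.Agent.PurityLib
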