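import Mathlib

/-!
Regular pairs on modules.
-/

set_option autoImplicit false
set_option linter.style.haveILetI false
universe u v

namespace Groth.Agent.PurityLib

variable {R : Type u} [CommRing R] {M : Type v} [AddCommGroup M] [Module R M]

/-- `a, b` is a weakly regular pair on `M`. -/
def RegPair (M : Type v) [AddCommGroup M] [Module R M] (a b : R) : Prop :=
  (∀ m : M, a • m = 0 → m = 0) ∧ ∀ m n : M, b • m = a • n → ∃ m', m = a • m'

theorem RegPair.smul_pow_eq_zero {a b : R} (h : RegPair M a b) (i : ℕ) {m : M} (hm : a ^ i • m = 0) : m = 0 := by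
  induction i with
  | zero => simpa using hm
  | succ i ih => exact ih (h.1 _ (by rw [smul_smul, ← pow_succ']; exact hm))

theorem RegPair.exists_of_pow_right {a b : R} (h : RegPair M a b) (j : ℕ) {m n : M}
    (hmn : b ^ j • m = a • n) : ∃ m', m = a • m' := by
  induction j generalizing m n with
  | zero => exact ⟨n, by simpa using hmn⟩
  | succ j ih =>
    obtain ⟨w, hw⟩ := h.2 (b ^ j • m) n (by rw [smul_smul, ← pow_succ']; exact hmn)
    exact ih hw

theorem RegPair.exists_of_pow {a b : R} (h : RegPair M a b) (i j : ℕ) {m n : M}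
    (hmn : b ^ j • m = a ^ i • n) : ∃ m', m = a ^ i • m' := by
  induction i generalizing m with
  | zero => exact ⟨m, by simp⟩
  | succ i ih =>
    obtain ⟨m₁, rfl⟩ := h.exists_of_pow_right j (m := m) (n := a ^ i • n) (by rw [hmn, pow_succ', mul_smul])
    have h0 : b ^ j • m₁ = a ^ i • n := sub_eq_zero.1 (h.1 _ (by
      rw [smul_sub, smul_comm a (b ^ j), hmn, ← mul_smul, ← pow_succ', sub_self]))
    obtain ⟨m', rfl⟩ := ih h0
    exact ⟨m', by rw [pow_succ', mul_smul]⟩

theorem RegPair.pow {a b : R} (h : RegPair M a b) (i j : ℕ) : RegPair M (a ^ i) (b ^ j) :=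
  ⟨fun _ hm => h.smul_pow_eq_zero i hm, fun _ _ hmn => h.exists_of_pow i j hmn⟩

/-- A regular pair on the base is regular on every flat module. -/
theorem regPair_of_flat {a b : R} (h : RegPair R a b) [Module.Flat R M] : RegPair M a b := by
  classical
  have h0 : ∀ m : M, a • m = 0 → m = 0 := fun m hm => by
    have hreg : IsSMulRegular R a := fun x y hxy =>
      sub_eq_zero.1 (h.1 (x - y) (by rw [smul_sub]; exact sub_eq_zero.2 hxy))
    exact (hreg.lTensor M).of_injective (TensorProduct.rid R M).symm.toLinearMap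
      (TensorProduct.rid R M).symm.injective (by simpa using hm)
  refine ⟨h0, fun m n hmn => ?_⟩
  have hrel : ∑ i : Fin 2, ![b, -a] i • ![m, n] i = 0 := by simp [Fin.sum_univ_two, hmn]
  obtain ⟨k, c, z, hz, hc⟩ := Module.Flat.iff_forall_isTrivialRelation.1 inferInstance hrel
  have hj : ∀ j, ∃ w, c 0 j = a * w := fun j => by
    obtain ⟨w, hw⟩ := h.2 (c 0 j) (c 1 j) (by
      have := hc j
      simp only [Fin.sum_univ_two, Matrix.cons_val_zero, Matrix.cons_val_one] at this
      show b * c 0 j = a * c 1 j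
      linear_combination this)
    exact ⟨w, hw⟩
  choose w hw using hj
  refine ⟨∑ j, w j • z j, ?_⟩
  have h1 := hz 0
  simp only [Matrix.cons_val_zero] at h1
  rw [h1, Finset.smul_sum]
  exact Finset.sum_congr rfl fun j _ => by rw [hw, mul_smul]

/-- `M` is flat away from the closed point. -/
def FlatOff [IsLocalRing R] (M : Type v) [AddCommGroup M] [Module R M] : Prop :=
  ∀ h ∈ IsLocalRing.maximalIdeal R, Module.Flat R (LocalizedModule.Away h M)

/-- `M` has depth at least two. -/
def DepthTwo [IsLocalRing R] (M : Type v) [AddCommGroup M] [Module R M] : Prop :=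
  ∃ p ∈ IsLocalRing.maximalIdeal R, ∃ q ∈ IsLocalRing.maximalIdeal R, RegPair M p q

theorem exists_pow_smul_eq_zero {a b : R} (h : RegPair R a b) (x : R) [Module.Flat R (LocalizedModule.Away x M)]
    {m : M} (hm : a • m = 0) : ∃ k, x ^ k • m = 0 := by
  let l := LocalizedModule.mkLinearMap (Submonoid.powers x) M
  have h0 : l m = 0 := (regPair_of_flat (M := LocalizedModule.Away x M) h).1 _ (by rw [← map_smul, hm, map_zero])
  obtain ⟨⟨_, k, rfl⟩, hk⟩ := (IsLocalizedModule.eq_zero_iff (Submonoid.powers x) l).1 h0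
  exact ⟨k, hk⟩

theorem exists_pow_smul_eq_smul {a b : R} (h : RegPair R a b) (x : R) [Module.Flat R (LocalizedModule.Away x M)]
    {m n : M} (hm : b • m = a • n) : ∃ (k : ℕ) (m' : M), x ^ k • m = a • m' := by
  let l := LocalizedModule.mkLinearMap (Submonoid.powers x) M
  obtain ⟨w, hw⟩ := (regPair_of_flat (M := LocalizedModule.Away x M) h).2 (l m) (l n) (by rw [← map_smul, hm, map_smul])
  obtain ⟨⟨w', ⟨_, k, rfl⟩⟩, hk⟩ := IsLocalizedModule.surj (Submonoid.powers x) l w
  have : l (x ^ k • m) = l (a • w') := by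
    rw [map_smul, map_smul, hw, ← hk, Submonoid.smul_def, smul_comm]
  obtain ⟨⟨_, j, rfl⟩, hj⟩ := (IsLocalizedModule.eq_iff_exists (Submonoid.powers x) l).1 this
  simp only [Submonoid.smul_def] at hj
  exact ⟨j + k, x ^ j • w', by rw [pow_add, mul_smul, hj, smul_comm]⟩

/-- On a module of depth two that is flat off the closed point, every regular pair of `R` is regular. -/
theorem regPair_of_depthTwo [IsLocalRing R] (hflat : FlatOff (R := R) M) (hM : DepthTwo (R := R) M) {t g : R}
    (h : RegPair R t g) : RegPair M t g := by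
  obtain ⟨p, hp, q, hq, hpq⟩ := hM
  haveI := hflat p hp
  haveI := hflat q hq
  have h1 : ∀ m : M, t • m = 0 → m = 0 := fun m hm => by
    obtain ⟨k, hk⟩ := exists_pow_smul_eq_zero h p hm
    exact hpq.smul_pow_eq_zero k hk
  refine ⟨h1, fun m n hmn => ?_⟩
  obtain ⟨i, m₁, hm₁⟩ := exists_pow_smul_eq_smul h p hmn
  obtain ⟨j, m₂, hm₂⟩ := exists_pow_smul_eq_smul h q hmn
  obtain ⟨m₃, rfl⟩ := hpq.exists_of_pow i j (m := m₁) (n := m₂) (sub_eq_zero.1 (h1 _ (by
    rw [smul_sub, smul_comm t (q ^ j), ← hm₁, smul_comm t (p ^ i), ← hm₂, smul_comm, sub_self])))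
  exact ⟨m₃, sub_eq_zero.1 (hpq.smul_pow_eq_zero i (m := m - t • m₃) (by
    rw [smul_sub, hm₁, smul_comm, sub_self]))⟩

end Groth.Agent.PurityLib
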