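import Groth.Agent.PurityLib.RegularFree
import Groth.Agent.RegLocal.Consequences
import Mathlib.RingTheory.Invariant.Basic

/-!
Tensor factors of a regular local ring that is free over a regular local ring.
-/

set_option autoImplicit false
set_option linter.style.haveILetI false
universe u v
open TensorProduct IsLocalRing

namespace Groth.Agent.PurityLib

variable {R : Type u} [CommRing R] [IsRegularLocalRing R] {A : Type v} [CommRing A] [IsRegularLocalRing A] [Algebra R A]
  [Module.Finite R A]

/-- If `A = B ⊗ E` for subalgebras `B, E` of `A`, both factors are free. -/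
theorem free_of_tensor (hinj : Function.Injective (algebraMap R A)) (B E : Subalgebra R A)
    (e : (B ⊗[R] E) ≃ₐ[R] A) : Module.Free R B := by
  haveI := free_of_regular R A hinj
  haveI : Module.Finite R B := Module.Finite.of_injective B.val.toLinearMap Subtype.val_injective
  haveI : Module.Finite R E := Module.Finite.of_injective E.val.toLinearMap Subtype.val_injective
  let b := Module.Free.chooseBasis R A
  obtain ⟨i, hi⟩ : ∃ i, IsUnit (b.repr 1 i) := by
    by_contra hne
    push Not at hne
    have h1 : (1 : A) ∈ (maximalIdeal R).map (algebraMap R A) := by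
      rw [← b.linearCombination_repr 1, Finsupp.linearCombination_apply]
      refine Ideal.sum_mem _ fun i _ => ?_
      show b.repr 1 i • b i ∈ _
      rw [Algebra.smul_def]
      exact Ideal.mul_mem_right _ _ (Ideal.mem_map_of_mem _ (hne i))
    haveI : IsLocalHom (algebraMap R A) := RingHom.IsIntegral.isLocalHom (algebraMap_isIntegral_iff.2 inferInstance) hinj
    exact (maximalIdeal.isMaximal A).ne_top ((Ideal.eq_top_iff_one _).2 (IsLocalRing.map_maximalIdeal_le _ h1))
  let g : E →ₗ[R] R := (↑hi.unit⁻¹ : R) • ((b.coord i).comp E.val.toLinearMap)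
  have hg : g 1 = 1 := by
    show (↑hi.unit⁻¹ : R) * b.repr ((1 : E) : A) i = 1
    rw [OneMemClass.coe_one, IsUnit.val_inv_mul]
  haveI : Module.Projective R A := inferInstance
  haveI : Module.Projective R (B ⊗[R] E) := Module.Projective.of_equiv e.symm.toLinearEquiv
  let p : (B ⊗[R] E) →ₗ[R] B := (TensorProduct.rid R B).toLinearMap ∘ₗ (LinearMap.lTensor B g)
  haveI : Module.Projective R B := Module.Projective.of_split
    (Algebra.TensorProduct.includeLeft : B →ₐ[R] (B ⊗[R] E)).toLinearMap p (LinearMap.ext fun x => by
      show TensorProduct.rid R B (LinearMap.lTensor B g (x ⊗ₜ[R] (1 : E))) = x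
      rw [LinearMap.lTensor_tmul, hg, TensorProduct.rid_tmul, one_smul])
  haveI : Module.FinitePresentation R B := Module.finitePresentation_of_finite R B
  haveI : Module.Flat R B := Module.Flat.of_projective
  exact Module.free_of_flat_of_isLocalRing

theorem isUnit_fixed' {R : Type u} [CommRing R] {A : Type v} [CommRing A] [Algebra R A] {H : Type*} [Group H]
    [MulSemiringAction H A] [SMulCommClass H R A] {N : Subgroup H} (b : FixedPoints.subalgebra R A N)
    (hb : IsUnit (b : A)) : IsUnit b := by
  obtain ⟨c, hc⟩ := hb.exists_right_inv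
  have hcfix : ∀ σ : N, σ • c = c := fun σ => by
    refine hb.mul_left_cancel ?_
    have h := congrArg (σ • ·) hc
    simp only [smul_mul', b.2 σ, smul_one] at h
    rw [h, hc]
  exact IsUnit.of_mul_eq_one (⟨c, hcfix⟩ : FixedPoints.subalgebra R A N) (Subtype.ext hc)

/-- If `A = B ⊗ E` with `B` the invariants of a group, then `B` is regular. -/
theorem regular_of_tensor {H : Type*} [Group H] [MulSemiringAction H A] [SMulCommClass H R A]
    (hinj : Function.Injective (algebraMap R A)) (N : Subgroup H) (E : Subalgebra R A)
    (e : ((FixedPoints.subalgebra R A N) ⊗[R] E) ≃ₐ[R] A) (he : ∀ b, e (b ⊗ₜ 1) = b) :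
    IsRegularLocalRing (FixedPoints.subalgebra R A N) := by
  let B := FixedPoints.subalgebra R A N
  haveI := free_of_tensor hinj E B ((Algebra.TensorProduct.comm R E B).trans e)
  haveI : Module.Finite R B := Module.Finite.of_injective B.val.toLinearMap Subtype.val_injective
  haveI : Module.Finite R E := Module.Finite.of_injective E.val.toLinearMap Subtype.val_injective
  haveI : IsNoetherianRing B := IsNoetherianRing.of_finite R B
  haveI : IsLocalRing B := IsLocalRing.of_isUnit_or_isUnit_one_sub_self fun b =>
    (IsLocalRing.isUnit_or_isUnit_one_sub_self (b : A)).imp (fun h => isUnit_fixed' b h)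
      (fun h => isUnit_fixed' ((1 : B) - b) h)
  haveI : IsLocalHom (algebraMap B A) := ⟨fun b hb => isUnit_fixed' b hb⟩
  let e' : (B ⊗[R] E) ≃ₐ[B] A := { e with commutes' := fun b => he b }
  haveI : Module.Flat B A := Module.Flat.of_linearEquiv e'.symm.toLinearEquiv
  exact RegLocal.isRegularLocalRing_of_flat B A

end Groth.Agent.PurityLib
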