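import Groth.Agent.PurityLib.RegPair

/-!
Sections of an algebra over `D(g) ∪ D(y)`, as a subalgebra of the localization at `g`.
-/

set_option autoImplicit false
set_option linter.style.haveILetI false
universe u v
open Function

namespace Groth.Agent.PurityLib

variable {R : Type u} [CommRing R] (g y : R) (B : Type v) [CommRing B] [Algebra R B]

local notation "L" => Localization.Away (algebraMap R B g)

theorem smul_eq_mul' (r : R) (x : Localization.Away (algebraMap R B g)) :
    r • x = algebraMap B (Localization.Away (algebraMap R B g)) (algebraMap R B r) * x := by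
  rw [← IsScalarTower.algebraMap_apply, Algebra.smul_def]

theorem isUnit_algebraMap : IsUnit (algebraMap R (Localization.Away (algebraMap R B g)) g) := by
  rw [IsScalarTower.algebraMap_apply R B (Localization.Away (algebraMap R B g))]
  exact IsLocalization.Away.algebraMap_isUnit (algebraMap R B g)

theorem pow_smul_injective (i : ℕ) {x x' : Localization.Away (algebraMap R B g)} (h : g ^ i • x = g ^ i • x') :
    x = x' := by
  rw [Algebra.smul_def, Algebra.smul_def, map_pow] at h
  exact ((isUnit_algebraMap g B).pow i).mul_left_cancel h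

theorem exists_pow_smul_eq (x : Localization.Away (algebraMap R B g)) :
    ∃ (k : ℕ) (b : B), g ^ k • x = algebraMap B (Localization.Away (algebraMap R B g)) b := by
  obtain ⟨⟨b, ⟨_, k, rfl⟩⟩, hk⟩ := IsLocalization.surj (Submonoid.powers (algebraMap R B g)) x
  exact ⟨k, b, by rw [smul_eq_mul', map_pow, mul_comm]; exact hk⟩

theorem exists_pow_smul_eq_of_map_eq {b b' : B}
    (h : algebraMap B (Localization.Away (algebraMap R B g)) b = algebraMap B _ b') : ∃ e, g ^ e • b = g ^ e • b' := by
  obtain ⟨⟨_, e, rfl⟩, he⟩ := (IsLocalization.eq_iff_exists (Submonoid.powers (algebraMap R B g)) _).1 h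
  exact ⟨e, by rw [Algebra.smul_def, Algebra.smul_def, map_pow]; exact he⟩

theorem map_smul_alg (r : R) (b : B) :
    algebraMap B (Localization.Away (algebraMap R B g)) (r • b) = r • algebraMap B _ b :=
  (IsScalarTower.toAlgHom R B (Localization.Away (algebraMap R B g))).toLinearMap.map_smul r b

/-- Sections over `D(g) ∪ D(y)`. -/
def sec : Subalgebra R (Localization.Away (algebraMap R B g)) where
  carrier := {x | ∃ (N : ℕ) (b : B), y ^ N • x = algebraMap B _ b}
  mul_mem' := by
    rintro a a' ⟨N, b, hb⟩ ⟨N', b', hb'⟩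
    exact ⟨N + N', b * b', by rw [map_mul, ← hb, ← hb', smul_mul_smul_comm, pow_add]⟩
  add_mem' := by
    rintro a a' ⟨N, b, hb⟩ ⟨N', b', hb'⟩
    exact ⟨N + N', y ^ N' • b + y ^ N • b', by
      rw [map_add, map_smul_alg, map_smul_alg, ← hb, ← hb', smul_add, smul_smul, smul_smul, ← pow_add, ← pow_add,
        add_comm N']⟩
  algebraMap_mem' r := ⟨0, algebraMap R B r, by rw [pow_zero, one_smul, ← IsScalarTower.algebraMap_apply]⟩

/-- The canonical map `B → sec`. -/
def toSec : B →ₐ[R] sec g y B :=
  (IsScalarTower.toAlgHom R B (Localization.Away (algebraMap R B g))).codRestrict _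
    fun b => ⟨0, b, by rw [pow_zero, one_smul]; rfl⟩

theorem coe_toSec (b : B) : (toSec g y B b : Localization.Away (algebraMap R B g)) = algebraMap B _ b := rfl

theorem toSec_injective (h : ∀ b : B, g • b = 0 → b = 0) : Injective (toSec g y B) := by
  refine (injective_iff_map_eq_zero _).2 fun b hb => ?_
  obtain ⟨e, he⟩ := exists_pow_smul_eq_of_map_eq g B (b := b) (b' := 0)
    (by rw [map_zero]; exact congrArg Subtype.val hb)
  rw [smul_zero] at he
  clear hb
  induction e with
  | zero => simpa using he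
  | succ e ih => exact ih (h _ (by rw [smul_smul, ← pow_succ']; exact he))

variable {g y}

/-- A section has a numerator `b` with `yᴺ b ∈ gⁱ B`. -/
theorem exists_rep {x : Localization.Away (algebraMap R B g)} (hx : x ∈ sec g y B) :
    ∃ (i N : ℕ) (b b' : B), g ^ i • x = algebraMap B _ b ∧ y ^ N • b = g ^ i • b' := by
  obtain ⟨k, b₁, hb₁⟩ := exists_pow_smul_eq g B x
  obtain ⟨N, b₂, hb₂⟩ := hx
  obtain ⟨e, he⟩ := exists_pow_smul_eq_of_map_eq g B (b := y ^ N • b₁) (b' := g ^ k • b₂)
    (by rw [map_smul_alg, map_smul_alg, ← hb₁, ← hb₂, smul_comm])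
  refine ⟨e + k, N, g ^ e • b₁, b₂, by rw [map_smul_alg, ← hb₁, smul_smul, pow_add], ?_⟩
  rw [smul_comm, he, smul_smul, pow_add]

theorem exists_pow_smul_mem (hgy : RegPair R g y) (r : R) [Module.Flat R (LocalizedModule.Away r B)]
    (x : sec g y B) : ∃ (k : ℕ) (b : B), r ^ k • x = toSec g y B b := by
  obtain ⟨i, N, b, b', hb, hbb'⟩ := exists_rep B x.2
  obtain ⟨k, b₃, hb₃⟩ := exists_pow_smul_eq_smul (hgy.pow i N) r hbb'
  exact ⟨k, b₃, Subtype.ext (pow_smul_injective g B i (by
    rw [Subalgebra.coe_smul, coe_toSec, smul_comm, hb, ← map_smul_alg, hb₃, map_smul_alg]))⟩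

theorem regPair_sec : RegPair (sec g y B) g y := by
  refine ⟨fun x hx => Subtype.ext (pow_smul_injective g B 1 ?_), fun c c' h => ?_⟩
  · rw [pow_one, ← Subalgebra.coe_smul, hx]; simp
  · obtain ⟨u, hu⟩ := isUnit_algebraMap g B
    let d : Localization.Away (algebraMap R B g) := ↑u⁻¹ * c
    have hd : g • d = c := by rw [Algebra.smul_def, ← hu, ← mul_assoc, Units.mul_inv, one_mul]
    have hyd : y • d = c' := pow_smul_injective g B 1 (by
      rw [pow_one, smul_comm, hd, ← Subalgebra.coe_smul, h, Subalgebra.coe_smul])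
    obtain ⟨N, b, hb⟩ := c'.2
    exact ⟨⟨d, N + 1, b, by rw [pow_succ, mul_smul, hyd, hb]⟩, Subtype.ext hd.symm⟩

/-- If `s` factors through `P` on which `g, y` is regular, then `s` maps sections into `B`. -/
theorem exists_smul_eq {P : Type*} [AddCommGroup P] [Module R P] (hP : RegPair P g y) (s : R)
    (u : B →ₗ[R] P) (v : P →ₗ[R] B) (huv : ∀ b, v (u b) = s • b) (x : sec g y B) :
    ∃ b : B, s • x = toSec g y B b := by
  obtain ⟨i, N, b, b', hb, hbb'⟩ := exists_rep B x.2
  obtain ⟨r, hr⟩ := hP.exists_of_pow i N (m := u b) (n := u b') (by rw [← map_smul, hbb', map_smul])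
  refine ⟨v r, Subtype.ext (pow_smul_injective g B i ?_)⟩
  rw [Subalgebra.coe_smul, coe_toSec, smul_comm, hb, ← map_smul_alg, ← map_smul_alg, ← huv, hr, map_smul]

theorem finite_sec [IsNoetherianRing R] {k : ℕ} {N : ℕ} (hgy : RegPair R g y) (u : B →ₗ[R] (Fin k → R))
    (v : (Fin k → R) →ₗ[R] B) (huv : ∀ b, v (u b) = g ^ N • b) : Module.Finite R (sec g y B) := by
  haveI : Module.Finite R (LinearMap.range v) := Module.Finite.range v
  let ι : LinearMap.range v →ₗ[R] sec g y B := (toSec g y B).toLinearMap ∘ₗ (LinearMap.range v).subtype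
  let μ : sec g y B →ₗ[R] sec g y B := LinearMap.lsmul R (sec g y B) (g ^ N)
  have hμ : Injective μ := fun a b h => Subtype.ext (pow_smul_injective g B N (congrArg Subtype.val h))
  have hle : LinearMap.range μ ≤ LinearMap.range ι := by
    rintro _ ⟨x, rfl⟩
    obtain ⟨i, M, b, b', hb, hbb'⟩ := exists_rep B x.2
    obtain ⟨r, hr⟩ := (regPair_of_flat (M := Fin k → R) hgy).exists_of_pow i M (m := u b) (n := u b')
      (by rw [← map_smul, hbb', map_smul])
    refine ⟨⟨v r, r, rfl⟩, Subtype.ext (pow_smul_injective g B i ?_)⟩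
    show g ^ i • algebraMap B _ (v r) = g ^ i • g ^ N • (x : Localization.Away (algebraMap R B g))
    rw [smul_comm _ (g ^ N), hb, ← map_smul_alg, ← map_smul_alg, ← huv, hr]
    rw [v.map_smul]
  haveI : Module.Finite R (LinearMap.range μ) := Module.Finite.iff_fg.2
    ((isNoetherian_submodule.1 (isNoetherian_of_fg_of_noetherian _ (Module.Finite.iff_fg.1 (Module.Finite.range ι)))) _ hle)
  exact Module.Finite.equiv (LinearEquiv.ofInjective μ hμ).symm

end Groth.Agent.PurityLib
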