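import Groth.Agent.PurityLib.Off
import Groth.Agent.PurityLib.Factor
import Groth.Agent.EtDescent.Smooth

/-!
The induction step of purity: from `R/tR` to `R`.
-/

set_option autoImplicit false
set_option linter.style.haveILetI false
universe u

namespace Groth.Agent.PurityLib

variable {R : Type u} [CommRing R]

/-- Purity over `R`. -/
def PureRing (R : Type u) [CommRing R] [IsLocalRing R] : Prop :=
  ∀ (C : Type u) [CommRing C] [Algebra R C] [Module.Finite R C],
    DepthTwo (R := R) C → EtaleOff (R := R) C → Module.Free R C ∧ Algebra.Etale R C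

theorem mk_smul (I : Ideal R) {M : Type*} [AddCommGroup M] [Module R M] [Module (R ⧸ I) M] [IsScalarTower R (R ⧸ I) M]
    (r : R) (m : M) : Ideal.Quotient.mk I r • m = r • m := by
  rw [← Ideal.Quotient.algebraMap_eq, algebraMap_smul]

theorem regPair_quotient_pow {t g y : R} (htg : RegPair R t g) (hgy : RegPair (R ⧸ Ideal.span {t}) g y) :
    ∀ n, RegPair (R ⧸ Ideal.span {t ^ n}) g y := by
  have key : ∀ (n : ℕ) (r : R), (∃ c, g * r = t ^ n * c) → ∃ c', r = t ^ n * c' := by
    intro n r ⟨c, hc⟩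
    obtain ⟨c', hc'⟩ := (htg.pow n 1).2 r c (by rw [pow_one]; exact hc)
    exact ⟨c', hc'⟩
  have h2 : ∀ (n : ℕ) (a b c : R), y * a = g * b + t ^ n * c → ∃ b' c', a = g * b' + t ^ n * c' := by
    intro n
    induction n with
    | zero => intro a _ _ _; exact ⟨0, a, by simp⟩
    | succ n ih =>
      intro a b c h
      obtain ⟨a₁, ha₁⟩ := hgy.2 (Ideal.Quotient.mk _ a) (Ideal.Quotient.mk _ b) (by
        show Ideal.Quotient.mk _ (y * a) = Ideal.Quotient.mk _ (g * b)
        rw [Ideal.Quotient.eq, Ideal.mem_span_singleton']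
        exact ⟨t ^ n * c, by rw [h, pow_succ]; ring⟩)
      obtain ⟨a₁, rfl⟩ := Ideal.Quotient.mk_surjective a₁
      obtain ⟨a₂, ha₂⟩ : ∃ a₂, a = g * a₁ + t * a₂ := by
        have : Ideal.Quotient.mk (Ideal.span {t}) a = Ideal.Quotient.mk _ (g * a₁) := ha₁
        rw [Ideal.Quotient.eq, Ideal.mem_span_singleton'] at this
        obtain ⟨a₂, ha₂⟩ := this
        exact ⟨a₂, by linear_combination -ha₂⟩
      subst ha₂
      obtain ⟨b₂, hb₂⟩ := key 1 (b - y * a₁) ⟨y * a₂ - t ^ n * c, by rw [pow_one]; linear_combination (-1 : R) * h⟩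
      obtain ⟨b₃, c₃, hbc⟩ := ih a₂ b₂ c (sub_eq_zero.1 (htg.1 _ (by
        rw [smul_eq_mul]
        linear_combination h + g * hb₂)))
      exact ⟨a₁ + t * b₃, c₃, by rw [hbc, pow_succ]; ring⟩
  intro n
  refine ⟨fun m hm => ?_, fun m m' h => ?_⟩
  · obtain ⟨r, rfl⟩ := Ideal.Quotient.mk_surjective m
    have hm' : Ideal.Quotient.mk (Ideal.span {t ^ n}) (g * r) = 0 := hm
    rw [Ideal.Quotient.eq_zero_iff_mem, Ideal.mem_span_singleton'] at hm' ⊢
    obtain ⟨c, hc⟩ := hm'
    obtain ⟨c', hc'⟩ := key n r ⟨c, by rw [← hc]; ring⟩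
    exact ⟨c', by rw [hc', mul_comm]⟩
  · obtain ⟨a, rfl⟩ := Ideal.Quotient.mk_surjective m
    obtain ⟨b, rfl⟩ := Ideal.Quotient.mk_surjective m'
    have h' : Ideal.Quotient.mk (Ideal.span {t ^ n}) (y * a) = Ideal.Quotient.mk _ (g * b) := h
    rw [Ideal.Quotient.eq, Ideal.mem_span_singleton'] at h'
    obtain ⟨c, hc⟩ := h'
    obtain ⟨b', c', hb'⟩ := h2 n a b c (by linear_combination -hc)
    refine ⟨Ideal.Quotient.mk _ b', ?_⟩
    show Ideal.Quotient.mk (Ideal.span {t ^ n}) a = Ideal.Quotient.mk _ (g * b')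
    rw [Ideal.Quotient.eq, Ideal.mem_span_singleton']
    exact ⟨c', by rw [hb']; ring⟩

variable [IsLocalRing R] [IsNoetherianRing R] {A : Type u} [CommRing A] [Algebra R A] [Module.Finite R A]

theorem step {t g y : R} (ht : t ∈ IsLocalRing.maximalIdeal R) (hg : g ∈ IsLocalRing.maximalIdeal R)
    (hy : y ∈ IsLocalRing.maximalIdeal R) (htg : RegPair R t g) (hgy : RegPair (R ⧸ Ideal.span {t}) g y)
    [IsLocalRing (R ⧸ Ideal.span {t})] (hpure : PureRing (R ⧸ Ideal.span {t}))
    (hA : DepthTwo (R := R) A) (hét : EtaleOff (R := R) A) : Module.Free R A ∧ Algebra.Etale R A := by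
  classical
  let I : Ideal R := Ideal.span {t}
  let J : Ideal A := I.map (algebraMap R A)
  let B := A ⧸ J
  let gb := Ideal.Quotient.mk I g
  let yb := Ideal.Quotient.mk I y
  have hflat := flatOff_of_etaleOff hét
  have hRA : RegPair A t g := regPair_of_depthTwo hflat hA htg
  have hJ : ∀ a : A, a ∈ J → ∃ a', a = t • a' := fun a ha => by
    simp only [J, I, Ideal.map_span, Set.image_singleton, Ideal.mem_span_singleton'] at ha
    obtain ⟨a', rfl⟩ := ha
    exact ⟨a', by rw [Algebra.smul_def, mul_comm]⟩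
  have hJ' : ∀ a' : A, t • a' ∈ J := fun a' => by
    rw [Algebra.smul_def]
    exact J.mul_mem_right _ (Ideal.mem_map_of_mem _ (Ideal.mem_span_singleton_self t))
  have hgB : ∀ b : B, gb • b = 0 → b = 0 := fun b hb => by
    obtain ⟨a, rfl⟩ := Ideal.Quotient.mk_surjective b
    rw [mk_smul, ← Ideal.Quotient.mkₐ_eq_mk R, ← map_smul, Ideal.Quotient.mkₐ_eq_mk, Ideal.Quotient.eq_zero_iff_mem] at hb
    obtain ⟨a', ha'⟩ := hJ _ hb
    obtain ⟨a'', rfl⟩ := hRA.2 a a' ha'
    exact Ideal.Quotient.eq_zero_iff_mem.2 (hJ' a'')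
  have hgyb : RegPair (R ⧸ I) gb yb := by
    refine ⟨fun m hm => hgy.1 m (by rw [← mk_smul I]; exact hm), fun m m' h => ?_⟩
    obtain ⟨w, hw⟩ := hgy.2 m m' (by rw [← mk_smul I, ← mk_smul I]; exact h)
    exact ⟨w, by rw [mk_smul I]; exact hw⟩
  have hmax : ∀ r : R, Ideal.Quotient.mk I r ∈ IsLocalRing.maximalIdeal (R ⧸ I) → r ∈ IsLocalRing.maximalIdeal R := by
    intro r hr
    rw [IsLocalRing.mem_maximalIdeal, mem_nonunits_iff] at hr ⊢
    exact fun hu => hr (hu.map _)
  have hmax' : ∀ r : R, r ∈ IsLocalRing.maximalIdeal R → Ideal.Quotient.mk I r ∈ IsLocalRing.maximalIdeal (R ⧸ I) := by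
    intro r hr
    rw [IsLocalRing.mem_maximalIdeal, mem_nonunits_iff] at hr ⊢
    intro hu
    obtain ⟨s, hs⟩ := Ideal.Quotient.mk_surjective (↑hu.unit⁻¹ : R ⧸ I)
    have h1 : Ideal.Quotient.mk I (r * s) = 1 := by rw [map_mul, hs]; exact hu.mul_val_inv
    rw [← map_one (Ideal.Quotient.mk I), Ideal.Quotient.eq] at h1
    have hmem : r * s - 1 ∈ IsLocalRing.maximalIdeal R :=
      (Ideal.span_le.2 (Set.singleton_subset_iff.2 ht) : I ≤ _) h1
    have hrs : r * s ∈ IsLocalRing.maximalIdeal R := Ideal.mul_mem_right _ _ (by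
      rwa [IsLocalRing.mem_maximalIdeal, mem_nonunits_iff])
    exact (IsLocalRing.maximalIdeal.isMaximal R).ne_top ((Ideal.eq_top_iff_one _).2 (by
      simpa using sub_mem hrs hmem))
  haveI : Module.Finite (R ⧸ I) B := Module.Finite.of_restrictScalars_finite R _ _
  have hétB : ∀ h ∈ IsLocalRing.maximalIdeal (R ⧸ I), Algebra.Etale (R ⧸ I) (Lo h B) := fun h hh => by
    obtain ⟨r, rfl⟩ := Ideal.Quotient.mk_surjective h
    haveI := hét r (hmax r hh)
    exact etale_lo_quotient I r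
  -- the algebra of sections
  let C := sec gb yb B
  haveI : Module.Flat (R ⧸ I) (LocalizedModule.Away gb B) := by
    haveI := hétB gb (hmax' g hg)
    exact flat_localizedModule_of_etale gb
  obtain ⟨k₀, N₀, u₀, v₀, huv₀⟩ := exists_factor (M := B) gb
  haveI : Module.Finite (R ⧸ I) C := finite_sec B hgyb u₀ v₀ huv₀
  obtain ⟨hfree, hetC⟩ := hpure C ⟨gb, hmax' g hg, yb, hmax' y hy, regPair_sec B⟩ fun h hh => by
    haveI := hétB h hh
    exact etale_lo_sec hgyb hgB h
  -- lift `C` to an étale algebra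
  letI : Algebra R C := ((algebraMap (R ⧸ I) C).comp (Ideal.Quotient.mk I)).toAlgebra
  haveI : IsScalarTower R (R ⧸ I) C := IsScalarTower.of_algebraMap_eq fun _ => rfl
  obtain ⟨Q, _, _, φ, hQ, hφ, -⟩ := EtDescent.exists_etale_lift R (R ⧸ I) C Ideal.Quotient.mk_surjective
  haveI := hflat t ht
  obtain ⟨k, N, u, v, huv⟩ := exists_factor (M := A) t
  let K : Ideal R := Ideal.span {t ^ (N + 1)}
  let D := A ⧸ K.map (algebraMap R A)
  have hK : ∀ a : A, a ∈ K.map (algebraMap R A) → ∃ a', a = t ^ (N + 1) • a' := fun a ha => by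
    simp only [K, Ideal.map_span, Set.image_singleton, Ideal.mem_span_singleton'] at ha
    obtain ⟨a', rfl⟩ := ha
    exact ⟨a', by rw [Algebra.smul_def, mul_comm]⟩
  have hn : ∀ d : D, t ^ (N + 1) • d = 0 := fun d => by
    obtain ⟨a, rfl⟩ := Ideal.Quotient.mk_surjective d
    show Ideal.Quotient.mk _ (t ^ (N + 1) • a) = 0
    rw [Algebra.smul_def]
    exact Ideal.Quotient.eq_zero_iff_mem.2 (Ideal.mul_mem_right _ _ (Ideal.mem_map_of_mem _ (Ideal.mem_span_singleton_self _)))
  -- the map `D → C`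
  have hKJ : K.map (algebraMap R A) ≤ J :=
    Ideal.map_mono (Ideal.span_le.2 (Set.singleton_subset_iff.2
      (Ideal.mem_span_singleton'.2 ⟨t ^ N, (pow_succ t N).symm⟩)))
  let f : D →ₐ[R] C := ((toSec gb yb B).restrictScalars R).comp (Ideal.Quotient.factorₐ R hKJ)
  have hf : ∀ a : A, f (Ideal.Quotient.mk _ a) = toSec gb yb B (Ideal.Quotient.mk J a) := fun a => rfl
  have hker : ∀ d, f d = 0 → ∃ d', d = t • d' := fun d hd => by
    obtain ⟨a, rfl⟩ := Ideal.Quotient.mk_surjective d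
    rw [hf, ← map_zero (toSec gb yb B)] at hd
    obtain ⟨a', rfl⟩ := hJ a (Ideal.Quotient.eq_zero_iff_mem.1 (toSec_injective gb yb B hgB hd))
    exact ⟨Ideal.Quotient.mk _ a', rfl⟩
  have hsurjh : ∀ h ∈ IsLocalRing.maximalIdeal R, ∀ c : C, ∃ (e : ℕ) (d : D), h ^ e • c = f d := fun h hh c => by
    haveI : Module.Flat (R ⧸ I) (LocalizedModule.Away (Ideal.Quotient.mk I h) B) := by
      haveI := hétB _ (hmax' h hh)
      exact flat_localizedModule_of_etale _
    obtain ⟨e, b, hb⟩ := exists_pow_smul_mem (B := B) hgyb (Ideal.Quotient.mk I h) c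
    obtain ⟨a, rfl⟩ := Ideal.Quotient.mk_surjective b
    exact ⟨e, Ideal.Quotient.mk _ a, by rw [hf, ← hb, ← map_pow, mk_smul]⟩
  have hcoe : ∀ (r : R) (c : C), ((r • c : C) : Localization.Away (algebraMap (R ⧸ I) B gb)) =
      Ideal.Quotient.mk I r • (c : Localization.Away (algebraMap (R ⧸ I) B gb)) := fun r c => by
    rw [← mk_smul I r c]; rfl
  -- every element of `C` comes from `B`
  have hsurj : Function.Surjective (toSec gb yb B) := fun c => by
    obtain ⟨x, rfl⟩ := hφ c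
    obtain ⟨z, hz, hzφ⟩ := exists_lift_sec g y t (N + 1) hn f hker (hsurjh g hg) (hsurjh y hy) Q φ x
    let π : (Fin k → R) →ₗ[R] (Fin k → R ⧸ K) := (Algebra.linearMap R (R ⧸ K)).compLeft (Fin k)
    have hπ : Function.Surjective π := fun w => by
      choose r hr using fun i => Ideal.Quotient.mk_surjective (w i)
      exact ⟨r, funext hr⟩
    have hu : (Submodule.restrictScalars R (K.map (algebraMap R A))) ≤ LinearMap.ker (π ∘ₗ u) := fun a ha => by
      obtain ⟨a', rfl⟩ := hK a ha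
      rw [LinearMap.mem_ker, map_smul]
      funext i
      show t ^ (N + 1) • (π (u a')) i = 0
      show t ^ (N + 1) • Ideal.Quotient.mk K (u a' i) = Ideal.Quotient.mk K 0
      exact Ideal.Quotient.eq.2 (by rw [sub_zero]; exact K.mul_mem_right _ (Ideal.mem_span_singleton_self _))
    let u' : D →ₗ[R] (Fin k → R ⧸ K) :=
      (Submodule.restrictScalars R (K.map (algebraMap R A))).liftQ (π ∘ₗ u) hu ∘ₗ
        (Submodule.Quotient.restrictScalarsEquiv R (K.map (algebraMap R A))).symm.toLinearMap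
    have hv : LinearMap.ker π ≤ LinearMap.ker ((Ideal.Quotient.mkₐ R (K.map (algebraMap R A))).toLinearMap ∘ₗ v) := fun w hw => by
      have hw' : ∀ i, ∃ c, w i = t ^ (N + 1) * c := fun i => by
        have := congrFun (LinearMap.mem_ker.1 hw) i
        obtain ⟨c, hc⟩ := Ideal.mem_span_singleton'.1 (Ideal.Quotient.eq_zero_iff_mem.1 this)
        exact ⟨c, hc.symm.trans (mul_comm _ _)⟩
      choose w' hw' using hw'
      rw [LinearMap.mem_ker, show w = t ^ (N + 1) • w' from funext fun i => hw' i, map_smul]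
      exact hn _
    let v' : (Fin k → R ⧸ K) →ₗ[R] D := ((LinearMap.ker π).liftQ _ hv) ∘ₗ
      (π.quotKerEquivOfSurjective hπ).symm.toLinearMap
    have huv' : ∀ d, v' (u' d) = t ^ N • d := fun d => by
      obtain ⟨a, rfl⟩ := Ideal.Quotient.mk_surjective d
      show ((LinearMap.ker π).liftQ _ hv) ((π.quotKerEquivOfSurjective hπ).symm (π (u a))) = _
      rw [show (π.quotKerEquivOfSurjective hπ).symm (π (u a)) = Submodule.Quotient.mk (u a) from
        (LinearEquiv.symm_apply_eq _).2 rfl, Submodule.liftQ_apply]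
      show Ideal.Quotient.mk _ (v (u a)) = _
      rw [huv]; rfl
    have hgyK := regPair_quotient_pow htg hgy (N + 1)
    have hPK : RegPair (Fin k → R ⧸ K) g y := by
      refine ⟨fun m hm => funext fun i => hgyK.1 _ (congrFun hm i), fun m m' h => ?_⟩
      choose w hw using fun i => hgyK.2 (m i) (m' i) (congrFun h i)
      exact ⟨w, funext hw⟩
    obtain ⟨d, hd⟩ := exists_smul_eq D hPK (t ^ N) u' v' huv' ⟨z, hz⟩
    have hd' : t ^ N • z = algebraMap D (Localization.Away (algebraMap R D g)) d := congrArg Subtype.val hd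
    obtain ⟨i, d₁, hd₁⟩ := exists_pow_smul_eq g D z
    obtain ⟨e, he⟩ := exists_pow_smul_eq_of_map_eq g D (b := g ^ i • d) (b' := t ^ N • d₁)
      (by rw [map_smul_alg, map_smul_alg, ← hd', ← hd₁, smul_comm])
    obtain ⟨a, rfl⟩ := Ideal.Quotient.mk_surjective d
    obtain ⟨a₁, rfl⟩ := Ideal.Quotient.mk_surjective d₁
    have he' : g ^ e • g ^ i • a - g ^ e • t ^ N • a₁ ∈ K.map (algebraMap R A) := Ideal.Quotient.eq.1 he
    obtain ⟨w, hw⟩ := hK _ he'
    rw [sub_eq_iff_eq_add, smul_comm _ (t ^ N), pow_succ, mul_smul, ← smul_add, smul_smul, ← pow_add] at hw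
    obtain ⟨a', rfl⟩ := hRA.exists_of_pow N (e + i) hw
    have h3 : g ^ (e + i) • a' = t • w + g ^ e • a₁ := sub_eq_zero.1 (hRA.smul_pow_eq_zero N (by
      rw [smul_sub, smul_comm, hw, sub_self]))
    refine ⟨Ideal.Quotient.mk J a', ?_⟩
    rw [← hf]
    apply Subtype.ext
    refine pow_smul_injective gb B (e + i) ?_
    have h4 : algebraMap C (Lo g C) (g ^ i • φ x) = algebraMap C (Lo g C) (f (Ideal.Quotient.mk _ a₁)) := by
      rw [map_smul_alg, ← hzφ, ← map_smul, hd₁, mapAway_algebraMap]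
    obtain ⟨e', he₄⟩ := exists_pow_smul_eq_of_map_eq g C h4
    have h5 : g ^ i • φ x = f (Ideal.Quotient.mk _ a₁) := Subtype.ext (pow_smul_injective gb B e' (by
      have := congrArg Subtype.val he₄
      rw [hcoe, hcoe (g ^ e'), map_pow] at this
      exact this))
    have h6 : g ^ (e + i) • f (Ideal.Quotient.mk _ a') = g ^ (e + i) • φ x := by
      rw [← AlgHom.map_smul_of_tower, pow_add, mul_smul (g ^ e) (g ^ i) (φ x), h5, ← AlgHom.map_smul_of_tower, ← pow_add]
      show f (Ideal.Quotient.mk _ (g ^ (e + i) • a')) = f (Ideal.Quotient.mk _ (g ^ e • a₁))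
      rw [hf, hf]
      exact congrArg _ (Ideal.Quotient.eq.2 (by rw [h3, add_sub_cancel_right]; exact hJ' w))
    have h7 := congrArg Subtype.val h6
    rw [hcoe, hcoe, map_pow] at h7
    exact h7
  let eBC : B ≃ₐ[R ⧸ I] C := AlgEquiv.ofBijective (toSec gb yb B) ⟨toSec_injective gb yb B hgB, hsurj⟩
  haveI : Module.Free (R ⧸ I) B := Module.Free.of_equiv eBC.symm.toLinearEquiv
  haveI : Algebra.Etale (R ⧸ I) B := Algebra.Etale.of_equiv eBC.symm
  haveI : Module.Free R A := free_of_quotient ht hRA.1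
  exact ⟨inferInstance, etale_of_quotient ht⟩

end Groth.Agent.PurityLib
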