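import Groth.Agent.PurityLib.LocalDvd
import Groth.Agent.PurityLib.InertiaGen
import Mathlib.LinearAlgebra.Matrix.ToLinearEquiv

/-!
Invariant rings of an abelian group whose inertia groups form a direct decomposition.
-/

set_option autoImplicit false
set_option linter.style.haveILetI false
universe u w
open Pointwise TensorProduct Polynomial

namespace Groth.Agent.PurityLib

variable {R : Type u} [CommRing R] {A : Type u} [CommRing A] [Algebra R A] {H : Type w} [Group H]
  [MulSemiringAction H A] [SMulCommClass H R A]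

set_option quotPrecheck false in
local notation "Fix" N => FixedPoints.subalgebra R A ↥(N : Subgroup H)

theorem isUnramifiedAt_fixed [Finite H] [IsDomain A] [IsIntegrallyClosed A]
    (hfix : ∀ a : A, (∀ h : H, h • a = a) → a ∈ Set.range (algebraMap R A))
    [Algebra.IsIntegral R A] (N : Subgroup H) [N.Normal] (Q : Ideal (Fix N)) [Q.IsPrime]
    (hN : ∀ P : Ideal A, P.IsPrime → P.under R = Q.under R → P.inertia H ≤ N) : Algebra.IsUnramifiedAt R Q := by
  let B := Fix N
  haveI : Algebra.IsInvariant R A H := ⟨fun a ha => hfix a ha⟩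
  haveI : Algebra.IsIntegral B A := Algebra.IsIntegral.tower_top R
  obtain ⟨P, -, hP, hPQ⟩ := Ideal.exists_ideal_over_prime_of_isIntegral (S := A) Q (⊥ : Ideal A)
    (by rw [← RingHom.ker_eq_comap_bot]; exact ((RingHom.injective_iff_ker_eq_bot _).1 (fun x y h => Subtype.ext h)).le.trans bot_le)
  haveI := hP
  have hle : P.inertia H ≤ N := hN P hP (by
    rw [Ideal.under, Ideal.under, IsScalarTower.algebraMap_eq R B A, ← Ideal.comap_comap, hPQ])
  refine isUnramifiedAt_of_inertia (G := H ⧸ N) (fun b hb => Algebra.IsInvariant.isInvariant (A := R) (G := H ⧸ N) b hb) Q ?_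
  intro g hg b
  induction g using QuotientGroup.induction_on with
  | H γ =>
    obtain ⟨ω, hω, hγω⟩ := ((Groth.Agent.S12935.result A H N P γ).2).1 fun x hx => by
      have h := hg (⟨x, fun n => hx n n.2⟩ : B)
      rw [← hPQ] at h
      exact h
    have hγ : γ ∈ N := (Subgroup.mul_mem_cancel_right N hω).1 (hle hγω)
    rw [(QuotientGroup.eq_one_iff γ).2 hγ, one_smul]

theorem exists_etale_lo [Finite H] [IsDomain A] [IsIntegrallyClosed A] [IsNoetherianRing R]
    (hfix : ∀ a : A, (∀ h : H, h • a = a) → a ∈ Set.range (algebraMap R A))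
    [Module.Finite R A] (N : Subgroup H) [N.Normal] [Module.Free R (Fix N)] (p : Ideal R) [p.IsPrime]
    (hN : ∀ P : Ideal A, P.IsPrime → P.under R = p → P.inertia H ≤ N) :
    ∃ h ∉ p, Algebra.Etale R (Lo h (Fix N)) := by
  let B := Fix N
  haveI : Module.Finite R B := Module.Finite.of_injective B.val.toLinearMap Subtype.val_injective
  haveI : Algebra.FinitePresentation R B := Algebra.FinitePresentation.of_finiteType.1 inferInstance
  obtain ⟨J, hJ⟩ : ∃ J : Ideal B, PrimeSpectrum.zeroLocus (J : Set B) = (Algebra.etaleLocus R B)ᶜ := by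
    obtain ⟨J, -, hJ⟩ := (PrimeSpectrum.isClosed_iff_zeroLocus_radical_ideal _).1 (Algebra.isOpen_etaleLocus (R := R) (A := B)).isClosed_compl
    exact ⟨J, hJ.symm⟩
  have hnle : ¬ J.comap (algebraMap R B) ≤ p := fun hle => by
    obtain ⟨Q, hJQ, hQ, hQp⟩ := Ideal.exists_ideal_over_prime_of_isIntegral p J hle
    haveI := hQ
    haveI := isUnramifiedAt_fixed hfix N Q fun P hP hPQ => hN P hP (hPQ.trans hQp)
    have h1 : (⟨Q, hQ⟩ : PrimeSpectrum B) ∈ Algebra.etaleLocus R B := Algebra.IsEtaleAt.of_isUnramifiedAt_of_flat Q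
    have h2 : (⟨Q, hQ⟩ : PrimeSpectrum B) ∈ PrimeSpectrum.zeroLocus (J : Set B) := hJQ
    rw [hJ] at h2
    exact h2 h1
  obtain ⟨h, hhJ, hhp⟩ := SetLike.not_le_iff_exists.1 hnle
  refine ⟨h, hhp, (Algebra.basicOpen_subset_etaleLocus_iff_etale (R := R) (f := algebraMap R B h)).1 fun Q hQ => ?_⟩
  by_contra hne
  have h3 : Q ∈ PrimeSpectrum.zeroLocus (J : Set B) := hJ.ge hne
  exact hQ (h3 hhJ)

theorem inertia_eq_of_under [IsDomain A] [Finite H] (hcomm : ∀ g h : H, g * h = h * g)
    (hfix : ∀ a : A, (∀ h : H, h • a = a) → a ∈ Set.range (algebraMap R A))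
    {P P' : Ideal A} [P.IsPrime] [P'.IsPrime] (h : P.under R = P'.under R) : P'.inertia H = P.inertia H := by
  haveI : Algebra.IsInvariant R A H := ⟨fun a ha => hfix a ha⟩
  obtain ⟨g, rfl⟩ := Algebra.IsInvariant.exists_smul_of_under_eq R A H P P' h
  refine le_antisymm (fun x hx => ?_) fun x hx => ?_
  · have h1 := inertia_smul_mem (g := g⁻¹) hx
    rwa [inv_smul_smul, inv_inv, hcomm g⁻¹ x, mul_assoc, inv_mul_cancel, mul_one] at h1
  · have h1 := inertia_smul_mem (g := g) hx
    rwa [hcomm g x, mul_assoc, mul_inv_cancel, mul_one] at h1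

variable [IsDomain A]

/-- Linear independence of a basis of invariants over the invariants of a complementary group, with all
conjugates. -/
theorem eq_zero_of_rows [Finite H] (hinj : Function.Injective (algebraMap R A))
    (hcomm : ∀ g h : H, g * h = h * g)
    (hfix : ∀ a : A, (∀ h : H, h • a = a) → a ∈ Set.range (algebraMap R A))
    {G K : Subgroup H} (hGK : G ⊔ K = ⊤) {ι : Type*} [Fintype ι] (b : Module.Basis ι R (Fix K))
    (x : ι → A) (hx : ∀ g : G, ∑ k, x k * ((g : H) • (b k : A)) = 0) : x = 0 := by
  classical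
  letI := Fintype.ofFinite H
  suffices key : ∀ (m : ℕ) (x : ι → A), (Finset.univ.filter fun k => x k ≠ 0).card ≤ m →
      (∀ g : G, ∑ k, x k * ((g : H) • (b k : A)) = 0) → x = 0 from key _ x le_rfl hx
  intro m
  induction m with
  | zero =>
    intro x hm _
    funext k
    by_contra hk
    have : k ∈ Finset.univ.filter fun k => x k ≠ 0 := by simpa using hk
    rw [Nat.le_zero, Finset.card_eq_zero] at hm
    simp [hm] at this
  | succ m ih =>
    intro x hm hx
    by_contra hx0
    obtain ⟨j, hj⟩ : ∃ j, x j ≠ 0 := not_forall.1 fun h => hx0 (funext h)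
    let S : Subgroup H :=
      { carrier := {h | ∀ k, x j * (h • x k) = (h • x j) * x k}
        one_mem' := fun k => by rw [one_smul, one_smul]
        mul_mem' := fun {a c} ha hc k => by
          refine mul_left_cancel₀ (show a • x j ≠ 0 from (smul_ne_zero_iff_ne a).2 hj) ?_
          have h1 := congrArg (a • ·) (hc k)
          simp only [smul_mul'] at h1
          rw [mul_smul, mul_smul]
          linear_combination x j * h1 + (a • c • x j) * ha k
        inv_mem' := fun {a} ha k => by
          have h1 := congrArg (a⁻¹ • ·) (ha k)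
          simp only [smul_mul', inv_smul_smul] at h1
          linear_combination -h1 }
    have hS : ∀ h : H, h ∈ G ∨ h ∈ K → h ∈ S := by
      intro h hh k
      have hrel : ∀ g : G, ∑ k, (h • x k) * ((g : H) • (b k : A)) = 0 := by
        intro g
        rcases hh with hh | hh
        · have h1 := congrArg (h • ·) (hx (⟨h, hh⟩⁻¹ * g))
          simp only [Finset.smul_sum, smul_mul', smul_zero, ← mul_smul] at h1
          simpa [← mul_assoc] using h1
        · have h1 := congrArg (h • ·) (hx g)
          simp only [Finset.smul_sum, smul_mul', smul_zero, ← mul_smul] at h1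
          rw [← h1]
          refine Finset.sum_congr rfl fun k _ => ?_
          rw [hcomm h g, mul_smul, show h • (b k : A) = b k from (b k).2 ⟨h, hh⟩]
      have hy := ih (fun k => x j * (h • x k) - (h • x j) * x k) ?_ fun g => by
        simp only [sub_mul, mul_assoc, Finset.sum_sub_distrib, ← Finset.mul_sum, hrel g, hx g, mul_zero, sub_self]
      · exact sub_eq_zero.1 (congrFun hy k)
      refine Nat.le_of_lt_succ (lt_of_lt_of_le (Finset.card_lt_card ⟨fun k hk => ?_, fun hsub => ?_⟩) hm)
      · simp only [Finset.mem_filter, Finset.mem_univ, true_and] at hk ⊢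
        intro h0
        exact hk (by rw [h0, smul_zero, mul_zero, mul_zero, sub_zero])
      · have := hsub (show j ∈ Finset.univ.filter fun k => x k ≠ 0 by simpa using hj)
        simp [mul_comm] at this
    have hall : ∀ h : H, ∀ k, x j * (h • x k) = (h • x j) * x k := fun h => by
      have hle : G ⊔ K ≤ S := sup_le (fun h hh => hS h (Or.inl hh)) (fun h hh => hS h (Or.inr hh))
      rw [hGK] at hle
      exact hle (Subgroup.mem_top h)
    let M : A := ∏ h ∈ Finset.univ.erase (1 : H), h • x j
    have hN : x j * M = ∏ h : H, h • x j := by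
      rw [← Finset.mul_prod_erase Finset.univ (fun h : H => h • x j) (Finset.mem_univ 1), one_smul]
    have hNfix : ∀ h : H, h • (x j * M) = x j * M := fun h => by
      rw [hN, Finset.smul_prod']
      exact Fintype.prod_bijective (h * ·) (Group.mulLeft_bijective h) _ _ fun y => (mul_smul h y _).symm
    have hr : ∀ k, ∃ r : R, algebraMap R A r = x k * M := fun k => hfix _ fun h => by
      refine mul_left_cancel₀ hj ?_
      have h1 := hNfix h
      simp only [smul_mul'] at h1 ⊢
      linear_combination (h • M) * hall h k + x k * h1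
    choose r hr using hr
    have h0 : ∑ k, r k • b k = 0 := Subtype.ext (by
      rw [AddSubmonoidClass.coe_finsetSum, ZeroMemClass.coe_zero]
      simp only [Subalgebra.coe_smul, Algebra.smul_def, Subalgebra.coe_mul, Subalgebra.coe_algebraMap, hr]
      have h1 := congrArg (M * ·) (hx 1)
      simp only [OneMemClass.coe_one, one_smul, Finset.mul_sum, mul_zero] at h1
      rw [← h1]
      exact Finset.sum_congr rfl fun k _ => by ring)
    have h2 : x j * M = 0 := by rw [← hr, Fintype.linearIndependent_iff.1 b.linearIndependent r h0 j, map_zero]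
    rw [hN, Finset.prod_eq_zero_iff] at h2
    obtain ⟨h, -, hh⟩ := h2
    exact hj ((smul_eq_zero_iff_eq h).1 hh)

/-- Dedekind: the conjugation functionals of a group acting faithfully on invariants are independent. -/
theorem eq_zero_of_cols {G K : Subgroup H} (hG : ∀ g ∈ G, (∀ z ∈ (Fix K), g • z = z) → g = 1)
    {ι : Type*} [Fintype ι] [Fintype G] (b : Module.Basis ι R (Fix K)) (c : G → A)
    (hc : ∀ k, ∑ g : G, c g * ((g : H) • (b k : A)) = 0) : c = 0 := by
  let χ : G → (Fix K) →* A := fun g =>
    { toFun := fun z => (g : H) • (z : A), map_one' := smul_one _, map_mul' := fun z z' => smul_mul' _ _ _ }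
  have hχ : Function.Injective χ := fun g g' he => by
    have h1 := hG ((g'⁻¹ * g : G) : H) (g'⁻¹ * g).2 fun z hz => by
      have h2 : (g : H) • z = (g' : H) • z := DFunLike.congr_fun he ⟨z, hz⟩
      rw [Subgroup.coe_mul, mul_smul, h2, Subgroup.coe_inv, inv_smul_smul]
    exact (inv_mul_eq_one.1 (Subtype.ext h1)).symm
  have hli := (linearIndependent_monoidHom (Fix K) A).comp χ hχ
  funext g
  refine Fintype.linearIndependent_iff.1 hli c (funext fun z => ?_) g
  let Λ : (Fix K) →ₗ[R] A :=
    { toFun := fun z => ∑ g : G, c g * ((g : H) • (z : A))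
      map_add' := fun z z' => by simp only [Subalgebra.coe_add, smul_add, mul_add, Finset.sum_add_distrib]
      map_smul' := fun r z => by
        simp only [Subalgebra.coe_smul, RingHom.id_apply, Finset.smul_sum]
        exact Finset.sum_congr rfl fun g _ => by rw [smul_comm, mul_smul_comm] }
  have h0 : Λ = 0 := b.ext fun k => hc k
  simp [χ]
  exact LinearMap.congr_fun h0 z

/-- The inductive step. -/
theorem fixed_le_sup [Finite H] [IsIntegrallyClosed A] [IsNoetherianRing R] [IsDomain R] [UniqueFactorizationMonoid R]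
    [Module.Finite R A] (hinj : Function.Injective (algebraMap R A))
    (hcomm : ∀ g h : H, g * h = h * g)
    (hfix : ∀ a : A, (∀ h : H, h • a = a) → a ∈ Set.range (algebraMap R A))
    (N G K : Subgroup H) (hNK : N ≤ K) (hGK : G ⊔ K = ⊤)
    (hG : ∀ g ∈ G, (∀ z ∈ (Fix K), g • z = z) → g = 1)
    [Module.Free R (Fix K)] [Module.Free R (Fix (N ⊔ G))]
    (hram : ∀ π : R, Prime π → (∀ P : Ideal A, P.IsPrime → P.under R = Ideal.span {π} → P.inertia H ≤ N ⊔ G) ∨
      (∀ P : Ideal A, P.IsPrime → P.under R = Ideal.span {π} → P.inertia H ≤ K)) :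
    (Fix N) ≤ (Fix (N ⊔ G)) ⊔ (Fix K) ∧ Module.Free R (Fix N) := by
  classical
  haveI : ∀ L : Subgroup H, L.Normal := fun L => ⟨fun n hn g => by
    rwa [hcomm g n, mul_assoc, mul_inv_cancel, mul_one]⟩
  letI : Fintype G := Fintype.ofFinite G
  let E := Fix (N ⊔ G)
  let B := Fix K
  haveI : Module.Finite R E := Module.Finite.of_injective E.val.toLinearMap Subtype.val_injective
  haveI : Module.Finite R B := Module.Finite.of_injective B.val.toLinearMap Subtype.val_injective
  let b := Module.Free.chooseBasis R B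
  let T := E ⊗[R] B
  let Φ : T →ₐ[R] A := Algebra.TensorProduct.productMap E.val B.val
  let bT := Algebra.TensorProduct.basis E b
  have hΦ : ∀ y : _ → E, Φ (∑ k, y k ⊗ₜ[R] b k) = ∑ k, (y k : A) * (b k : A) := fun y => by
    rw [map_sum]
    exact Finset.sum_congr rfl fun k _ => Algebra.TensorProduct.productMap_apply_tmul _ _ _ _
  have hrepr : ∀ t : T, t = ∑ k, (bT.repr t k) ⊗ₜ[R] b k := fun t => by
    conv_lhs => rw [← bT.sum_repr t]
    exact Finset.sum_congr rfl fun k _ => by
      rw [Algebra.TensorProduct.basis_apply, smul_tmul', smul_eq_mul, mul_one]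
  have hΦinj : Function.Injective Φ := (injective_iff_map_eq_zero Φ).2 fun t ht => by
    rw [hrepr t, hΦ] at ht
    have h1 := eq_zero_of_rows hinj hcomm hfix hGK b (fun k => (bT.repr t k : A)) fun g => by
      have h2 := congrArg ((g : H) • ·) ht
      simp only [Finset.smul_sum, smul_mul', smul_zero] at h2
      rw [← h2]
      exact Finset.sum_congr rfl fun k _ => by
        rw [show (g : H) • (bT.repr t k : A) = bT.repr t k from (bT.repr t k).2 ⟨g, le_sup_right (a := N) g.2⟩]
    rw [hrepr t]
    refine Finset.sum_eq_zero fun k _ => ?_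
    rw [show bT.repr t k = 0 from Subtype.ext (congrFun h1 k), zero_tmul]
  have hrange : ∀ a ∈ Φ.range, a ∈ E ⊔ B := fun a ha => by
    rw [← E.range_val, ← B.range_val, ← Algebra.TensorProduct.productMap_range]
    exact ha
  have hmain : ∀ z ∈ (Fix N), ∃ t : T, Φ t = z := by
    intro z hz
    -- a denominator
    let Tm : Matrix _ _ A := Matrix.of fun k l => ∑ g : G, ((g : H) • (b k : A)) * ((g : H) • (b l : A))
    let wv : _ → A := fun k => ∑ g : G, ((g : H) • (b k : A)) * ((g : H) • z)
    have hshift : ∀ (F : H → A) (g₀ : G), ∑ g : G, F (g₀ * g : H) = ∑ g : G, F g := fun F g₀ =>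
      Fintype.sum_bijective (g₀ * ·) (Group.mulLeft_bijective g₀) _ _ fun g => rfl
    have hT : ∀ k l, ∃ r : R, algebraMap R A r = Tm k l := fun k l => by
      refine hfix _ fun h => ?_
      have hS : ∀ h', h' ∈ G ∨ h' ∈ K → h' ∈ MulAction.stabilizer H (Tm k l) := fun h' hh => by
        show h' • (∑ g : G, _) = _
        simp only [Finset.smul_sum, smul_mul', ← mul_smul]
        rcases hh with hh | hh
        · exact hshift (fun x => (x • (b k : A)) * (x • (b l : A))) ⟨h', hh⟩
        · refine Finset.sum_congr rfl fun g _ => ?_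
          rw [hcomm h' g, mul_smul, mul_smul, show h' • (b k : A) = b k from (b k).2 ⟨h', hh⟩,
            show h' • (b l : A) = b l from (b l).2 ⟨h', hh⟩]
      have hle : G ⊔ K ≤ MulAction.stabilizer H (Tm k l) :=
        sup_le (fun h' hh => hS h' (Or.inl hh)) (fun h' hh => hS h' (Or.inr hh))
      rw [hGK] at hle
      exact hle (Subgroup.mem_top h)
    have hw : ∀ k, wv k ∈ E := fun k => by
      rintro ⟨h, hh⟩
      have hS : ∀ h', h' ∈ N ∨ h' ∈ G → h' ∈ MulAction.stabilizer H (wv k) := fun h' hh' => by
        show h' • (∑ g : G, _) = _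
        simp only [Finset.smul_sum, smul_mul', ← mul_smul]
        rcases hh' with hh' | hh'
        · refine Finset.sum_congr rfl fun g _ => ?_
          rw [hcomm h' g, mul_smul, mul_smul, show h' • (b k : A) = b k from (b k).2 ⟨h', hNK hh'⟩,
            show h' • z = z from hz ⟨h', hh'⟩]
        · exact hshift (fun x => (x • (b k : A)) * (x • z)) ⟨h', hh'⟩
      exact (sup_le (fun h' hh' => hS h' (Or.inl hh')) (fun h' hh' => hS h' (Or.inr hh')) :
        N ⊔ G ≤ MulAction.stabilizer H (wv k)) hh
    choose Tr hTr using hT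
    have hTm : Tm = (algebraMap R A).mapMatrix (Matrix.of Tr) := by
      ext k l; simp [Tm] at hTr ⊢; exact (hTr k l).symm
    let D : R := (Matrix.of Tr).det
    have hD : D ≠ 0 := fun h0 => by
      have h1 : Tm.det = 0 := by rw [hTm, ← RingHom.map_det]; exact (congrArg _ h0).trans (map_zero _)
      obtain ⟨v, hv, hTv⟩ := Matrix.exists_mulVec_eq_zero_iff.2 h1
      refine hv (eq_zero_of_rows hinj hcomm hfix hGK b v fun g => ?_)
      have h2 := eq_zero_of_cols hG b (fun g : G => ∑ l, v l * ((g : H) • (b l : A))) fun k => by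
        refine Eq.trans ?_ (congrFun hTv k)
        rw [Matrix.mulVec, dotProduct]
        simp only [Tm, Matrix.of_apply, Finset.sum_mul]
        rw [Finset.sum_comm]
        exact Finset.sum_congr rfl fun l _ => Finset.sum_congr rfl fun g _ => by ring
      exact congrFun h2 g
    let y : _ → E := fun k => ∑ l, (Matrix.of Tr).adjugate k l • (⟨wv l, hw l⟩ : E)
    have hy : (fun k => (y k : A)) = Tm.adjugate.mulVec wv := by
      funext k
      simp only [y, AddSubmonoidClass.coe_finsetSum, Subalgebra.coe_smul, Algebra.smul_def, hTm, Matrix.mulVec, dotProduct]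
      refine Finset.sum_congr rfl fun l _ => ?_
      rw [← RingHom.map_adjugate]
      rfl
    have hTy : Tm.mulVec (fun k => (y k : A)) = fun k => algebraMap R A D * wv k := by
      rw [hy, Matrix.mulVec_mulVec, Matrix.mul_adjugate, Matrix.smul_mulVec, Matrix.one_mulVec,
        show Tm.det = algebraMap R A D by rw [hTm, ← RingHom.map_det]]
      rfl
    have hc := eq_zero_of_cols hG b
      (fun g : G => ∑ l, (y l : A) * ((g : H) • (b l : A)) - algebraMap R A D * ((g : H) • z)) fun k => by
        have h3 := congrFun hTy k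
        simp only [Tm, Matrix.mulVec, dotProduct, Matrix.of_apply, wv] at h3
        simp only [sub_mul, Finset.sum_sub_distrib, Finset.sum_mul, Finset.mul_sum] at h3 ⊢
        rw [Finset.sum_comm, sub_eq_zero]
        refine Eq.trans ?_ (h3.trans ?_)
        · exact Finset.sum_congr rfl fun l _ => Finset.sum_congr rfl fun g _ => by ring
        · exact Finset.sum_congr rfl fun g _ => by ring
    let t₀ : T := ∑ k, y k ⊗ₜ[R] b k
    have ht₀ : Φ t₀ = algebraMap R A D * z := by
      rw [hΦ]
      have h4 := congrFun hc 1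
      simp only [Pi.zero_apply, OneMemClass.coe_one, one_smul, sub_eq_zero] at h4
      exact h4
    -- integral equation
    obtain ⟨P, hP, hPz⟩ := (Algebra.IsIntegral.isIntegral (R := R) z)
    have ht₀' : Polynomial.aeval t₀ (P.scaleRoots D) = 0 := hΦinj (by
      rw [← Polynomial.aeval_algHom_apply, ht₀, map_zero]
      exact Polynomial.scaleRoots_aeval_eq_zero hPz)
    haveI : IsIntegrallyClosed E := isIntegrallyClosed_fixed (N ⊔ G)
    haveI : IsIntegrallyClosed B := isIntegrallyClosed_fixed K
    haveI : Algebra.IsIntegral R T := inferInstance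
    have hloc : ∀ π : R, Prime π → ∃ s : R, ¬ π ∣ s ∧ ∃ w : T, s • t₀ = D • w := by
      intro π hπ
      let p := Ideal.span {π}
      haveI : p.IsPrime := (Ideal.span_singleton_prime hπ.ne_zero).2 hπ
      let J : Ideal T := Submodule.comap (LinearMap.mulRight T t₀) (Ideal.span {algebraMap R T D})
      have hJ : ¬ J.comap (algebraMap R T) ≤ p := by
        intro hle
        obtain ⟨q, hJq, hq, hqp⟩ := Ideal.exists_ideal_over_prime_of_isIntegral p J hle
        haveI := hq
        have hnq : ∀ h ∉ p, algebraMap R T h ∉ q := fun h hh hm => hh (hqp ▸ hm)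
        have hfound : ∃ s ∉ q, ∃ w, s * t₀ = algebraMap R T D * w := by
          rcases hram π hπ with hr | hr
          · obtain ⟨h, hh, het⟩ := exists_etale_lo hfix (N ⊔ G) p hr
            haveI := het
            let c : T ≃ₐ[R] B ⊗[R] E := Algebra.TensorProduct.comm R E B
            let q' : Ideal (B ⊗[R] E) := q.comap c.symm.toAlgHom
            haveI : q'.IsPrime := Ideal.comap_isPrime _ _
            obtain ⟨s, hs, w, hw⟩ := exists_notMem_dvd (B := B) (E := E) h q'
              (fun hm => hnq h hh (c.symm.commutes h ▸ (show c.symm (algebraMap R (B ⊗[R] E) h) ∈ q from hm))) hD (c t₀) P hP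
              (by rw [← AlgEquiv.coe_toAlgHom, Polynomial.aeval_algHom_apply, ht₀', map_zero])
            refine ⟨c.symm s, hs, c.symm w, c.injective ?_⟩
            simp only [map_mul, AlgEquiv.apply_symm_apply, AlgEquiv.commutes]
            exact hw
          · obtain ⟨h, hh, het⟩ := exists_etale_lo hfix K p hr
            haveI := het
            exact exists_notMem_dvd (B := E) (E := B) h q (hnq h hh) hD t₀ P hP ht₀'
        obtain ⟨s, hs, w, hw⟩ := hfound
        exact hs (hJq (Ideal.mem_span_singleton'.2 ⟨w, by rw [mul_comm]; exact hw.symm⟩))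
      obtain ⟨s, hs, hsp⟩ := SetLike.not_le_iff_exists.1 hJ
      obtain ⟨w, hw⟩ := Ideal.mem_span_singleton'.1 hs
      refine ⟨s, fun h => hsp (Ideal.mem_span_singleton.2 h), w, ?_⟩
      refine (Algebra.smul_def (A := T) s t₀).trans ((hw.symm.trans (mul_comm _ _)).trans (Algebra.smul_def (A := T) D w).symm)
    let c := Module.Free.chooseBasis R T
    have hdvd : ∀ i, D ∣ c.repr t₀ i := fun i => dvd_of_locally hD fun π hπ => by
      obtain ⟨s, hs, w, hw⟩ := hloc π hπ
      refine ⟨s, hs, c.repr w i, ?_⟩
      simpa using congrArg (fun t => c.repr t i) hw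
    choose a ha using hdvd
    refine ⟨∑ i, a i • c i, mul_left_cancel₀ ((map_ne_zero_iff _ hinj).2 hD) ?_⟩
    rw [← ht₀, ← Algebra.smul_def, ← map_smul, Finset.smul_sum]
    congr 1
    conv_rhs => rw [← c.sum_repr t₀]
    exact Finset.sum_congr rfl fun i _ => by rw [ha i, mul_smul]
  have hΦN : ∀ t, Φ t ∈ (Fix N) := fun t n => by
    rw [hrepr t, hΦ, Finset.smul_sum]
    refine Finset.sum_congr rfl fun k _ => ?_
    rw [smul_mul', show n • (bT.repr t k : A) = bT.repr t k from (bT.repr t k).2 ⟨n, le_sup_left (b := G) n.2⟩,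
      show n • (b k : A) = b k from (b k).2 ⟨n, hNK n.2⟩]
  refine ⟨fun z hz => ?_, ?_⟩
  · obtain ⟨t, rfl⟩ := hmain z hz
    exact hrange _ ⟨t, rfl⟩
  · exact Module.Free.of_equiv (LinearEquiv.ofBijective (Φ.codRestrict (Fix N) hΦN).toLinearMap
      ⟨fun x y h => hΦinj (congrArg Subtype.val h), fun z => by
        obtain ⟨t, ht⟩ := hmain z z.2
        exact ⟨t, Subtype.ext ht⟩⟩)

end Groth.Agent.PurityLib
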