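import Groth.Agent.PurityLib.WildProduct
import Groth.Agent.RegLocal.UFD

/-!
Invariant rings of complementary inertia groups generate.
-/

set_option autoImplicit false
set_option linter.style.haveILetI false
universe u w
open Pointwise

namespace Groth.Agent.PurityLib

variable {H : Type w} [Group H]

theorem natCard_biSup_le [Finite H] (hcomm : ∀ g h : H, g * h = h * g) {ι : Type*} (G : ι → Subgroup H)
    (p : ℕ) (hG : ∀ i, Nat.card (G i) = p) (s : Finset ι) : Nat.card (⨆ j ∈ s, G j : Subgroup H) ≤ p ^ s.card := by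
  classical
  induction s using Finset.induction with
  | empty => simp
  | insert a s ha ih =>
    rw [Finset.iSup_insert, Finset.card_insert_of_notMem ha, pow_succ']
    haveI : (⨆ j ∈ s, G j : Subgroup H).Normal := ⟨fun n hn g => by
      rwa [hcomm g n, mul_assoc, mul_inv_cancel, mul_one]⟩
    have h1 : ((G a ⊔ ⨆ j ∈ s, G j : Subgroup H) : Set H) = (G a : Set H) * ((⨆ j ∈ s, G j : Subgroup H) : Set H) :=
      Subgroup.mul_normal _ _
    calc Nat.card (G a ⊔ ⨆ j ∈ s, G j : Subgroup H)
        = Nat.card ((G a : Set H) * ((⨆ j ∈ s, G j : Subgroup H) : Set H) : Set H) := by rw [← h1]; rfl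
      _ ≤ Nat.card (G a : Set H) * Nat.card ((⨆ j ∈ s, G j : Subgroup H) : Set H) := Set.natCard_mul_le
      _ ≤ p * p ^ s.card := Nat.mul_le_mul (hG a).le ih

theorem iSup_fixed_eq_top {R : Type u} [CommRing R] [IsRegularLocalRing R] {A : Type u} [CommRing A] [IsDomain A]
    [IsIntegrallyClosed A] [Algebra R A] [Module.Finite R A] (hinj : Function.Injective (algebraMap R A))
    [Finite H] [MulSemiringAction H A] [SMulCommClass H R A] [FaithfulSMul H A]
    (hfix : ∀ a : A, (∀ h : H, h • a = a) → a ∈ Set.range (algebraMap R A))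
    (hcomm : ∀ g h : H, g * h = h * g)
    (p n : ℕ) [Fact p.Prime] (hcard : Nat.card H = p ^ n) (Gi : Fin n → Subgroup H)
    (hGi : ∀ i, Nat.card (Gi i) = p) (hsup : (⨆ i, Gi i) = ⊤)
    (hMR3 : ∀ P : Ideal A, P.IsPrime → P.height = 1 → P.inertia H ≠ ⊥ → ∃ i, P.inertia H = Gi i)
    (hMR4 : ∀ i, Module.Free R
      (FixedPoints.subalgebra R A ↥(⨆ j ∈ (Finset.univ.erase i : Finset (Fin n)), Gi j : Subgroup H))) :
    (⨆ i, FixedPoints.subalgebra R A ↥(⨆ j ∈ (Finset.univ.erase i : Finset (Fin n)), Gi j : Subgroup H)) = ⊤ := by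
  classical
  haveI := RegLocal.isDomain (R := R)
  haveI := RegLocal.ufd R
  haveI : ∀ L : Subgroup H, L.Normal := fun L => ⟨fun m hm g => by
    rwa [hcomm g m, mul_assoc, mul_inv_cancel, mul_one]⟩
  let K : Fin n → Subgroup H := fun i => ⨆ j ∈ (Finset.univ.erase i : Finset (Fin n)), Gi j
  have hle : ∀ {i j : Fin n}, j ≠ i → Gi j ≤ K i := fun {i j} h =>
    le_iSup₂ (f := fun j (_ : j ∈ (Finset.univ.erase i : Finset (Fin n))) => Gi j) j
      (Finset.mem_erase.2 ⟨h, Finset.mem_univ j⟩)
  have hGK : ∀ i, Gi i ⊔ K i = ⊤ := fun i => top_le_iff.1 (hsup.ge.trans (iSup_le fun j => by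
    by_cases h : j = i
    · exact h ▸ le_sup_left
    · exact (hle h).trans le_sup_right))
  have hKne : ∀ i, K i ≠ ⊤ := fun i h => by
    have h1 := natCard_biSup_le hcomm Gi p hGi (Finset.univ.erase i)
    rw [show (⨆ j ∈ (Finset.univ.erase i : Finset (Fin n)), Gi j) = K i from rfl, h, Subgroup.card_top, hcard,
      Finset.card_erase_of_mem (Finset.mem_univ i), Finset.card_univ, Fintype.card_fin] at h1
    exact absurd h1 (not_le.2 (Nat.pow_lt_pow_right (Fact.out : p.Prime).one_lt (by have := i.2; omega)))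
  have hfaith : ∀ i, ∀ g ∈ Gi i, (∀ z ∈ FixedPoints.subalgebra R A ↥(K i), g • z = z) → g = 1 := fun i g hg hfz => by
    by_contra hg1
    refine hKne i (eq_top_of_fixed (A := A) (K i) fun a ha h => ?_)
    have hafix : Gi i ⊔ K i ≤ MulAction.stabilizer H a := sup_le (fun g' hg' => by
      haveI : Fact (Nat.card (Gi i)).Prime := ⟨by rw [hGi i]; exact Fact.out⟩
      have h2 : (⟨g', hg'⟩ : Gi i) ∈ Subgroup.zpowers (⟨g, hg⟩ : Gi i) := by
        rcases (Subgroup.zpowers (⟨g, hg⟩ : Gi i)).eq_bot_or_eq_top_of_prime_card with h0 | h0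
        · exact absurd (congrArg Subtype.val (Subgroup.zpowers_eq_bot.1 h0)) hg1
        · rw [h0]; exact Subgroup.mem_top _
      obtain ⟨m, hm⟩ := Subgroup.mem_zpowers_iff.1 h2
      have h3 : g ^ m = g' := congrArg Subtype.val hm
      rw [← h3]
      exact Subgroup.zpow_mem _ (hfz a fun k => ha k k.2) m) (fun g' hg' => ha g' hg')
    rw [hGK i] at hafix
    exact hafix (Subgroup.mem_top h)
  have key : ∀ S : Finset (Fin n), Module.Free R (FixedPoints.subalgebra R A ↥(⨆ j ∈ Sᶜ, Gi j : Subgroup H)) ∧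
      FixedPoints.subalgebra R A ↥(⨆ j ∈ Sᶜ, Gi j : Subgroup H) ≤
        ⨆ i, FixedPoints.subalgebra R A ↥(K i) := by
    intro S
    induction S using Finset.induction with
    | empty =>
      have htop : ∀ z ∈ FixedPoints.subalgebra R A ↥(⨆ j ∈ (∅ : Finset (Fin n))ᶜ, Gi j : Subgroup H),
          z ∈ Set.range (algebraMap R A) := fun z hz => hfix z fun h => hz ⟨h, by
        rw [Finset.compl_empty]
        simp only [Finset.mem_univ, iSup_pos]
        exact hsup ▸ Subgroup.mem_top h⟩
      refine ⟨Module.Free.of_equiv (AlgEquiv.ofBijective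
        (Algebra.ofId R (FixedPoints.subalgebra R A ↥(⨆ j ∈ (∅ : Finset (Fin n))ᶜ, Gi j : Subgroup H)))
        ⟨fun x y h => hinj (congrArg Subtype.val h), fun z => ?_⟩).toLinearEquiv, fun z hz => ?_⟩
      · obtain ⟨r, hr⟩ := htop z z.2
        exact ⟨r, Subtype.ext hr⟩
      · obtain ⟨r, rfl⟩ := htop z hz
        exact Subalgebra.algebraMap_mem _ r
    | insert i S hi ih =>
      obtain ⟨hfree, hsub⟩ := ih
      let N : Subgroup H := ⨆ j ∈ (insert i S)ᶜ, Gi j
      have hN : N ⊔ Gi i = ⨆ j ∈ Sᶜ, Gi j := by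
        refine le_antisymm (sup_le (iSup₂_le fun j hj => ?_) ?_) (iSup₂_le fun j hj => ?_)
        · exact le_iSup₂ (f := fun j (_ : j ∈ Sᶜ) => Gi j) j (by simp at hj ⊢; exact hj.2)
        · exact le_iSup₂ (f := fun j (_ : j ∈ Sᶜ) => Gi j) i (by simpa using hi)
        · by_cases h : j = i
          · exact h ▸ le_sup_right
          · exact le_sup_of_le_left (le_iSup₂ (f := fun j (_ : j ∈ (insert i S)ᶜ) => Gi j) j
              (by simp at hj ⊢; exact ⟨h, hj⟩))
      have hNK : N ≤ K i := iSup₂_le fun j hj => hle (by simp at hj; exact hj.1)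
      haveI := hMR4 i
      haveI : Module.Free R (FixedPoints.subalgebra R A ↥(N ⊔ Gi i)) := by rw [hN]; exact hfree
      have hram : ∀ π : R, Prime π →
          (∀ P : Ideal A, P.IsPrime → P.under R = Ideal.span {π} → P.inertia H ≤ N ⊔ Gi i) ∨
          (∀ P : Ideal A, P.IsPrime → P.under R = Ideal.span {π} → P.inertia H ≤ K i) := by
        intro π hπ
        by_cases hex : ∃ P : Ideal A, P.IsPrime ∧ P.under R = Ideal.span {π}
        swap
        · exact Or.inl fun P h1 h2 => absurd ⟨P, h1, h2⟩ hex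
        obtain ⟨P, hP, hPπ⟩ := hex
        haveI := hP
        have hsame : ∀ P' : Ideal A, P'.IsPrime → P'.under R = Ideal.span {π} → P'.inertia H = P.inertia H :=
          fun P' h1 h2 => by
            haveI := h1
            exact inertia_eq_of_under hcomm hfix (hPπ.trans h2.symm)
        by_cases hb : P.inertia H = ⊥
        · exact Or.inl fun P' h1 h2 => by rw [hsame P' h1 h2, hb]; exact bot_le
        have hh : P.height = 1 := by
          haveI : (Ideal.span {π}).IsPrime := (Ideal.span_singleton_prime hπ.ne_zero).2 hπ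
          refine le_antisymm ((height_le_under (R := R) P).trans ?_) (Order.one_le_iff_pos.2 (pos_iff_ne_zero.2 ?_))
          · rw [hPπ]
            exact Ideal.height_le_one_of_isPrincipal_of_mem_minimalPrimes (Ideal.span {π}) _
              (by rw [Ideal.minimalPrimes_eq_subsingleton_self]; rfl)
          · rw [Ne, Ideal.height_eq_zero_iff_eq_bot]
            intro h0
            have h1 : π ∈ P.under R := hPπ ▸ Ideal.mem_span_singleton_self π
            rw [h0, Ideal.under, Ideal.mem_comap, Ideal.mem_bot] at h1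
            exact hπ.ne_zero (hinj (h1.trans (map_zero _).symm))
        obtain ⟨l, hl⟩ := hMR3 P hP hh hb
        by_cases hli : l = i
        · exact Or.inl fun P' h1 h2 => by rw [hsame P' h1 h2, hl, hli]; exact le_sup_right
        · exact Or.inr fun P' h1 h2 => by rw [hsame P' h1 h2, hl]; exact hle hli
      obtain ⟨hsub', hfree'⟩ := fixed_le_sup hinj hcomm hfix N (Gi i) (K i) hNK (hGK i) (hfaith i) hram
      refine ⟨hfree', hsub'.trans (sup_le ?_ (le_iSup (fun i => FixedPoints.subalgebra R A ↥(K i)) i))⟩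
      rw [hN]
      exact hsub
  refine top_le_iff.1 fun z _ => (key Finset.univ).2 ?_
  rintro ⟨h, hh⟩
  simp only [Finset.compl_univ, Finset.notMem_empty, iSup_false, iSup_bot] at hh
  rw [Subgroup.mem_bot] at hh
  show h • z = z
  rw [hh, one_smul]

end Groth.Agent.PurityLib
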